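/-
Operators of one orthogonal factor: the skew maps of a singular vector and an orthogonal one, their exponentials,
and negated reflections.
-/
import Cfsg.Agent.Lib.FormWreath.Slot
import Cfsg.Agent.Lib.Transvec.Quad

set_option autoImplicit false
set_option linter.unusedSectionVars false

namespace Cfsg.Agent.OrthWreath

open scoped Matrix
open Matrix Cfsg.Agent.Transvec Cfsg.Agent.TensorMax Cfsg.Agent.FormWreath

variable {F : Type*} [Field F] {ι : Type} [Fintype ι] [DecidableEq ι]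

local notation "σ₁" => RingEquiv.refl F

/-- A non-degenerate symmetric bilinear form. -/
abbrev Sym (f : (ι → F) → (ι → F) → F) : Prop := SF (RingEquiv.refl F) 1 f

/-- The quadratic form whose polar form is f. -/
def qf (f : (ι → F) → (ι → F) → F) (v : ι → F) : F := f v v / 2

variable {f : (ι → F) → (ι → F) → F}

theorem Sym.comm' (hf : Sym f) (x y : ι → F) : f x y = f y x := by
  rw [hf.symm x y, one_mul, RingEquiv.refl_apply]

theorem Sym.smul_right' (hf : Sym f) (a : F) (x y : ι → F) : f x (a • y) = a * f x y := by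
  rw [hf.smul_right, RingEquiv.refl_apply]

theorem Sym.neg_right (hf : Sym f) (x y : ι → F) : f x (-y) = -f x y := by
  rw [hf.comm', hf.neg_left, hf.comm']

theorem pol_qf (hf : Sym f) (h2 : (2 : F) ≠ 0) (x y : ι → F) : Orth.pol (qf f) x y = f x y := by
  show qf f (x + y) - qf f x - qf f y = f x y
  simp only [qf, hf.add_left, hf.add_right]
  rw [hf.comm' y x]
  field_simp
  ring

theorem qf_nondeg (hf : Sym f) (h2 : (2 : F) ≠ 0) : Geo.IsNondegenerateQuadraticForm (qf f) where
  smul c v := by simp only [qf, hf.smul_left, hf.smul_right']; ring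
  polar_bilinear := by
    have e : QuadraticMap.polar (qf f) = f := funext fun x => funext fun y => pol_qf hf h2 x y
    rw [e]
    exact ⟨hf.add_left, hf.smul_left, hf.add_right, fun a x y => hf.smul_right' a x y⟩
  nondegenerate := by
    have e : QuadraticMap.polar (qf f) = f := funext fun x => funext fun y => pol_qf hf h2 x y
    rw [e]
    intro v hv
    obtain ⟨w, hw⟩ : ∃ w, f v w ≠ 0 := by
      by_contra h
      push Not at h
      exact hv (hf.nondeg v h)
    exact ⟨⟨w, by rwa [hf.comm']⟩, ⟨w, hw⟩⟩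

/-- The map x ↦ f(x, q) p. -/
def av (hf : Sym f) (p q : ι → F) : (ι → F) →ₗ[F] ι → F := (hf.formL q).smulRight p

/-- The map x ↦ f(x, c) c. -/
def Cop (hf : Sym f) (c : ι → F) : (ι → F) →ₗ[F] ι → F := av hf c c

/-- The map x ↦ f(x, c) w − f(x, w) c. -/
def Aop (hf : Sym f) (c w : ι → F) : (ι → F) →ₗ[F] ι → F := av hf w c - av hf c w

variable (hf : Sym f)

@[simp] theorem av_apply (p q x : ι → F) : av hf p q x = f x q • p := rfl

@[simp] theorem Cop_apply (c x : ι → F) : Cop hf c x = f x c • c := rfl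

@[simp] theorem Aop_apply (c w x : ι → F) : Aop hf c w x = f x c • w - f x w • c := rfl

theorem Cop_adj (c x y : ι → F) : f (Cop hf c x) y = f x (Cop hf c y) := by
  simp only [Cop_apply, hf.smul_left, hf.smul_right', hf.comm' c y]
  ring

theorem Aop_adj (c w x y : ι → F) : f (Aop hf c w x) y = -f x (Aop hf c w y) := by
  simp only [Aop_apply, hf.sub_left, hf.sub_right, hf.smul_left, hf.smul_right', hf.comm' c y, hf.comm' w y]
  ring

theorem Aop_add (c w w' : ι → F) : Aop hf c (w + w') = Aop hf c w + Aop hf c w' :=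
  LinearMap.ext fun x => by
    simp only [Aop_apply, LinearMap.add_apply, hf.add_right]
    module

theorem Aop_smul (c w : ι → F) (s : F) : Aop hf c (s • w) = s • Aop hf c w :=
  LinearMap.ext fun x => by
    simp only [Aop_apply, LinearMap.smul_apply, hf.smul_right']
    module

theorem Aop_smul_left (c w : ι → F) (s : F) : Aop hf (s • c) w = s • Aop hf c w :=
  LinearMap.ext fun x => by
    simp only [Aop_apply, LinearMap.smul_apply, hf.smul_right']
    module

theorem Aop_neg (c w : ι → F) : Aop hf c (-w) = -Aop hf c w := by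
  exact LinearMap.ext fun x => by
    simp only [Aop_apply, LinearMap.neg_apply, hf.neg_right]
    module

theorem Cop_smul (c : ι → F) (s : F) : Cop hf (s • c) = (s * s) • Cop hf c :=
  LinearMap.ext fun x => by
    simp only [Cop_apply, LinearMap.smul_apply, hf.smul_right']
    module

theorem Cop_Cop {c : ι → F} (hc : f c c = 0) (x : ι → F) : Cop hf c (Cop hf c x) = 0 := by
  simp [hf.smul_left, hc]

theorem Cop_Aop {c w : ι → F} (hc : f c c = 0) (hw : f w c = 0) (x : ι → F) :
    Cop hf c (Aop hf c w x) = 0 := by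
  simp [hf.sub_left, hf.smul_left, hc, hw]

theorem Aop_Cop {c w : ι → F} (hc : f c c = 0) (hw : f w c = 0) (x : ι → F) :
    Aop hf c w (Cop hf c x) = 0 := by
  simp [hf.smul_left, hc, hf.comm' c w, hw]

theorem Aop_Aop {c w w' : ι → F} (hc : f c c = 0) (hw : f w c = 0) (hw' : f w' c = 0) (x : ι → F) :
    Aop hf c w (Aop hf c w' x) = -f w w' • Cop hf c x := by
  simp only [Aop_apply, Cop_apply, hf.sub_left, hf.smul_left, hc, hw', hf.comm' c w, hw, hf.comm' w' w,
    mul_zero, sub_zero, zero_smul, zero_sub]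
  module

theorem Aop_cube {c w : ι → F} (hc : f c c = 0) (hw : f w c = 0) (x : ι → F) :
    Aop hf c w (Aop hf c w (Aop hf c w x)) = 0 := by
  rw [Aop_Aop hf hc hw hw, Cop_Aop hf hc hw, smul_zero]

/-! ### Exponentials -/

/-- The map x ↦ x + A x + A² x / 2. -/
def Elin (c w : ι → F) : (ι → F) →ₗ[F] ι → F :=
  LinearMap.id + Aop hf c w + (2⁻¹ : F) • Aop hf c w ∘ₗ Aop hf c w

theorem Elin_apply (c w x : ι → F) :
    Elin hf c w x = x + Aop hf c w x + (2⁻¹ : F) • Aop hf c w (Aop hf c w x) := rfl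

theorem Elin_mul (h2 : (2 : F) ≠ 0) {c w w' : ι → F} (hc : f c c = 0) (hw : f w c = 0) (hw' : f w' c = 0)
    (x : ι → F) : Elin hf c w (Elin hf c w' x) = Elin hf c (w + w') x := by
  have hs : f (w + w') c = 0 := by rw [hf.add_left, hw, hw', add_zero]
  have e1 : Aop hf c w (Aop hf c w' (Aop hf c w' x)) = 0 := by
    rw [Aop_Aop hf hc hw' hw', map_smul, Aop_Cop hf hc hw, smul_zero]
  have e2 : Aop hf c w (Aop hf c w (Aop hf c w' x)) = 0 := by
    rw [Aop_Aop hf hc hw hw', map_smul, Aop_Cop hf hc hw, smul_zero]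
  simp only [Elin_apply, map_add, map_smul, e1, e2, map_zero, smul_zero, add_zero]
  rw [Aop_Aop hf hc hw hw', Aop_Aop hf hc hs hs, Aop_Aop hf hc hw hw, Aop_Aop hf hc hw' hw', Aop_add,
    LinearMap.add_apply, hf.add_left, hf.add_right, hf.add_right, hf.comm' w' w]
  match_scalars <;> field_simp <;> ring

theorem Elin_zero (c x : ι → F) : Elin hf c 0 x = x := by
  simp [Elin_apply, hf.zero_right]

open Classical in
/-- The exponential of x ↦ f(x, c) w − f(x, w) c, for isotropic c and w orthogonal to c. -/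
noncomputable def eA (c w : ι → F) : GL ι F :=
  if h : f c c = 0 ∧ f w c = 0 ∧ (2 : F) ≠ 0 then
    { val := LinearMap.toMatrix' (Elin hf c w)
      inv := LinearMap.toMatrix' (Elin hf c (-w))
      val_inv := by
        rw [← LinearMap.toMatrix'_comp, show Elin hf c w ∘ₗ Elin hf c (-w) = LinearMap.id from
          LinearMap.ext fun x => by
            rw [LinearMap.comp_apply, Elin_mul hf h.2.2 h.1 h.2.1 (by rw [hf.neg_left, h.2.1, neg_zero]),
              add_neg_cancel, Elin_zero]; rfl, LinearMap.toMatrix'_id]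
      inv_val := by
        rw [← LinearMap.toMatrix'_comp, show Elin hf c (-w) ∘ₗ Elin hf c w = LinearMap.id from
          LinearMap.ext fun x => by
            rw [LinearMap.comp_apply, Elin_mul hf h.2.2 h.1 (by rw [hf.neg_left, h.2.1, neg_zero]) h.2.1,
              neg_add_cancel, Elin_zero]; rfl, LinearMap.toMatrix'_id] }
  else 1

theorem mv_eA (h2 : (2 : F) ≠ 0) {c w : ι → F} (hc : f c c = 0) (hw : f w c = 0) (x : ι → F) :
    mv (eA hf c w) x = Elin hf c w x := by
  rw [eA, dif_pos ⟨hc, hw, h2⟩]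
  exact LinearMap.toMatrix'_mulVec _ x

theorem eA_mul (h2 : (2 : F) ≠ 0) {c w w' : ι → F} (hc : f c c = 0) (hw : f w c = 0) (hw' : f w' c = 0) :
    eA hf c w * eA hf c w' = eA hf c (w + w') :=
  ext_mv fun x => by
    rw [mv_mul, mv_eA hf h2 hc hw', mv_eA hf h2 hc hw, Elin_mul hf h2 hc hw hw',
      mv_eA hf h2 hc (by rw [hf.add_left, hw, hw', add_zero])]

theorem eA_zero (h2 : (2 : F) ≠ 0) {c : ι → F} (hc : f c c = 0) : eA hf c 0 = 1 :=
  ext_mv fun x => by rw [mv_eA hf h2 hc (hf.zero_left c), Elin_zero, mv_one]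

theorem eA_inv (h2 : (2 : F) ≠ 0) {c w : ι → F} (hc : f c c = 0) (hw : f w c = 0) :
    (eA hf c w)⁻¹ = eA hf c (-w) :=
  inv_eq_of_mul_eq_one_right (by
    rw [eA_mul hf h2 hc hw (by rw [hf.neg_left, hw, neg_zero]), add_neg_cancel, eA_zero hf h2 hc])

theorem eA_pow (h2 : (2 : F) ≠ 0) {c w : ι → F} (hc : f c c = 0) (hw : f w c = 0) (n : ℕ) :
    eA hf c w ^ n = eA hf c ((n : F) • w) := by
  induction n with
  | zero => rw [pow_zero, Nat.cast_zero, zero_smul, eA_zero hf h2 hc]
  | succ n ih =>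
    rw [pow_succ, ih, eA_mul hf h2 hc (by rw [hf.smul_left, hw, mul_zero]) hw, Nat.cast_succ, add_smul, one_smul]

theorem eA_pow_char (h2 : (2 : F) ≠ 0) (p : ℕ) [CharP F p] {c w : ι → F} (hc : f c c = 0) (hw : f w c = 0) :
    eA hf c w ^ p = 1 := by
  rw [eA_pow hf h2 hc hw, CharP.cast_eq_zero, zero_smul, eA_zero hf h2 hc]

theorem Elin_isom (h2 : (2 : F) ≠ 0) {c w : ι → F} (hc : f c c = 0) (hw : f w c = 0) (x y : ι → F) :
    f (Elin hf c w x) (Elin hf c w y) = f x y := by
  simp only [Elin_apply, Aop_apply, hf.add_left, hf.add_right, hf.sub_left, hf.sub_right, hf.smul_left,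
    hf.smul_right', hc, hw, hf.comm' c w, hf.comm' c x, hf.comm' c y, hf.comm' w x, hf.comm' w y]
  field_simp
  ring

theorem eA_isom (h2 : (2 : F) ≠ 0) {c w : ι → F} (hc : f c c = 0) (hw : f w c = 0) (x y : ι → F) :
    f (mv (eA hf c w) x) (mv (eA hf c w) y) = f x y := by
  rw [mv_eA hf h2 hc hw, mv_eA hf h2 hc hw, Elin_isom hf h2 hc hw]

theorem eA_fix_perp (h2 : (2 : F) ≠ 0) {c w x : ι → F} (hc : f c c = 0) (hw : f w c = 0) (hxc : f x c = 0) :
    mv (eA hf c w) x = x - f x w • c := by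
  rw [mv_eA hf h2 hc hw, Elin_apply, Aop_Aop hf hc hw hw, Cop_apply, hxc]
  simp [hxc, sub_eq_add_neg]

/-! ### Negated reflections -/

/-- The map fixing x and negating its orthogonal. -/
def Mlin (hf : Sym f) (x : ι → F) : (ι → F) →ₗ[F] ι → F := (2 / f x x) • av hf x x - LinearMap.id

theorem Mlin_apply (x v : ι → F) : Mlin hf x v = (2 * f v x / f x x) • x - v := by
  simp only [Mlin, LinearMap.sub_apply, LinearMap.smul_apply, av_apply, LinearMap.id_apply, smul_smul]
  congr 2
  ring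

theorem Mlin_Mlin {x : ι → F} (hx : f x x ≠ 0) (v : ι → F) : Mlin hf x (Mlin hf x v) = v := by
  simp only [Mlin_apply, hf.sub_left, hf.smul_left]
  match_scalars <;> field_simp <;> ring

open Classical in
/-- The negated reflection at an anisotropic x. -/
noncomputable def mr (x : ι → F) : GL ι F :=
  if h : f x x ≠ 0 then
    { val := LinearMap.toMatrix' (Mlin hf x)
      inv := LinearMap.toMatrix' (Mlin hf x)
      val_inv := by
        rw [← LinearMap.toMatrix'_comp, show Mlin hf x ∘ₗ Mlin hf x = LinearMap.id from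
          LinearMap.ext fun v => Mlin_Mlin hf h v, LinearMap.toMatrix'_id]
      inv_val := by
        rw [← LinearMap.toMatrix'_comp, show Mlin hf x ∘ₗ Mlin hf x = LinearMap.id from
          LinearMap.ext fun v => Mlin_Mlin hf h v, LinearMap.toMatrix'_id] }
  else 1

theorem mv_mr {x : ι → F} (hx : f x x ≠ 0) (v : ι → F) :
    mv (mr hf x) v = (2 * f v x / f x x) • x - v := by
  rw [mr, dif_pos hx, ← Mlin_apply]
  exact LinearMap.toMatrix'_mulVec _ v

theorem mr_self {x : ι → F} (hx : f x x ≠ 0) : mv (mr hf x) x = x := by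
  rw [mv_mr hf hx, mul_div_assoc, div_self hx, mul_one, two_smul, add_sub_cancel_right]

theorem mr_perp {x v : ι → F} (hx : f x x ≠ 0) (hv : f v x = 0) : mv (mr hf x) v = -v := by
  rw [mv_mr hf hx, hv, mul_zero, zero_div, zero_smul, zero_sub]

theorem mr_sq {x : ι → F} (hx : f x x ≠ 0) : mr hf x * mr hf x = 1 :=
  ext_mv fun v => by
    rw [mv_mul, mv_mr hf hx v, mv_sub, mv_smul, mr_self hf hx, mv_mr hf hx, mv_one, sub_sub_cancel]

theorem mr_inv {x : ι → F} (hx : f x x ≠ 0) : (mr hf x)⁻¹ = mr hf x :=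
  inv_eq_of_mul_eq_one_right (mr_sq hf hx)

theorem mr_isom {x : ι → F} (hx : f x x ≠ 0) (u v : ι → F) :
    f (mv (mr hf x) u) (mv (mr hf x) v) = f u v := by
  rw [mv_mr hf hx, mv_mr hf hx]
  simp only [hf.sub_left, hf.sub_right, hf.smul_left, hf.smul_right', hf.comm' x v]
  field_simp
  ring

theorem mr_smul {x : ι → F} (hx : f x x ≠ 0) {s : F} (hs : s ≠ 0) : mr hf (s • x) = mr hf x := by
  have hsx : f (s • x) (s • x) ≠ 0 := by
    rw [hf.smul_left, hf.smul_right']
    exact mul_ne_zero hs (mul_ne_zero hs hx)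
  refine ext_mv fun v => ?_
  rw [mv_mr hf hsx, mv_mr hf hx, hf.smul_right', hf.smul_left, hf.smul_right', smul_smul]
  congr 2
  field_simp

/-! ### Conjugation by isometries -/

theorem av_conj {g : GL ι F} (hg : ∀ x y, f (mv g x) (mv g y) = f x y) (p q x : ι → F) :
    mv g (av hf p q (mv g⁻¹ x)) = av hf (mv g p) (mv g q) x := by
  rw [av_apply, av_apply, mv_smul, ← hg (mv g⁻¹ x) q, mv_mv_inv]

theorem Cop_conj {g : GL ι F} (hg : ∀ x y, f (mv g x) (mv g y) = f x y) (c x : ι → F) :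
    mv g (Cop hf c (mv g⁻¹ x)) = Cop hf (mv g c) x :=
  av_conj hf hg c c x

theorem Aop_conj {g : GL ι F} (hg : ∀ x y, f (mv g x) (mv g y) = f x y) (c w x : ι → F) :
    mv g (Aop hf c w (mv g⁻¹ x)) = Aop hf (mv g c) (mv g w) x := by
  show mv g (av hf w c (mv g⁻¹ x) - av hf c w (mv g⁻¹ x)) = _
  rw [mv_sub, av_conj hf hg, av_conj hf hg]
  rfl

theorem eA_conj (h2 : (2 : F) ≠ 0) {g : GL ι F} (hg : ∀ x y, f (mv g x) (mv g y) = f x y) {c w : ι → F}
    (hc : f c c = 0) (hw : f w c = 0) : g * eA hf c w * g⁻¹ = eA hf (mv g c) (mv g w) :=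
  ext_mv fun x => by
    rw [mv_mul, mv_mul, mv_eA hf h2 hc hw, mv_eA hf h2 (by rw [hg, hc]) (by rw [hg, hw]), Elin_apply, mv_add,
      mv_add, mv_mv_inv, mv_smul, Aop_conj hf hg, Elin_apply]
    have e : mv g (Aop hf c w (Aop hf c w (mv g⁻¹ x))) =
        Aop hf (mv g c) (mv g w) (Aop hf (mv g c) (mv g w) x) := by
      rw [← Aop_conj hf hg c w (Aop hf (mv g c) (mv g w) x), ← Aop_conj hf hg c w x, mv_inv_mv]
    rw [e]

theorem mr_conj {g : GL ι F} (hg : ∀ x y, f (mv g x) (mv g y) = f x y) {x : ι → F} (hx : f x x ≠ 0) :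
    g * mr hf x * g⁻¹ = mr hf (mv g x) :=
  ext_mv fun v => by
    rw [mv_mul, mv_mul, mv_mr hf hx, mv_mr hf (by rwa [hg]), mv_sub, mv_smul, mv_mv_inv, hg,
      ← hg (mv g⁻¹ v) x, mv_mv_inv]

/-- A mirror moves an isotropic vector to any non-orthogonal one, up to a scalar. -/
theorem mr_swap (h2 : (2 : F) ≠ 0) {c d : ι → F} (hc : f c c = 0) (hd : f d d = 0) (hcd : f c d = 1)
    {κ : F} (hκ : κ ≠ 0) :
    f (c + (κ / 2) • d) (c + (κ / 2) • d) = κ ∧
      mv (mr hf (c + (κ / 2) • d)) c = (κ / 2) • d ∧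
      mv (mr hf (c + (κ / 2) • d)) d = (κ / 2)⁻¹ • c ∧
      ∀ w, f w c = 0 → f w d = 0 → mv (mr hf (c + (κ / 2) • d)) w = -w := by
  have hdc : f d c = 1 := by rw [hf.comm', hcd]
  have hpp : f (c + (κ / 2) • d) (c + (κ / 2) • d) = κ := by
    simp only [hf.add_left, hf.add_right, hf.smul_left, hf.smul_right', hc, hd, hcd, hdc]
    field_simp
    ring
  have hne : f (c + (κ / 2) • d) (c + (κ / 2) • d) ≠ 0 := by rw [hpp]; exact hκ
  refine ⟨hpp, ?_, ?_, fun w hwc hwd => ?_⟩
  · rw [mv_mr hf hne, hpp, hf.add_right, hf.smul_right', hc, hcd]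
    match_scalars <;> field_simp <;> ring
  · rw [mv_mr hf hne, hpp, hf.add_right, hf.smul_right', hd, hdc]
    match_scalars <;> field_simp <;> ring
  · exact mr_perp hf hne (by rw [hf.add_right, hf.smul_right', hwc, hwd, mul_zero, add_zero])

end Cfsg.Agent.OrthWreath
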