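/-
Tensor powers of a symmetric form of odd dimension: the hypotheses on a subgroup, and operators seen at one slot.
-/
import Cfsg.Agent.Lib.OrthWreath.Ops
import Cfsg.Agent.Lib.UWreath.Compress
import Cfsg.Agent.Lib.WreathMax.Main
import Cfsg.Agent.Lib.Transvec.QuadGen

set_option autoImplicit false
set_option linter.unusedSectionVars false

namespace Cfsg.Agent.OrthWreath

open scoped Matrix
open Matrix Cfsg.Agent.Transvec Cfsg.Agent.TensorMax Cfsg.Agent.WreathMax Cfsg.Agent.FormWreath
open Cfsg.Agent.UWreath (top top_ten top_comp top_one top_add_left top_add_right top_smul_left top_smul_right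
  Loc loc_pten loc_comp loc_eq_conj pull Has)

variable {F : Type*} [Field F] {k : ℕ} {J : Type} [Fintype J] [DecidableEq J]

local notation "σ₁" => RingEquiv.refl F

/-! ### Operators at one slot -/

/-- The operator R on the other slots times T on the slot i. -/
noncomputable def op (i : J) (R : (Rest i k → F) →ₗ[F] Rest i k → F) (T : (Fin k → F) →ₗ[F] Fin k → F) :
    ((J → Fin k) → F) →ₗ[F] (J → Fin k) → F :=
  pull i (top R T)

@[simp] theorem op_ins (i : J) (R : (Rest i k → F) →ₗ[F] Rest i k → F) (T : (Fin k → F) →ₗ[F] Fin k → F)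
    (v : Fin k → F) (w : Rest i k → F) : op i R T (ins i v w) = ins i (T v) (R w) := by
  simp [op, pull, ins_apply]

theorem op_comp (i : J) (R R' : (Rest i k → F) →ₗ[F] Rest i k → F) (T T' : (Fin k → F) →ₗ[F] Fin k → F) :
    op i R T ∘ₗ op i R' T' = op i (R ∘ₗ R') (T ∘ₗ T') :=
  ext_ins i fun v w => by simp

theorem op_one (i : J) : op (k := k) (F := F) i LinearMap.id LinearMap.id = LinearMap.id :=
  ext_ins i fun v w => by simp

theorem op_add_left (i : J) (R R' : (Rest i k → F) →ₗ[F] Rest i k → F) (T : (Fin k → F) →ₗ[F] Fin k → F) :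
    op i (R + R') T = op i R T + op i R' T :=
  ext_ins i fun v w => by simp

theorem op_add_right (i : J) (R : (Rest i k → F) →ₗ[F] Rest i k → F) (T T' : (Fin k → F) →ₗ[F] Fin k → F) :
    op i R (T + T') = op i R T + op i R T' :=
  ext_ins i fun v w => by simp [ins_add_vec]

theorem op_smul_left (i : J) (a : F) (R : (Rest i k → F) →ₗ[F] Rest i k → F) (T : (Fin k → F) →ₗ[F] Fin k → F) :
    op i (a • R) T = a • op i R T :=
  ext_ins i fun v w => by simp

theorem op_smul_right (i : J) (a : F) (R : (Rest i k → F) →ₗ[F] Rest i k → F) (T : (Fin k → F) →ₗ[F] Fin k → F) :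
    op i R (a • T) = a • op i R T :=
  ext_ins i fun v w => by simp [ins_smul_vec]

theorem op_zero_left (i : J) (T : (Fin k → F) →ₗ[F] Fin k → F) : op i 0 T = 0 :=
  ext_ins i fun v w => by simp

theorem op_zero_right (i : J) (R : (Rest i k → F) →ₗ[F] Rest i k → F) : op i R 0 = 0 :=
  ext_ins i fun v w => by rw [op_ins]; simp [ins_apply, ten_zero_right]

theorem op_neg_left (i : J) (R : (Rest i k → F) →ₗ[F] Rest i k → F) (T : (Fin k → F) →ₗ[F] Fin k → F) :
    op i (-R) T = -op i R T :=
  ext_ins i fun v w => by simp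

theorem loc_eq_op (i : J) (T : J → ((Fin k → F) →ₗ[F] Fin k → F)) :
    Loc T = op i (Loc fun j : {j // j ≠ i} => T j) (T i) :=
  loc_eq_conj i T

theorem mv_fac_other {i l : J} (h : l ≠ i) (T : GL (Fin k) F) (v : Fin k → F) (w : Rest i k → F) :
    mv (fac l T) (ins i v w) = ins i v (mv (fac (⟨l, h⟩ : {j // j ≠ i}) T) w) := by
  apply (push i).injective
  rw [← mv_tg, ins_apply, ins_apply, LinearEquiv.apply_symm_apply, LinearEquiv.apply_symm_apply,
    show fac l T = fac ((⟨l, h⟩ : {j // j ≠ i}) : J) T from rfl, tg_fac_other, mv_kronGL, mv_one]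

/-! ### The forms -/

variable {f : (Fin k → F) → (Fin k → F) → F} (hf : Sym f)
include hf

theorem Bt_sym : Sym (Bt (J := J) σ₁ f) := by
  have h := Bt_sf (J := J) hf
  rwa [one_pow] at h

theorem Bt_ins_ins (i : J) (v v' : Fin k → F) (w w' : Rest i k → F) :
    Bt σ₁ f (ins i v w) (ins i v' w') = f v v' * Bt σ₁ f w w' := by
  rw [Bt_ins hf, cr_ins, (Bt_sf hf).smul_left, hf.frow_dot]

theorem cr_ins' (i : J) (c v : Fin k → F) (w : Rest i k → F) :
    cr i (frow f c) (ins i v w) = f v c • w := by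
  rw [cr_ins, hf.frow_dot]

theorem eq_of_frow (i : J) {x y : (J → Fin k) → F} (h : ∀ c, cr i (frow f c) x = cr i (frow f c) y) : x = y := by
  rw [← sub_eq_zero]
  refine (push i).injective ?_
  rw [map_zero]
  refine eq_zero_of_ctr fun φ => ?_
  obtain ⟨c, rfl⟩ := hf.frow_surj (fun _ => rfl) φ
  show cr i (frow f c) (x - y) = 0
  rw [map_sub, h, sub_self]

omit hf

/-- The hypotheses on one factor. -/
structure Sl (f : (Fin k → F) → (Fin k → F) → F) (κ : F) : Prop where
  hf : Sym f
  two : (2 : F) ≠ 0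
  hk : 3 ≤ k
  odd : Odd k
  hq : 5 ≤ Nat.card F ∨ 5 ≤ k
  hκ : κ ≠ 0

/-- The hypotheses on a subgroup of a commutator subgroup of the orthogonal group of a tensor power. -/
structure Ctx (f : (Fin k → F) → (Fin k → F) → F) (Q : ((J → Fin k) → F) → F) (κ : F)
    (X : Subgroup (GL (J → Fin k) F)) : Prop extends Sl f κ where
  hQ : Geo.IsNondegenerateQuadraticForm Q
  hpol : ∀ x y, Orth.pol Q x y = Bt σ₁ f x y
  le : X ≤ Geo.omegaGL Q
  root : ∀ (i : J) (c w : Fin k → F), f c c = 0 → f w c = 0 → fac i (eA (hf) c w) ∈ X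
  mir : ∀ (i : J) (x : Fin k → F), f x x = κ → fac i (mr (hf) x) ∈ X
  pair : ∀ (a b : J) (x y : Fin k → F), a ≠ b → f x x = f y y → f x x ≠ 0 →
    fac a (mr (hf) x) * fac b (mr (hf) y) ∈ X
  mono : ∀ g ∈ Geo.omegaGL Q, Mono g → g ∈ X

variable {Q : ((J → Fin k) → F) → F} {κ : F} {X : Subgroup (GL (J → Fin k) F)}

namespace Ctx

variable (C : Ctx f Q κ X)
include C

theorem hB : Sym (Bt (J := J) σ₁ f) := Bt_sym C.hf

theorem iso {g : GL (J → Fin k) F} (hg : g ∈ X) : g ∈ isometryGroup F Q :=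
  Orth.omega_le_isometry C.hQ (C.le hg)

theorem pres {g : GL (J → Fin k) F} (hg : g ∈ isometryGroup F Q) (x y : (J → Fin k) → F) :
    Bt σ₁ f (mv g x) (mv g y) = Bt σ₁ f x y := by
  rw [← C.hpol, ← C.hpol, Orth.pol_mv C.hQ hg]

theorem q_eq (x : (J → Fin k) → F) : 2 * Q x = Bt σ₁ f x x := by
  rw [← C.hpol, Orth.pol_self C.hQ]

theorem mem_isometry {g : GL (J → Fin k) F}
    (h : ∀ x y, Bt σ₁ f (mv g x) (mv g y) = Bt σ₁ f x y) : g ∈ isometryGroup F Q :=
  Orth.mem_isometry.2 fun z => mul_left_cancel₀ C.two (by rw [C.q_eq, C.q_eq, h])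

theorem q_pten {x : J → Fin k → F} {j : J} (hx : f (x j) (x j) = 0) : Q (pten x) = 0 :=
  mul_left_cancel₀ C.two (by
    rw [mul_zero, C.q_eq, Bt_pten C.hf]
    exact Finset.prod_eq_zero (Finset.mem_univ j) hx)

theorem fac_iso (i : J) {T : GL (Fin k) F} (hT : ∀ x y, f (mv T x) (mv T y) = f x y) :
    fac i T ∈ isometryGroup F Q := by
  refine C.mem_isometry fun x y => ?_
  have h1 : ∀ v w y, Bt σ₁ f (mv (fac i T) (ins i v w)) (mv (fac i T) y) = Bt σ₁ f (ins i v w) y := by
    intro v w y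
    have e : (C.hB.formL (mv (fac i T) (ins i v w))).comp (mvLin (fac i T)) = C.hB.formL (ins i v w) :=
      ext_ins i fun v' w' => by
        show Bt σ₁ f (mv (fac i T) (ins i v' w')) (mv (fac i T) (ins i v w)) = Bt σ₁ f (ins i v' w') (ins i v w)
        rw [mv_fac_ins, mv_fac_ins, Bt_ins_ins C.hf, Bt_ins_ins C.hf, hT]
    have := LinearMap.congr_fun e y
    rw [C.hB.comm', C.hB.comm' (ins i v w)]
    exact this
  have e : (C.hB.formL (mv (fac i T) y)).comp (mvLin (fac i T)) = C.hB.formL y := ext_ins i fun v w => h1 v w y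
  exact LinearMap.congr_fun e x

end Ctx

namespace Sl

variable (S : Sl f κ)
include S

/-- Two orthogonal anisotropic vectors represent every value. -/
theorem exists_comb [Finite F] {x y : Fin k → F} (hx : f x x ≠ 0) (hy : f y y ≠ 0) (hxy : f x y = 0) (v : F) :
    ∃ a b : F, f (a • x + b • y) (a • x + b • y) = v := by
  haveI : Fintype F := Fintype.ofFinite F
  obtain ⟨a, b, hab⟩ := FiniteField.exists_root_sum_quadratic
    (f := Polynomial.C (f x x) * Polynomial.X ^ 2 - Polynomial.C v)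
    (g := Polynomial.C (f y y) * Polynomial.X ^ 2)
    (by rw [Polynomial.degree_sub_C (by rw [Polynomial.degree_C_mul_X_pow 2 hx]; exact two_pos),
      Polynomial.degree_C_mul_X_pow 2 hx]; rfl)
    (by rw [Polynomial.degree_C_mul_X_pow 2 hy]; rfl)
    (FiniteField.odd_card_of_char_ne_two fun h => S.two (by
      haveI : CharP F 2 := ringChar.eq_iff.1 h
      exact CharP.cast_eq_zero F 2))
  refine ⟨a, b, ?_⟩
  simp only [Polynomial.eval_sub, Polynomial.eval_mul, Polynomial.eval_pow, Polynomial.eval_X,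
    Polynomial.eval_C] at hab
  simp only [S.hf.add_left, S.hf.add_right, S.hf.smul_left, S.hf.smul_right', S.hf.comm' y x, hxy]
  linear_combination hab

/-- A subspace without radical of dimension at least two has a vector of every value. -/
theorem exists_value [Finite F] {P : Submodule F (Fin k → F)} (hP : ∀ u ∈ P, (∀ w ∈ P, f w u = 0) → u = 0)
    (h2 : 2 ≤ Module.finrank F P) (v : F) : ∃ x ∈ P, f x x = v := by
  have hQf := qf_nondeg S.hf S.two
  have hn : Orth.Nondeg (qf f) P := fun u hu h => hP u hu fun w hw => by rw [← pol_qf S.hf S.two]; exact h w hw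
  have hq : ∀ u, qf f u ≠ 0 → f u u ≠ 0 := fun u h e => h (by rw [qf, e, zero_div])
  obtain ⟨x, hx, hxq⟩ := Orth.exists_anisotropic hQf hn (fun h => by rw [h, finrank_bot] at h2; omega)
  obtain ⟨y, hy, hxy, hyy⟩ : ∃ y ∈ P, f x y = 0 ∧ f y y ≠ 0 := by
    obtain ⟨z, hz, hzx⟩ : ∃ z ∈ P, z ∉ Submodule.span F {x} := by
      by_contra h
      push Not at h
      have := Submodule.finrank_mono (show P ≤ Submodule.span F {x} from h)
      rw [finrank_span_singleton (fun h => hxq (by rw [h, Orth.q_zero hQf]))] at this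
      omega
    set u := z - (f x z / f x x) • x with hu
    have hu0 : u ≠ 0 := fun h => hzx (by
      rw [sub_eq_zero] at h
      rw [h]; exact Submodule.smul_mem _ _ (Submodule.mem_span_singleton_self x))
    have huP : u ∈ P := P.sub_mem hz (P.smul_mem _ hx)
    have hxu : f x u = 0 := by
      rw [hu, S.hf.sub_right, S.hf.smul_right', div_mul_cancel₀ _ (hq x hxq), sub_self]
    by_cases huu : f u u = 0
    swap
    · exact ⟨u, huP, hxu, huu⟩
    obtain ⟨w, hw, hwu⟩ : ∃ w ∈ P, f w u ≠ 0 := by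
      by_contra h
      push Not at h
      exact hu0 (hP u huP h)
    set w' := w - (f x w / f x x) • x with hw'
    have hw'P : w' ∈ P := P.sub_mem hw (P.smul_mem _ hx)
    have hxw' : f x w' = 0 := by
      rw [hw', S.hf.sub_right, S.hf.smul_right', div_mul_cancel₀ _ (hq x hxq), sub_self]
    have hw'u : f w' u = f w u := by
      rw [hw', S.hf.sub_left, S.hf.smul_left, hxu, mul_zero, sub_zero]
    by_cases hww : f w' w' = 0
    swap
    · exact ⟨w', hw'P, hxw', hww⟩
    refine ⟨u + w', P.add_mem huP hw'P, by rw [S.hf.add_right, hxu, hxw', add_zero], ?_⟩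
    rw [S.hf.add_left, S.hf.add_right, S.hf.add_right, huu, hww, S.hf.comm' u w', hw'u, zero_add, add_zero,
      ← two_mul]
    exact mul_ne_zero S.two hwu
  obtain ⟨a, b, hab⟩ := S.exists_comb (hq x hxq) hyy hxy v
  exact ⟨_, P.add_mem (P.smul_mem _ hx) (P.smul_mem _ hy), hab⟩

end Sl

end Cfsg.Agent.OrthWreath
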