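/-
Vectors of one orthogonal factor of odd dimension: hyperbolic pairs, their orthogonal complements, and spanning
sets of singular vectors and of vectors of a given value.
-/
import Cfsg.Agent.Lib.OrthWreath.Setup

set_option autoImplicit false
set_option linter.unusedSectionVars false

namespace Cfsg.Agent.OrthWreath

open scoped Matrix
open Matrix Cfsg.Agent.Transvec Cfsg.Agent.TensorMax Cfsg.Agent.FormWreath

variable {F : Type*} [Field F] {k : ℕ} {f : (Fin k → F) → (Fin k → F) → F}

/-- The vectors orthogonal to c and to d. -/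
def Wsub (hf : Sym f) (c d : Fin k → F) : Submodule F (Fin k → F) :=
  LinearMap.ker (hf.formL c) ⊓ LinearMap.ker (hf.formL d)

theorem mem_Wsub (hf : Sym f) {c d x : Fin k → F} : x ∈ Wsub hf c d ↔ f x c = 0 ∧ f x d = 0 := by
  simp [Wsub, LinearMap.mem_ker]

theorem finrank_perp_ge (hf : Sym f) (P : Submodule F (Fin k → F)) (x : Fin k → F) :
    Module.finrank F P ≤ Module.finrank F ↥(P ⊓ LinearMap.ker (hf.formL x)) + 1 := by
  have h1 := LinearMap.finrank_range_add_finrank_ker ((hf.formL x).comp P.subtype)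
  have h2 : Module.finrank F (LinearMap.range ((hf.formL x).comp P.subtype)) ≤ 1 :=
    (Submodule.finrank_le _).trans (Module.finrank_self F).le
  have h3 : Module.finrank F (LinearMap.ker ((hf.formL x).comp P.subtype)) =
      Module.finrank F ↥(P ⊓ LinearMap.ker (hf.formL x)) := by
    rw [LinearMap.ker_comp, ← Submodule.map_comap_subtype,
      ← (Submodule.equivMapOfInjective P.subtype P.injective_subtype _).finrank_eq]
  omega

theorem perp_nondeg (hf : Sym f) {P : Submodule F (Fin k → F)} (hP : ∀ u ∈ P, (∀ w ∈ P, f w u = 0) → u = 0)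
    {x : Fin k → F} (hx : x ∈ P) (hxx : f x x ≠ 0) :
    ∀ u ∈ P ⊓ LinearMap.ker (hf.formL x), (∀ w ∈ P ⊓ LinearMap.ker (hf.formL x), f w u = 0) → u = 0 := by
  intro u hu h
  obtain ⟨hu1, hu2⟩ := Submodule.mem_inf.1 hu
  rw [LinearMap.mem_ker, SF.formL_apply] at hu2
  refine hP u hu1 fun w hw => ?_
  have := h (w - (f w x / f x x) • x) (Submodule.mem_inf.2 ⟨P.sub_mem hw (P.smul_mem _ hx), by
    rw [LinearMap.mem_ker, SF.formL_apply, hf.sub_left, hf.smul_left, div_mul_cancel₀ _ hxx, sub_self]⟩)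
  rwa [hf.sub_left, hf.smul_left, hf.comm' x u, hu2, mul_zero, sub_zero] at this

namespace Sl

variable {κ : F} (S : Sl f κ)
include S

theorem exists_pair {c : Fin k → F} (hc0 : c ≠ 0) (hc : f c c = 0) : ∃ d, f d d = 0 ∧ f c d = 1 := by
  obtain ⟨z, hz⟩ : ∃ z, f c z ≠ 0 := by
    by_contra h
    push Not at h
    exact hc0 (S.hf.nondeg c h)
  have h2 := S.two
  obtain ⟨e, he⟩ : ∃ e, f c e = 1 := ⟨(f c z)⁻¹ • z, by rw [S.hf.smul_right', inv_mul_cancel₀ hz]⟩
  refine ⟨e - (f e e / 2) • c, ?_, by rw [S.hf.sub_right, S.hf.smul_right', he, hc, mul_zero, sub_zero]⟩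
  simp only [S.hf.sub_left, S.hf.sub_right, S.hf.smul_left, S.hf.smul_right', hc, he, S.hf.comm' e c]
  field_simp
  ring

variable {c d : Fin k → F} (hc : f c c = 0) (hd : f d d = 0) (hcd : f c d = 1)
include hc hd hcd

theorem finrank_W : k ≤ Module.finrank F (Wsub S.hf c d) + 2 := by
  have h1 := finrank_perp_ge S.hf ⊤ c
  have h2 := finrank_perp_ge S.hf (LinearMap.ker (S.hf.formL c)) d
  rw [top_inf_eq, finrank_top, Module.finrank_fintype_fun_eq_card, Fintype.card_fin] at h1
  unfold Wsub
  omega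

theorem W_nondeg : ∀ u ∈ Wsub S.hf c d, (∀ w ∈ Wsub S.hf c d, f w u = 0) → u = 0 := by
  intro u hu h
  obtain ⟨h1, h2⟩ := (mem_Wsub S.hf).1 hu
  refine S.hf.nondeg u fun z => ?_
  have := h (z - f z d • c - f z c • d) ((mem_Wsub S.hf).2 ⟨by
      simp [S.hf.sub_left, S.hf.smul_left, hc, S.hf.comm' d c, hcd], by
      simp [S.hf.sub_left, S.hf.smul_left, hd, hcd]⟩)
  rw [S.hf.comm']
  simpa [S.hf.sub_left, S.hf.smul_left, S.hf.comm' c u, h1, S.hf.comm' d u, h2] using this

theorem exists_W_aniso : ∃ x, f x c = 0 ∧ f x d = 0 ∧ f x x ≠ 0 := by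
  have hn : Orth.Nondeg (qf f) (Wsub S.hf c d) := fun u hu h => S.W_nondeg hc hd hcd u hu fun w hw => by
    rw [← pol_qf S.hf S.two]; exact h w hw
  obtain ⟨x, hx, hxq⟩ := Orth.exists_anisotropic (qf_nondeg S.hf S.two) hn (fun h => by
    have := S.finrank_W hc hd hcd
    rw [h, finrank_bot] at this
    have := S.hk
    omega)
  exact ⟨x, ((mem_Wsub S.hf).1 hx).1, ((mem_Wsub S.hf).1 hx).2, fun h => hxq (by rw [qf, h, zero_div])⟩

theorem exists_W_value [Finite F] (h5 : 5 ≤ k) (v : F) : ∃ x, f x c = 0 ∧ f x d = 0 ∧ f x x = v := by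
  obtain ⟨x, hx, hv⟩ := S.exists_value (S.W_nondeg hc hd hcd) (by
    have := S.finrank_W hc hd hcd; omega) v
  exact ⟨x, ((mem_Wsub S.hf).1 hx).1, ((mem_Wsub S.hf).1 hx).2, hv⟩

theorem exists_W_perp [Finite F] (h5 : 5 ≤ k) {y : Fin k → F} (hyc : f y c = 0) (hyd : f y d = 0)
    (hy : f y y ≠ 0) (v : F) : ∃ z, f z c = 0 ∧ f z d = 0 ∧ f z y = 0 ∧ f z z = v := by
  obtain ⟨z, hz, hv⟩ := S.exists_value (perp_nondeg S.hf (S.W_nondeg hc hd hcd) ((mem_Wsub S.hf).2 ⟨hyc, hyd⟩) hy)
    (by
      have := S.finrank_W hc hd hcd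
      have := finrank_perp_ge S.hf (Wsub S.hf c d) y
      omega) v
  obtain ⟨h1, h2⟩ := Submodule.mem_inf.1 hz
  rw [LinearMap.mem_ker, SF.formL_apply] at h2
  exact ⟨z, ((mem_Wsub S.hf).1 h1).1, ((mem_Wsub S.hf).1 h1).2, h2, hv⟩

theorem exists_W_pair [Finite F] (h5 : 5 ≤ k) :
    ∃ w w', f w c = 0 ∧ f w d = 0 ∧ f w w = 0 ∧ f w' c = 0 ∧ f w' d = 0 ∧ f w' w' = 0 ∧ f w w' = 1 := by
  obtain ⟨x, hxc, hxd, hx⟩ := S.exists_W_value hc hd hcd h5 1
  obtain ⟨y, hyc, hyd, hyx, hy⟩ := S.exists_W_perp hc hd hcd h5 hxc hxd (by rw [hx]; exact one_ne_zero) (-1)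
  have h2 := S.two
  refine ⟨x + y, (2⁻¹ : F) • (x - y), ?_, ?_, ?_, ?_, ?_, ?_, ?_⟩ <;>
    simp only [S.hf.add_left, S.hf.add_right, S.hf.sub_left, S.hf.sub_right, S.hf.smul_left, S.hf.smul_right',
      hxc, hxd, hx, hyc, hyd, hyx, hy, S.hf.comm' x y] <;> field_simp <;> ring

theorem decomp3 (h3 : k = 3) {x : Fin k → F} (hxc : f x c = 0) (hxd : f x d = 0) (hx : f x x ≠ 0)
    (v : Fin k → F) : v = f v d • c + f v c • d + (f v x / f x x) • x := by
  have hli : LinearIndependent F ![c, d, x] := by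
    rw [Fintype.linearIndependent_iff]
    intro g hg
    have e : ∀ z, g 0 * f c z + g 1 * f d z + g 2 * f x z = 0 := fun z => by
      have := congrArg (fun u => f u z) hg
      simpa [Fin.sum_univ_three, S.hf.add_left, S.hf.smul_left, S.hf.zero_left] using this
    have e0 := e d
    have e1 := e c
    have e2 := e x
    simp only [hcd, hd, hxd, hc, hxc, S.hf.comm' d c, S.hf.comm' c x, S.hf.comm' d x, mul_zero, add_zero,
      zero_add, mul_one, mul_eq_zero, hx, or_false] at e0 e1 e2
    intro i; fin_cases i <;> assumption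
  have hsp := hli.span_eq_top_of_card_eq_finrank (by
    rw [Fintype.card_fin, Module.finrank_fintype_fun_eq_card, Fintype.card_fin, h3])
  rw [← sub_eq_zero]
  refine S.hf.nondeg _ fun z => ?_
  have hz : z ∈ Submodule.span F (Set.range ![c, d, x]) := by rw [hsp]; exact Submodule.mem_top
  induction hz using Submodule.span_induction with
  | mem z hz =>
    obtain ⟨i, rfl⟩ := hz
    fin_cases i <;>
      simp [S.hf.sub_left, S.hf.add_left, S.hf.smul_left, hc, hd, hxc, hxd, hcd, S.hf.comm' d c, S.hf.comm' c x,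
        S.hf.comm' d x, hx]
  | zero => exact S.hf.zero_right _
  | add a b _ _ ha hb => rw [S.hf.add_right, ha, hb, add_zero]
  | smul a b _ hb => rw [S.hf.smul_right', hb, mul_zero]

end Sl

namespace Sl

variable {κ : F} (S : Sl f κ)
include S

theorem exists_sq_ne_one [Finite F] (h5 : 5 ≤ Nat.card F) : ∃ s : F, s ≠ 0 ∧ s * s ≠ 1 := by
  classical
  haveI : Fintype F := Fintype.ofFinite F
  by_contra h
  push Not at h
  have hsub : (Finset.univ : Finset F) ⊆ ({0, 1, -1} : Finset F) := fun s _ => by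
    by_cases h0 : s = 0
    · simp [h0]
    · rcases mul_self_eq_one_iff.1 (h s h0) with e | e <;> simp [e]
  have := Finset.card_le_card hsub
  rw [Finset.card_univ, ← Nat.card_eq_fintype_card] at this
  have := (Finset.card_le_three (a := (0 : F)) (b := 1) (c := -1))
  omega

variable {M : Type*} [AddCommGroup M] [Module F M]

/-- A linear map killing the vectors of value κ orthogonal to a singular c kills all vectors orthogonal to c. -/
theorem good_span [Finite F] (h5 : 5 ≤ k) {c : Fin k → F} (hc0 : c ≠ 0) (hc : f c c = 0)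
    (g : (Fin k → F) →ₗ[F] M) (hg : ∀ x, f x c = 0 → f x x = κ → g x = 0) {v : Fin k → F} (hv : f v c = 0) :
    g v = 0 := by
  obtain ⟨d, hd, hcd⟩ := S.exists_pair hc0 hc
  obtain ⟨x₀, hx₀c, hx₀d, hx₀⟩ := S.exists_W_value hc hd hcd h5 κ
  have hgc : g c = 0 := by
    have := hg (x₀ + c) (by rw [S.hf.add_left, hx₀c, hc, add_zero]) (by
      simp [S.hf.add_left, S.hf.add_right, hx₀, hc, hx₀c, S.hf.comm' c x₀])
    rwa [map_add, hg x₀ hx₀c hx₀, zero_add] at this
  have han : ∀ y, f y c = 0 → f y d = 0 → f y y ≠ 0 → g y = 0 := by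
    intro y hyc hyd hy
    obtain ⟨z, hzc, hzd, hzy, hz⟩ := S.exists_W_perp hc hd hcd h5 hyc hyd hy (κ - f y y)
    have h1 := hg (y + z) (by rw [S.hf.add_left, hyc, hzc, add_zero]) (by
      simp [S.hf.add_left, S.hf.add_right, hz, hzy, S.hf.comm' y z])
    have h2 := hg (y - z) (by rw [S.hf.sub_left, hyc, hzc, sub_zero]) (by
      simp [S.hf.sub_left, S.hf.sub_right, hz, hzy, S.hf.comm' y z])
    rw [map_add] at h1
    rw [map_sub] at h2
    refine (smul_eq_zero.1 (?_ : (2 : F) • g y = 0)).resolve_left S.two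
    linear_combination (norm := module) h1 + h2
  have hW : ∀ y, f y c = 0 → f y d = 0 → g y = 0 := by
    intro y hyc hyd
    by_cases hy : f y y = 0
    · obtain ⟨s, hs⟩ : ∃ s : F, f (y + s • x₀) (y + s • x₀) ≠ 0 := by
        by_contra h
        push Not at h
        have a := h 1
        have b := h (-1)
        simp only [S.hf.add_left, S.hf.add_right, S.hf.smul_left, S.hf.smul_right', hx₀, hy,
          S.hf.comm' x₀ y] at a b
        exact mul_ne_zero S.two S.hκ (by linear_combination a + b)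
      have := han _ (by rw [S.hf.add_left, S.hf.smul_left, hyc, hx₀c, mul_zero, add_zero])
        (by rw [S.hf.add_left, S.hf.smul_left, hyd, hx₀d, mul_zero, add_zero]) hs
      rwa [map_add, map_smul, hg x₀ hx₀c hx₀, smul_zero, add_zero] at this
    · exact han y hyc hyd hy
  have := hW (v - f v d • c) (by simp [S.hf.sub_left, S.hf.smul_left, hc, hv]) (by
    simp [S.hf.sub_left, S.hf.smul_left, hcd])
  rwa [map_sub, map_smul, hgc, smul_zero, sub_zero] at this

/-- A bilinear map vanishing at singular vectors is, on the diagonal, a multiple of the form. -/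
theorem scalar_sym [Finite F] (b : (Fin k → F) →ₗ[F] (Fin k → F) →ₗ[F] M) (h0 : ∀ c, f c c = 0 → b c c = 0)
    (hex : ∃ c : Fin k → F, c ≠ 0 ∧ f c c = 0) : ∃ L : M, ∀ a a', b a a' + b a' a = (2 * f a a') • L := by
  obtain ⟨c, hc0, hc⟩ := hex
  obtain ⟨d, hd, hcd⟩ := S.exists_pair hc0 hc
  have hdc : f d c = 1 := by rw [S.hf.comm', hcd]
  have h2 := S.two
  obtain ⟨L, hL⟩ : ∃ L : M, b c d + b d c = (2 : F) • L :=
    ⟨(2⁻¹ : F) • (b c d + b d c), by rw [smul_smul, mul_inv_cancel₀ h2, one_smul]⟩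
  have hkey : ∀ v, f v c = 0 → f v d = 0 → ∀ t : F, t • (t • (b v v - f v v • L) + (b c v + b v c) -
      (t * t * (f v v / 2)) • (b v d + b d v)) = 0 := by
    intro v hvc hvd t
    have h := h0 (c + t • v + (-(t * t * f v v / 2)) • d) (by
      simp only [S.hf.add_left, S.hf.add_right, S.hf.smul_left, S.hf.smul_right', hc, hd, hcd, hdc, hvc, hvd,
        S.hf.comm' c v, S.hf.comm' d v]
      field_simp
      ring)
    simp only [map_add, map_smul, LinearMap.add_apply, LinearMap.smul_apply, h0 c hc, h0 d hd] at h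
    linear_combination (norm := (match_scalars <;> field_simp <;> ring)) h + (t * t * f v v / 2) • hL
  have hdiag : ∀ v, f v c = 0 → f v d = 0 → b v v = f v v • L := by
    intro v hvc hvd
    have h1 := hkey v hvc hvd 1
    have hm := hkey v hvc hvd (-1)
    rw [← sub_eq_zero]
    refine (smul_eq_zero.1 (?_ : (2 : F) • (b v v - f v v • L) = 0)).resolve_left h2
    linear_combination (norm := module) h1 + hm
  have hoff : ∀ v, f v c = 0 → f v d = 0 →
      (b c v + b v c) = 0 := by
    intro v hvc hvd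
    rcases S.hq with h5 | h5
    · obtain ⟨s, hs0, hs⟩ := S.exists_sq_ne_one h5
      have h1 := hkey v hvc hvd 1
      have h3 := hkey v hvc hvd s
      rw [hdiag v hvc hvd, sub_self, smul_zero, zero_add] at h1 h3
      rw [one_smul] at h1
      have h4 := (smul_eq_zero.1 h3).resolve_left hs0
      refine (smul_eq_zero.1 (?_ : (1 - s * s) • (b c v + b v c) = 0)).resolve_left
        (sub_ne_zero.2 (Ne.symm hs))
      linear_combination (norm := module) h4 - (s * s) • h1
    · have hsing : ∀ w, f w c = 0 → f w d = 0 → f w w = 0 → b c w + b w c = 0 := by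
        intro w hwc hwd hw
        have := hkey w hwc hwd 1
        rw [hdiag w hwc hwd, hw] at this
        simpa using this
      obtain ⟨w, w', hwc, hwd, hw, hw'c, hw'd, hw', hww⟩ := S.exists_W_pair hc hd hcd h5
      set u := v - f v w' • w - f v w • w' with hu
      set q := f u u with hq'
      have huw : f u w = 0 := by simp [hu, S.hf.sub_left, S.hf.smul_left, hw, S.hf.comm' w' w, hww]
      have huw' : f u w' = 0 := by simp [hu, S.hf.sub_left, S.hf.smul_left, hw', hww]
      have huc : f u c = 0 := by simp [hu, S.hf.sub_left, S.hf.smul_left, hvc, hwc, hw'c]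
      have hud : f u d = 0 := by simp [hu, S.hf.sub_left, S.hf.smul_left, hvd, hwd, hw'd]
      have e := hsing (u + w - (q / 2) • w') (by simp [S.hf.add_left, S.hf.sub_left, S.hf.smul_left, huc, hwc, hw'c])
        (by simp [S.hf.add_left, S.hf.sub_left, S.hf.smul_left, hud, hwd, hw'd]) (by
          simp only [S.hf.add_left, S.hf.add_right, S.hf.sub_left, S.hf.sub_right, S.hf.smul_left,
            S.hf.smul_right', huw, huw', S.hf.comm' w u, S.hf.comm' w' u, hw, hw', hww, S.hf.comm' w' w, ← hq']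
          field_simp
          ring)
      have e1 := hsing w hwc hwd hw
      have e2 := hsing w' hw'c hw'd hw'
      have ev : v = u + f v w' • w + f v w • w' := by rw [hu]; abel
      rw [ev]
      simp only [map_add, map_sub, map_smul, LinearMap.add_apply, LinearMap.sub_apply, LinearMap.smul_apply] at e ⊢
      linear_combination (norm := module) e + (f v w' - 1) • e1 + (f v w + q / 2) • e2
  have hoff' : ∀ v, f v c = 0 → f v d = 0 → b d v + b v d = 0 := by
    intro v hvc hvd
    have key : ∀ z, f z c = 0 → f z d = 0 → f z z ≠ 0 → b d z + b z d = 0 := fun z a1 a2 a3 => by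
      have h1 := hkey z a1 a2 1
      rw [hdiag z a1 a2, sub_self, smul_zero, zero_add, one_smul, hoff z a1 a2, zero_sub, neg_eq_zero,
        smul_eq_zero] at h1
      rw [add_comm]
      exact h1.resolve_left (by simp [a3, h2])
    by_cases hvv : f v v = 0
    · obtain ⟨x, hxc, hxd, hx⟩ := S.exists_W_aniso hc hd hcd
      obtain ⟨s, hs⟩ : ∃ s : F, f (v + s • x) (v + s • x) ≠ 0 := by
        by_contra h
        push Not at h
        have a := h 1
        have b := h (-1)
        simp only [S.hf.add_left, S.hf.add_right, S.hf.smul_left, S.hf.smul_right', hvv, S.hf.comm' x v] at a b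
        exact mul_ne_zero h2 hx (by linear_combination a + b)
      have e1 := key x hxc hxd hx
      have e2 := key _ (by simp [S.hf.add_left, S.hf.smul_left, hvc, hxc])
        (by simp [S.hf.add_left, S.hf.smul_left, hvd, hxd]) hs
      simp only [map_add, map_smul, LinearMap.add_apply, LinearMap.smul_apply] at e2
      linear_combination (norm := module) e2 - s • e1
    · exact key v hvc hvd hvv
  have hall : ∀ a, b a a = f a a • L := by
    intro a
    obtain ⟨v, hvc, hvd, ha⟩ : ∃ v, f v c = 0 ∧ f v d = 0 ∧ a = v + f a d • c + f a c • d :=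
      ⟨a - f a d • c - f a c • d, by simp [S.hf.sub_left, S.hf.smul_left, hc, hdc],
        by simp [S.hf.sub_left, S.hf.smul_left, hd, hcd], by abel⟩
    rw [ha]
    simp only [map_add, map_smul, LinearMap.add_apply, LinearMap.smul_apply, hdiag v hvc hvd, h0 c hc, h0 d hd,
      S.hf.add_left, S.hf.add_right, S.hf.smul_left, S.hf.smul_right', hc, hd, hcd, hdc, hvc, hvd,
      S.hf.comm' c v, S.hf.comm' d v]
    linear_combination (norm := module)
      f a d • hoff v hvc hvd + f a c • hoff' v hvc hvd + (f a d * f a c) • hL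
  refine ⟨L, fun a a' => ?_⟩
  have h := hall (a + a')
  simp only [map_add, LinearMap.add_apply, hall a, hall a', S.hf.add_left, S.hf.add_right,
    S.hf.comm' a' a] at h
  linear_combination (norm := module) h

end Sl

end Cfsg.Agent.OrthWreath
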