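/-
Families of operators invariant under the members of every slot: a non-scalar member gives a product of
elementary operators.
-/
import Cfsg.Agent.Lib.OrthWreath.Vec
import Cfsg.Agent.Lib.UWreath.Grow

set_option autoImplicit false
set_option linter.unusedSectionVars false

namespace Cfsg.Agent.OrthWreath

open scoped Matrix
open Matrix Cfsg.Agent.Transvec Cfsg.Agent.TensorMax Cfsg.Agent.WreathMax Cfsg.Agent.FormWreath
open Cfsg.Agent.UWreath (top top_ten Loc loc_pten loc_comp loc_id pull Additive)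

variable {F : Type*} [Field F] {k : ℕ} {J : Type} [Fintype J] [DecidableEq J]

/-- Conjugation of an operator. -/
abbrev cj {ι : Type} [Fintype ι] [DecidableEq ι] (g : GL ι F) (X : (ι → F) →ₗ[F] ι → F) :
    (ι → F) →ₗ[F] ι → F :=
  mvLin g ∘ₗ X ∘ₗ mvLin g⁻¹

theorem cj_apply {ι : Type} [Fintype ι] [DecidableEq ι] (g : GL ι F) (X : (ι → F) →ₗ[F] ι → F) (x : ι → F) :
    cj g X x = mv g (X (mv g⁻¹ x)) := rfl

theorem cj_op_self (i : J) (B : GL (Fin k) F) (R : (Rest i k → F) →ₗ[F] Rest i k → F)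
    (T : (Fin k → F) →ₗ[F] Fin k → F) : cj (fac i B) (op i R T) = op i R (cj B T) :=
  ext_ins i fun v w => by
    rw [cj_apply, fac_inv, mv_fac_ins, op_ins, mv_fac_ins, op_ins, cj_apply]

theorem cj_op_other {i l : J} (h : l ≠ i) (B : GL (Fin k) F) (R : (Rest i k → F) →ₗ[F] Rest i k → F)
    (T : (Fin k → F) →ₗ[F] Fin k → F) :
    cj (fac l B) (op i R T) = op i (cj (fac (⟨l, h⟩ : {j // j ≠ i}) B) R) T :=
  ext_ins i fun v w => by
    rw [cj_apply, fac_inv, mv_fac_other h, op_ins, mv_fac_other h, op_ins, cj_apply, fac_inv]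

variable {f : (Fin k → F) → (Fin k → F) → F}

/-- The operator seen at the slot i by the vectors a and b. -/
noncomputable def bet (hf : Sym f) (i : J) (Z : ((J → Fin k) → F) →ₗ[F] (J → Fin k) → F) :
    (Fin k → F) →ₗ[F] (Fin k → F) →ₗ[F] (Rest i k → F) →ₗ[F] Rest i k → F :=
  LinearMap.mk₂ F (fun a b => cr i (frow f b) ∘ₗ Z ∘ₗ ins i a)
    (fun a a' b => LinearMap.ext fun w => by simp [ins_add_vec])
    (fun r a b => LinearMap.ext fun w => by simp [ins_smul_vec])
    (fun a b b' => LinearMap.ext fun w => by simp [hf.frow_add, ctr_add_vec])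
    (fun r a b => LinearMap.ext fun w => by simp [hf.frow_smul, ctr_smul_vec])

theorem bet_apply (hf : Sym f) (i : J) (Z : ((J → Fin k) → F) →ₗ[F] (J → Fin k) → F) (a b : Fin k → F)
    (w : Rest i k → F) : bet hf i Z a b w = cr i (frow f b) (Z (ins i a w)) := rfl

theorem bet_inj (hf : Sym f) (i : J) {Z Z' : ((J → Fin k) → F) →ₗ[F] (J → Fin k) → F}
    (h : ∀ a b, bet hf i Z a b = bet hf i Z' a b) : Z = Z' :=
  ext_ins i fun a w => eq_of_frow hf i fun b => LinearMap.congr_fun (h a b) w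

theorem bet_op (hf : Sym f) (i : J) (R : (Rest i k → F) →ₗ[F] Rest i k → F)
    (T : (Fin k → F) →ₗ[F] Fin k → F) (a b : Fin k → F) : bet hf i (op i R T) a b = f (T a) b • R :=
  LinearMap.ext fun w => by rw [bet_apply, op_ins, cr_ins' hf, LinearMap.smul_apply]

theorem bet_add (hf : Sym f) (i : J) (Z Z' : ((J → Fin k) → F) →ₗ[F] (J → Fin k) → F) (a b : Fin k → F) :
    bet hf i (Z + Z') a b = bet hf i Z a b + bet hf i Z' a b :=
  LinearMap.ext fun w => by simp [bet_apply]

theorem bet_sub (hf : Sym f) (i : J) (Z Z' : ((J → Fin k) → F) →ₗ[F] (J → Fin k) → F) (a b : Fin k → F) :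
    bet hf i (Z - Z') a b = bet hf i Z a b - bet hf i Z' a b :=
  LinearMap.ext fun w => by simp [bet_apply]

theorem bet_cj (hf : Sym f) (i : J) {B : GL (Fin k) F} (hB : ∀ x y, f (mv B x) (mv B y) = f x y)
    (Z : ((J → Fin k) → F) →ₗ[F] (J → Fin k) → F) (a b : Fin k → F) :
    bet hf i (cj (fac i B) Z) a b = bet hf i Z (mv B⁻¹ a) (mv B⁻¹ b) :=
  LinearMap.ext fun w => by
    rw [bet_apply, bet_apply, cj_apply, fac_inv, mv_fac_ins]
    refine cr_fac i B (fun v => ?_) _
    rw [hf.frow_dot, hf.frow_dot, ← hB v, mv_mv_inv]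

/-- The elementary members of one slot. -/
def Gd (hf : Sym f) (κ : F) (B : GL (Fin k) F) : Prop :=
  (∃ c w, f c c = 0 ∧ f w c = 0 ∧ B = eA hf c w) ∨ ∃ x, f x x = κ ∧ B = mr hf x

/-- A family of operators invariant under the elementary members of every slot. -/
structure Inv (hf : Sym f) (κ : F) (S : (((J → Fin k) → F) →ₗ[F] (J → Fin k) → F) → Prop) : Prop extends
    Additive S where
  inv : ∀ (j : J) {B}, Gd hf κ B → ∀ {X}, S X → S (cj (fac j B) X)

/-- The second difference along the exponential of c and w. -/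
noncomputable def dd (hf : Sym f) (i : J) (c w : Fin k → F)
    (Z : ((J → Fin k) → F) →ₗ[F] (J → Fin k) → F) : ((J → Fin k) → F) →ₗ[F] (J → Fin k) → F :=
  cj (fac i (eA hf c w)) Z + cj (fac i (eA hf c (-w))) Z - Z - Z

theorem dd_mem {hf : Sym f} {κ : F} {S : (((J → Fin k) → F) →ₗ[F] (J → Fin k) → F) → Prop}
    (hS : Inv hf κ S) (i : J) {c w : Fin k → F} (hc : f c c = 0) (hw : f w c = 0) {Z} (hZ : S Z) :
    S (dd hf i c w Z) := by
  refine hS.toAdditive.sub (hS.toAdditive.sub (hS.add ?_ ?_) hZ) hZ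
  · exact hS.inv i (Or.inl ⟨c, w, hc, hw, rfl⟩) hZ
  · exact hS.inv i (Or.inl ⟨c, -w, hc, by rw [hf.neg_left, hw, neg_zero], rfl⟩) hZ

theorem bet_dd (hf : Sym f) (h2 : (2 : F) ≠ 0) (i : J) {c w : Fin k → F} (hc : f c c = 0) (hw : f w c = 0)
    (Z : ((J → Fin k) → F) →ₗ[F] (J → Fin k) → F) (a b : Fin k → F) :
    bet hf i (dd hf i c w Z) a b = (2 : F) • bet hf i Z (Aop hf c w a) (Aop hf c w b) -
      f w w • (f a c • bet hf i Z c b + f b c • bet hf i Z a c) +
      (f w w * f w w / 2 * (f a c * f b c)) • bet hf i Z c c := by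
  have hw' : f (-w) c = 0 := by rw [hf.neg_left, hw, neg_zero]
  rw [dd, bet_sub, bet_sub, bet_add, bet_cj hf i (eA_isom hf h2 hc hw), bet_cj hf i (eA_isom hf h2 hc hw'),
    eA_inv hf h2 hc hw, eA_inv hf h2 hc hw', neg_neg]
  simp only [mv_eA hf h2 hc hw, mv_eA hf h2 hc hw', Elin_apply, Aop_Aop hf hc hw hw, Aop_Aop hf hc hw' hw',
    Aop_neg, LinearMap.neg_apply, Cop_apply, hf.neg_left, hf.neg_right, map_add, map_neg, map_smul,
    LinearMap.add_apply, LinearMap.smul_apply]
  match_scalars <;> field_simp <;> ring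

/-- An elementary operator of rank one. -/
def IsC (hf : Sym f) (T : (Fin k → F) →ₗ[F] Fin k → F) : Prop :=
  ∃ (r : F) (c : Fin k → F), r ≠ 0 ∧ c ≠ 0 ∧ f c c = 0 ∧ T = r • Cop hf c

/-- An elementary skew operator. -/
def IsA (hf : Sym f) (T : (Fin k → F) →ₗ[F] Fin k → F) : Prop :=
  ∃ c x : Fin k → F, c ≠ 0 ∧ f c c = 0 ∧ f x c = 0 ∧ f x x ≠ 0 ∧ T = Aop hf c x

theorem elem_ne_id {hf : Sym f} {T : (Fin k → F) →ₗ[F] Fin k → F} (h : IsC hf T ∨ IsA hf T) :
    T ≠ LinearMap.id := by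
  intro e
  rcases h with ⟨r, c, -, hc0, hc, rfl⟩ | ⟨c, x, hc0, hc, hxc, -, rfl⟩ <;>
    have := LinearMap.congr_fun e c <;>
    simp [hc] at this
  · exact hc0 this.symm
  · rw [hf.comm', hxc] at this; simp at this; exact hc0 this.symm

theorem elem_smul {hf : Sym f} {T : (Fin k → F) →ₗ[F] Fin k → F} (h : IsC hf T ∨ IsA hf T) {s : F}
    (hs : s ≠ 0) : IsC hf (s • T) ∨ IsA hf (s • T) := by
  rcases h with ⟨r, c, hr, hc0, hc, rfl⟩ | ⟨c, x, hc0, hc, hxc, hx, rfl⟩
  · exact Or.inl ⟨s * r, c, mul_ne_zero hs hr, hc0, hc, by rw [smul_smul]⟩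
  · exact Or.inr ⟨c, s • x, hc0, hc, by rw [hf.smul_left, hxc, mul_zero],
      by rw [hf.smul_left, hf.smul_right']; exact mul_ne_zero hs (mul_ne_zero hs hx), by rw [Aop_smul]⟩

variable {κ : F}

theorem czc [Finite F] (S₀ : Sl f κ) {S : (((J → Fin k) → F) →ₗ[F] (J → Fin k) → F) → Prop}
    (hS : Inv S₀.hf κ S) (i : J) {Z} (hZ : S Z) {c : Fin k → F} (hc0 : c ≠ 0) (hc : f c c = 0) :
    ∃ r : F, r ≠ 0 ∧ S (op i (r • bet S₀.hf i Z c c) (Cop S₀.hf c)) := by
  have hf := S₀.hf
  have h2 := S₀.two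
  have h4 : (4 : F) ≠ 0 := by rw [show (4 : F) = 2 * 2 by norm_num]; exact mul_ne_zero h2 h2
  obtain ⟨d, hd, hcd⟩ := S₀.exists_pair hc0 hc
  rcases S₀.hq with h5 | h5
  · obtain ⟨s, hs0, hs⟩ := S₀.exists_sq_ne_one h5
    obtain ⟨x, hxc, -, hx⟩ := S₀.exists_W_aniso hc hd hcd
    have htc : ∀ t : F, f (t • x) c = 0 := fun t => by rw [hf.smul_left, hxc, mul_zero]
    refine ⟨4 * (s - s⁻¹) ^ 2 * (f x x * f x x / 2), ?_, ?_⟩
    · refine mul_ne_zero (mul_ne_zero h4 (pow_ne_zero 2 (sub_ne_zero.2 fun e => hs ?_)))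
        (div_ne_zero (mul_ne_zero hx hx) h2)
      calc s * s = s * s⁻¹ := by rw [← e]
        _ = 1 := mul_inv_cancel₀ hs0
    · convert hS.add (hS.toAdditive.sub (hS.toAdditive.sub (hS.toAdditive.sub
        (dd_mem hS i hc (htc (s + s⁻¹)) hZ) (dd_mem hS i hc (htc s) hZ)) (dd_mem hS i hc (htc s⁻¹) hZ))
        (dd_mem hS i hc (htc 2) hZ)) (hS.add (dd_mem hS i hc (htc 1) hZ) (dd_mem hS i hc (htc 1) hZ)) using 1
      refine bet_inj hf i fun a b => ?_
      simp only [bet_add, bet_sub, bet_dd hf h2 i hc (htc _), bet_op, Cop_apply, Aop_smul, LinearMap.smul_apply,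
        map_smul, LinearMap.smul_apply, hf.smul_left, hf.smul_right', hf.comm' c b]
      match_scalars <;> field_simp <;> ring
  · obtain ⟨w, w', hwc, hwd, hw, hw'c, hw'd, hw', hww⟩ := S₀.exists_W_pair hc hd hcd h5
    refine ⟨4, h4, ?_⟩
    convert dd_mem hS i hc hw'c (dd_mem hS i hc hwc hZ) using 1
    refine bet_inj hf i fun a b => ?_
    simp only [bet_dd hf h2 i hc hw'c, bet_dd hf h2 i hc hwc, bet_op, Aop_Aop hf hc hwc hw'c, hw, hw', hww,
      Cop_apply, map_smul, LinearMap.smul_apply, hf.smul_left, hf.comm' c b]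
    match_scalars <;> ring

/-- A member of an invariant family acts on one slot as the identity, or gives an elementary operator there. -/
theorem slot_cases [Finite F] (S₀ : Sl f κ) {S : (((J → Fin k) → F) →ₗ[F] (J → Fin k) → F) → Prop}
    (hS : Inv S₀.hf κ S) (i : J) {Z} (hZ : S Z) :
    (∃ L, Z = op i L LinearMap.id) ∨
      ∃ R T, R ≠ 0 ∧ (IsC S₀.hf T ∨ IsA S₀.hf T) ∧ S (op i R T) := by
  have hf := S₀.hf
  have h2 := S₀.two
  by_cases hC : ∃ c, c ≠ 0 ∧ f c c = 0 ∧ bet hf i Z c c ≠ 0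
  · obtain ⟨c, hc0, hc, hne⟩ := hC
    obtain ⟨r, hr, hSr⟩ := czc S₀ hS i hZ hc0 hc
    exact Or.inr ⟨_, _, smul_ne_zero hr hne, Or.inl ⟨1, c, one_ne_zero, hc0, hc, (one_smul _ _).symm⟩, hSr⟩
  push Not at hC
  have h0 : ∀ c, f c c = 0 → bet hf i Z c c = 0 := fun c hc => by
    by_cases h : c = 0
    · simp [h]
    · exact hC c h hc
  by_cases hiso : ∃ c : Fin k → F, c ≠ 0 ∧ f c c = 0
  swap
  · exfalso
    obtain ⟨x, hx⟩ : ∃ x : Fin k → F, f x x = 0 ∧ x ≠ 0 := by
      obtain ⟨x, -, hx0, hx⟩ := Orth.exists_singular (qf_nondeg hf h2) (X := (⊤ : Submodule F (Fin k → F))) (by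
        rw [finrank_top, Module.finrank_fintype_fun_eq_card, Fintype.card_fin]; exact S₀.hk)
      refine ⟨x, ?_, hx0⟩
      rw [qf, div_eq_zero_iff] at hx
      exact hx.resolve_right h2
    exact hiso ⟨x, hx.2, hx.1⟩
  obtain ⟨L, hL⟩ := S₀.scalar_sym (bet hf i Z) h0 hiso
  have hsym : ∀ a b, bet hf i Z a b = (2 * f a b) • L - bet hf i Z b a := fun a b =>
    eq_sub_of_add_eq (hL a b)
  have hdiag : ∀ a, bet hf i Z a a = f a a • L := fun a => by
    refine smul_right_injective _ h2 (?_ : (2 : F) • _ = (2 : F) • _)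
    linear_combination (norm := module) hL a a
  by_cases hA : ∃ c x, c ≠ 0 ∧ f c c = 0 ∧ f x c = 0 ∧ (k = 3 ∨ f x x = κ) ∧ f x x ≠ 0 ∧ bet hf i Z c x ≠ 0
  · obtain ⟨c, x, hc0, hc, hxc, hk, hx, hne⟩ := hA
    have hxc' : bet hf i Z x c = -bet hf i Z c x := by rw [hsym, hxc, mul_zero, zero_smul, zero_sub]
    refine Or.inr ?_
    rcases hk with h3 | hxκ
    · refine ⟨_, _, hne, Or.inr ⟨c, x, hc0, hc, hxc, hx, rfl⟩, ?_⟩
      obtain ⟨d₀, hd₀, hcd₀⟩ := S₀.exists_pair hc0 hc
      set d := d₀ - (f x d₀ / f x x) • x - (f x d₀ * f x d₀ / (2 * f x x)) • (-1 : F) • c with hd'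
      have hdd : f d d = 0 := by
        simp only [hd', hf.sub_left, hf.sub_right, hf.smul_left, hf.smul_right', hd₀, hc, hxc, hcd₀,
          hf.comm' c x, hf.comm' d₀ x, hf.comm' d₀ c]
        field_simp
        ring
      have hcd : f c d = 1 := by
        simp [hd', hf.sub_right, hf.add_right, hf.smul_right', hcd₀, hc, hf.comm' c x, hxc]
      have hxd : f x d = 0 := by
        simp [hd', hf.sub_right, hf.add_right, hf.smul_right', hxc, hx]
      have hdec := S₀.decomp3 hc hdd hcd h3 hxc hxd hx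
      convert dd_mem hS i hc hxc hZ using 1
      refine bet_inj hf i fun a b => ?_
      rw [bet_dd hf h2 i hc hxc, bet_op, h0 c hc, smul_zero, add_zero]
      have e1 : bet hf i Z c b = f b c • bet hf i Z c d + (f b x / f x x) • bet hf i Z c x := by
        conv_lhs => rw [hdec b]
        simp [h0 c hc]
      have e2 : bet hf i Z a c = f a c • bet hf i Z d c + (f a x / f x x) • bet hf i Z x c := by
        conv_lhs => rw [hdec a]
        simp [h0 c hc]
      rw [e1, e2, hxc', hsym d c, hf.comm' d c, hcd]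
      simp only [Aop_apply, map_sub, map_smul, LinearMap.sub_apply, LinearMap.smul_apply, h0 c hc, hxc',
        hdiag x, hf.sub_left, hf.smul_left, hf.comm' c b, hf.comm' x b]
      match_scalars <;> field_simp <;> ring
    · refine ⟨(2 : F) • bet hf i Z c x, _, smul_ne_zero h2 hne, Or.inr ⟨c, x, hc0, hc, hxc, hx, rfl⟩, ?_⟩
      convert hS.toAdditive.sub (dd_mem hS i hc hxc hZ)
        (hS.inv i (Or.inr ⟨x, hxκ, rfl⟩) (dd_mem hS i hc hxc hZ)) using 1
      refine bet_inj hf i fun a b => ?_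
      rw [bet_sub, bet_cj hf i (mr_isom hf hx), mr_inv hf hx, bet_op, bet_dd hf h2 i hc hxc,
        bet_dd hf h2 i hc hxc, h0 c hc, smul_zero, add_zero, smul_zero, add_zero]
      simp only [mv_mr hf hx, Aop_apply, map_sub, map_smul, LinearMap.sub_apply, LinearMap.smul_apply, h0 c hc,
        hxc', hdiag x, hf.sub_left, hf.smul_left, hxc, hf.comm' c b, hf.comm' x b]
      match_scalars <;> field_simp <;> ring
  push Not at hA
  refine Or.inl ⟨L, bet_inj hf i fun a b => ?_⟩
  rw [bet_op]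
  have hz : ∀ c, c ≠ 0 → f c c = 0 → ∀ v, f v c = 0 → bet hf i Z c v = 0 := by
    intro c hc0 hc v hv
    by_cases h5 : 5 ≤ k
    · exact S₀.good_span h5 hc0 hc (bet hf i Z c) (fun x hxc hx =>
        hA c x hc0 hc hxc (Or.inr hx) (hx ▸ S₀.hκ)) hv
    · have h3 : k = 3 := by
        obtain ⟨m, hm⟩ := S₀.odd
        have := S₀.hk
        omega
      obtain ⟨d, hd, hcd⟩ := S₀.exists_pair hc0 hc
      obtain ⟨x, hxc, hxd, hx⟩ := S₀.exists_W_aniso hc hd hcd
      rw [S₀.decomp3 hc hd hcd h3 hxc hxd hx v]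
      simp [hv, h0 c hc, hA c x hc0 hc hxc (Or.inl h3) hx]
  have hzero : ∀ c, c ≠ 0 → f c c = 0 → ∀ v, bet hf i Z c v = f c v • L := by
    intro c hc0 hc v
    obtain ⟨d, hd, hcd⟩ := S₀.exists_pair hc0 hc
    obtain ⟨x, hxc, hxd, hx⟩ := S₀.exists_W_aniso hc hd hcd
    set c' := c + x - (f x x / 2) • d with hc'
    have hc'c : f c' c' = 0 := by
      simp only [hc', hf.add_left, hf.add_right, hf.sub_left, hf.sub_right, hf.smul_left, hf.smul_right', hc, hd,
        hcd, hxc, hxd, hf.comm' c x, hf.comm' d x, hf.comm' d c]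
      field_simp
      ring
    have hc'0 : c' ≠ 0 := fun e => by
      have e2 : f c' d = 1 := by simp [hc', hf.add_left, hf.sub_left, hf.smul_left, hcd, hxd, hd]
      rw [e, hf.zero_left] at e2
      exact zero_ne_one e2
    have hd0 : d ≠ 0 := fun e => by rw [e, hf.zero_right] at hcd; exact zero_ne_one hcd
    have hy := hz c' hc'0 hc'c (x - f x x • d) (by
      simp [hc', hf.add_right, hf.sub_left, hf.sub_right, hf.smul_left, hf.smul_right', hxc, hxd, hd,
        hf.comm' d c, hcd, hf.comm' d x])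
    have hdx : bet hf i Z d x = 0 := hz d hd0 hd x hxd
    have hcd' : bet hf i Z c d = L := by
      refine smul_right_injective _ hx (?_ : f x x • _ = f x x • _)
      have hcx : bet hf i Z c x = 0 := hz c hc0 hc x hxc
      have hxd' : bet hf i Z x d = 0 := by rw [hsym, hxd, hdx, mul_zero, zero_smul, sub_zero]
      simp only [hc', map_add, map_sub, map_smul, LinearMap.add_apply, LinearMap.sub_apply, LinearMap.smul_apply,
        hcx, hdiag x, hxd', hdx, h0 d hd] at hy
      linear_combination (norm := module) -hy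
    obtain ⟨u, hu, hv⟩ : ∃ u, f u c = 0 ∧ v = u + f v c • d :=
      ⟨v - f v c • d, by simp [hf.sub_left, hf.smul_left, hf.comm' d c, hcd], by abel⟩
    rw [hv, map_add, map_smul, hz c hc0 hc u hu, hcd', hf.add_right, hf.smul_right', hf.comm' c u, hu, hcd]
    module
  obtain ⟨c, hc0, hc⟩ := hiso
  obtain ⟨d, hd, hcd⟩ := S₀.exists_pair hc0 hc
  have hdc : f d c = 1 := by rw [hf.comm', hcd]
  have hd0 : d ≠ 0 := fun e => by rw [e, hf.zero_right] at hcd; exact zero_ne_one hcd
  obtain ⟨a', hac, had, ha⟩ : ∃ a', f a' c = 0 ∧ f a' d = 0 ∧ a = a' + f a d • c + f a c • d :=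
    ⟨a - f a d • c - f a c • d, by simp [hf.sub_left, hf.smul_left, hc, hdc],
      by simp [hf.sub_left, hf.smul_left, hd, hcd], by abel⟩
  have ha' : bet hf i Z a' b = f a' b • L := by
    set c' := c + a' - (f a' a' / 2) • d with hc'
    have hc'c : f c' c' = 0 := by
      simp only [hc', hf.add_left, hf.add_right, hf.sub_left, hf.sub_right, hf.smul_left, hf.smul_right', hc, hd,
        hcd, hac, had, hf.comm' c a', hf.comm' d a', hdc]
      field_simp
      ring
    have hc'0 : c' ≠ 0 := fun e => by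
      have e2 : f c' d = 1 := by simp [hc', hf.add_left, hf.sub_left, hf.smul_left, hcd, had, hd]
      rw [e, hf.zero_left] at e2
      exact zero_ne_one e2
    have := hzero c' hc'0 hc'c b
    simp only [hc', map_add, map_sub, map_smul, LinearMap.add_apply, LinearMap.sub_apply, LinearMap.smul_apply,
      hzero c hc0 hc, hzero d hd0 hd, hf.add_left, hf.sub_left, hf.smul_left] at this
    linear_combination (norm := module) this
  rw [ha]
  simp only [map_add, map_smul, LinearMap.add_apply, LinearMap.smul_apply, LinearMap.id_apply, ha',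
    hzero c hc0 hc, hzero d hd0 hd, hf.add_left, hf.smul_left]
  module

theorem op_id (i : J) (s : F) :
    op (k := k) i (s • (LinearMap.id : (Rest i k → F) →ₗ[F] Rest i k → F)) LinearMap.id = s • LinearMap.id := by
  rw [op_smul_left, op_one]

/-- A non-scalar member of an invariant family gives a product of elementary operators. -/
theorem exists_loc [Finite F] (S₀ : Sl f κ) :
    ∀ (n : ℕ) (J : Type) [Fintype J] [DecidableEq J], Fintype.card J = n →
    ∀ S : (((J → Fin k) → F) →ₗ[F] (J → Fin k) → F) → Prop, Inv S₀.hf κ S →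
    ∀ Z, S Z → (¬ ∃ s : F, Z = s • LinearMap.id) →
    ∃ T : J → ((Fin k → F) →ₗ[F] Fin k → F),
      (∀ j, T j = LinearMap.id ∨ IsC S₀.hf (T j) ∨ IsA S₀.hf (T j)) ∧
      (∃ j, T j ≠ LinearMap.id) ∧ S (Loc T) := by
  intro n
  induction n with
  | zero =>
    intro J _ _ hJ S hS Z hZ hns
    haveI : IsEmpty J := Fintype.card_eq_zero_iff.1 hJ
    exact absurd ⟨Z (fun _ => 1) isEmptyElim, LinearMap.ext fun x => by
      have e : x = x isEmptyElim • fun _ => (1 : F) := funext fun a => by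
        rw [Subsingleton.elim a isEmptyElim]; simp
      conv_lhs => rw [e, map_smul]
      funext a
      rw [Subsingleton.elim a isEmptyElim]
      simp [mul_comm]⟩ hns
  | succ n ih =>
    intro J _ _ hJ S hS Z hZ hns
    classical
    obtain ⟨i⟩ : Nonempty J := Fintype.card_pos_iff.1 (by omega)
    have hcard : Fintype.card {j // j ≠ i} = n := by
      rw [Fintype.card_subtype_compl, Fintype.card_subtype_eq, hJ, Nat.add_sub_cancel]
    have hasm : ∀ (T : {j // j ≠ i} → ((Fin k → F) →ₗ[F] Fin k → F)) (C : (Fin k → F) →ₗ[F] Fin k → F),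
        op i (Loc T) C = Loc fun j => if h : j = i then C else T ⟨j, h⟩ := by
      intro T C
      rw [loc_eq_op i fun j => if h : j = i then C else T ⟨j, h⟩, dif_pos rfl]
      exact congrArg (fun R => op i (Loc R) C) (funext fun j => by rw [dif_neg j.2])
    have hrec : ∀ (R : (Rest i k → F) →ₗ[F] Rest i k → F) (C : (Fin k → F) →ₗ[F] Fin k → F),
        (C = LinearMap.id ∨ IsC S₀.hf C ∨ IsA S₀.hf C) → (¬ ∃ s : F, R = s • LinearMap.id) → S (op i R C) →
        ∃ T : J → ((Fin k → F) →ₗ[F] Fin k → F),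
          (∀ j, T j = LinearMap.id ∨ IsC S₀.hf (T j) ∨ IsA S₀.hf (T j)) ∧
          (∃ j, T j ≠ LinearMap.id) ∧ S (Loc T) := by
      intro R C hC hR hSR
      obtain ⟨T, hT, ⟨j, hj⟩, hST⟩ := ih {j // j ≠ i} hcard (fun Y => S (op i Y C))
        { add := fun {x y} hx hy => by
            show S (op i (x + y) C)
            rw [op_add_left]; exact hS.add hx hy
          neg := fun {x} hx => by
            show S (op i (-x) C)
            rw [op_neg_left]; exact hS.neg hx
          inv := fun l {B} hB {X} hX => by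
            have := hS.inv (l : J) hB hX
            rwa [cj_op_other l.2] at this } R hSR hR
      refine ⟨_, fun l => ?_, ⟨j, ?_⟩, (hasm T C) ▸ hST⟩
      · by_cases h : l = i
        · rw [dif_pos h]; exact hC
        · rw [dif_neg h]; exact hT _
      · rw [dif_neg j.2]; exact hj
    rcases slot_cases S₀ hS i hZ with ⟨L, hL⟩ | ⟨R, T, hR, hT, hSRT⟩
    · exact hrec L LinearMap.id (Or.inl rfl) (fun ⟨s, hs⟩ => hns ⟨s, by rw [hL, hs, op_id]⟩) (hL ▸ hZ)
    · by_cases hsc : ∃ s : F, R = s • LinearMap.id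
      · obtain ⟨s, rfl⟩ := hsc
        have hs : s ≠ 0 := fun e => hR (by rw [e, zero_smul])
        refine ⟨fun j => if h : j = i then s • T else LinearMap.id, fun j => ?_, ⟨i, ?_⟩, ?_⟩
        · by_cases h : j = i
          · simp only [dif_pos h]; exact Or.inr (elem_smul hT hs)
          · simp only [dif_neg h]; exact Or.inl trivial
        · simp only [dif_pos rfl]; exact elem_ne_id (elem_smul hT hs)
        · rw [← hasm (fun _ => LinearMap.id), loc_id, op_smul_right]
          rwa [op_smul_left] at hSRT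
      · exact hrec R T (Or.inr hT) hsc hSRT

end Cfsg.Agent.OrthWreath
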