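/-
Members of one or two slots inside the commutator subgroup: root elements, mirrors of one value, compensated pairs.
-/
import Cfsg.Agent.Lib.OrthWreath.Growth
import Cfsg.Agent.Lib.FormWreath.OmegaPerm

set_option autoImplicit false
set_option linter.unusedSectionVars false

namespace Cfsg.Agent.OrthWreath

open scoped Matrix
open Matrix Cfsg.Agent.Transvec Cfsg.Agent.TensorMax Cfsg.Agent.WreathMax Cfsg.Agent.FormWreath

variable {F : Type*} [Field F] [Finite F] {k : ℕ} {J : Type} [Fintype J] [DecidableEq J]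
variable {f : (Fin k → F) → (Fin k → F) → F}

local notation "σ₁" => RingEquiv.refl F

theorem comm_mem_omega {ι : Type} [Fintype ι] [DecidableEq ι] {Q : (ι → F) → F} {g h : GL ι F}
    (hg : g ∈ isometryGroup F Q) (hh : h ∈ isometryGroup F Q) : g * h * g⁻¹ * h⁻¹ ∈ Geo.omegaGL Q := by
  have e := Subgroup.commutator_mem_commutator (H₁ := (⊤ : Subgroup (isometryGroup F Q))) (H₂ := ⊤)
    (Subgroup.mem_top (⟨g, hg⟩ : isometryGroup F Q)) (Subgroup.mem_top (⟨h, hh⟩ : isometryGroup F Q))
  refine Subgroup.mem_map.2 ⟨_, e, ?_⟩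
  simp [commutatorElement_def]

theorem conj_omega {ι : Type} [Fintype ι] [DecidableEq ι] {Q : (ι → F) → F}
    (hQ : Geo.IsNondegenerateQuadraticForm Q) {g h : GL ι F} (hg : g ∈ isometryGroup F Q)
    (hh : h ∈ Geo.omegaGL Q) : g * h * g⁻¹ ∈ Geo.omegaGL Q := by
  have := (Geo.omegaGL Q).mul_mem (comm_mem_omega hg (Transvec.Orth.omega_le_isometry hQ hh)) hh
  rwa [inv_mul_cancel_right] at this

theorem fac_pres' (hf : Sym f) (i : J) {T : GL (Fin k) F} (hT : ∀ x y, f (mv T x) (mv T y) = f x y)
    (x y : (J → Fin k) → F) : Bt σ₁ f (mv (fac i T) x) (mv (fac i T) y) = Bt σ₁ f x y := by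
  refine pres_of_pten' hf (fun x y => ?_) x y
  rw [mv_fac, mv_fac, Bt_pten hf, Bt_pten hf]
  refine Finset.prod_congr rfl fun j _ => ?_
  by_cases hj : j = i
  · subst hj; rw [Function.update_self, Function.update_self, hT]
  · rw [Function.update_of_ne hj, Function.update_of_ne hj]

/-- The quarter turn of two orthogonal vectors of the same value squares to the product of their sign changes. -/
theorem quarter_turn (hf : Sym f) (h2 : (2 : F) ≠ 0) {a b : Fin k → F} {ν : F} (hν : ν ≠ 0) (ha : f a a = ν)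
    (hb : f b b = ν) (hab : f a b = 0) :
    ∃ r : GL (Fin k) F, (∀ x y, f (mv r x) (mv r y) = f x y) ∧
      ∀ v, mv (r * r) v = v - (2 * f v a / ν) • a - (2 * f v b / ν) • b := by
  have hba : f b a = 0 := by rw [hf.comm', hab]
  have hu : f (a + b) (a + b) = 2 * ν := by
    rw [hf.add_left, hf.add_right, hf.add_right, ha, hb, hab, hba]; ring
  have hu0 : f (a + b) (a + b) ≠ 0 := by rw [hu]; exact mul_ne_zero h2 hν
  have ha0 : f a a ≠ 0 := by rw [ha]; exact hν
  refine ⟨mr hf a * mr hf (a + b), fun x y => by rw [mv_mul, mv_mul, mr_isom hf ha0, mr_isom hf hu0], fun v => ?_⟩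
  simp only [mv_mul, mv_mr hf ha0, mv_mr hf hu0, hu, ha, hf.sub_left, hf.smul_left, hf.add_left, hf.add_right,
    hab, hba, hb]
  match_scalars <;> field_simp <;> ring

/-- An orthogonal basis whose vectors but one share a value, the remaining one having value κ. -/
def FrameVal (f : (Fin k → F) → (Fin k → F) → F) (κ : F) : Prop :=
  ∃ (y : Fin k → Fin k → F) (l : Fin k) (ν : F), ν ≠ 0 ∧ (∀ a b, a ≠ b → f (y a) (y b) = 0) ∧
    (∀ a, a ≠ l → f (y a) (y a) = ν) ∧ f (y l) (y l) = κ

/-- The hypotheses on the form alone. -/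
structure Base (f : (Fin k → F) → (Fin k → F) → F) (Q : ((J → Fin k) → F) → F) (κ : F) : Prop extends Sl f κ where
  hQ : Geo.IsNondegenerateQuadraticForm Q
  hpol : ∀ x y, Transvec.Orth.pol Q x y = Bt σ₁ f x y
  hJ : 2 ≤ Fintype.card J
  frame : FrameVal f κ

variable {Q : ((J → Fin k) → F) → F} {κ : F}

namespace Base

variable (B : Base f Q κ)
include B

theorem card_ge : 9 ≤ Fintype.card (J → Fin k) := by
  rw [Fintype.card_fun, Fintype.card_fin]
  calc 9 = 3 ^ 2 := by norm_num
    _ ≤ k ^ 2 := Nat.pow_le_pow_left B.hk 2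
    _ ≤ k ^ Fintype.card J := Nat.pow_le_pow_right (by have := B.hk; omega) B.hJ

theorem mem_iso {g : GL (J → Fin k) F} (h : ∀ x y, Bt σ₁ f (mv g x) (mv g y) = Bt σ₁ f x y) :
    g ∈ isometryGroup F Q :=
  Transvec.Orth.mem_isometry.2 fun z => mul_left_cancel₀ B.two (by
    rw [← Transvec.Orth.pol_self B.hQ, ← Transvec.Orth.pol_self B.hQ, B.hpol, B.hpol, h])

theorem fac_iso (i : J) {T : GL (Fin k) F} (hT : ∀ x y, f (mv T x) (mv T y) = f x y) :
    fac i T ∈ isometryGroup F Q :=
  B.mem_iso (fac_pres' B.hf i hT)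

theorem eA_omega (i : J) {c w : Fin k → F} (hc : f c c = 0) (hw : f w c = 0) :
    fac i (eA B.hf c w) ∈ Geo.omegaGL Q := by
  haveI : Fintype F := Fintype.ofFinite F
  obtain ⟨p, hp⟩ := CharP.exists F
  haveI := hp
  have hpp : p.Prime := CharP.char_is_prime F p
  refine OrthTensor.omega_of_odd B.hQ B.two (by have := B.card_ge; omega) (B.fac_iso i (eA_isom B.hf B.two hc hw))
    (((hpp.odd_of_ne_two fun e => B.two (by subst e; exact CharP.cast_eq_zero F 2))).of_dvd_nat
      (orderOf_dvd_of_pow_eq_one ?_))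
  have e : ∀ n : ℕ, fac i (eA B.hf c w) ^ n = fac i (eA B.hf c w ^ n) := fun n => by
    induction n with
    | zero => rw [pow_zero, pow_zero, fac_one]
    | succ n ih => rw [pow_succ, pow_succ, ih, fac_mul]
  rw [e, eA_pow_char B.hf B.two p hc hw, fac_one]

/-- Mirrors of value κ lie in the commutator subgroup. -/
theorem mir_omega (i : J) {x : Fin k → F} (hx : f x x = κ) : fac i (mr B.hf x) ∈ Geo.omegaGL Q := by
  classical
  haveI : Fintype F := Fintype.ofFinite F
  have hf := B.hf
  have h2 := B.two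
  obtain ⟨y, l, ν, hν, horth, hval, hl⟩ := B.frame
  have hpos : ∀ a, f (y a) (y a) ≠ 0 := fun a => by
    by_cases h : a = l
    · subst h; rw [hl]; exact B.hκ
    · rw [hval a h]; exact hν
  have key : ∀ (n : ℕ) (U : Finset (Fin k)), U.card = 2 * n → l ∉ U → ∃ g : GL (Fin k) F,
      fac i g ∈ Geo.omegaGL Q ∧ ∀ a, mv g (y a) = if a ∈ U then -y a else y a := by
    intro n
    induction n with
    | zero =>
      intro U hU _
      rw [Nat.mul_zero, Finset.card_eq_zero] at hU
      exact ⟨1, by rw [fac_one]; exact Subgroup.one_mem _, fun a => by simp [hU, mv_one]⟩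
    | succ n ih =>
      intro U hU hlU
      obtain ⟨b, hb⟩ := Finset.card_pos.1 (by omega : 0 < U.card)
      obtain ⟨c, hc⟩ := Finset.card_pos.1 (by rw [Finset.card_erase_of_mem hb]; omega : 0 < (U.erase b).card)
      obtain ⟨hcb, hcU⟩ := Finset.mem_erase.1 hc
      obtain ⟨g, hg, hgy⟩ := ih ((U.erase b).erase c) (by
        rw [Finset.card_erase_of_mem hc, Finset.card_erase_of_mem hb]; omega)
        (fun h => hlU (Finset.mem_of_mem_erase (Finset.mem_of_mem_erase h)))
      obtain ⟨r, hr, hrr⟩ := quarter_turn hf h2 hν (hval b fun e => hlU (e ▸ hb))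
        (hval c fun e => hlU (e ▸ hcU)) (horth b c (Ne.symm hcb))
      refine ⟨r * r * g, ?_, fun a => ?_⟩
      · rw [fac_mul, fac_mul]
        exact Subgroup.mul_mem _ (mul_self_mem_omega B.hQ (by have := B.card_ge; omega) (B.fac_iso i hr)) hg
      · have hb1 := hval b fun e => hlU (e ▸ hb)
        have hc1 := hval c fun e => hlU (e ▸ hcU)
        rw [mv_mul, hgy]
        by_cases ha1 : a = b
        · subst ha1
          rw [if_neg (by simp), if_pos hb, hrr, hb1, horth a c (Ne.symm hcb)]
          match_scalars <;> field_simp <;> ring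
        by_cases ha2 : a = c
        · subst ha2
          rw [if_neg (by simp), if_pos hcU, hrr, hc1, horth a b hcb]
          match_scalars <;> field_simp <;> ring
        by_cases ha : a ∈ U
        · rw [if_pos (by simp [ha1, ha2, ha]), if_pos ha, hrr, hf.neg_left, hf.neg_left, horth a b ha1,
            horth a c ha2]
          simp
        · rw [if_neg (by simp [ha]), if_neg ha, hrr, horth a b ha1, horth a c ha2]
          simp
  obtain ⟨n, hn⟩ := B.odd
  obtain ⟨g, hg, hgy⟩ := key n (Finset.univ.erase l) (by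
    rw [Finset.card_erase_of_mem (Finset.mem_univ l), Finset.card_univ, Fintype.card_fin]; omega)
    (Finset.notMem_erase l _)
  have hli : LinearIndependent F y := by
    rw [Fintype.linearIndependent_iff]
    intro c hc a
    have e : f (∑ b, c b • y b) (y a) = c a * f (y a) (y a) := by
      rw [show f (∑ b, c b • y b) (y a) = ∑ b, f (c b • y b) (y a) from map_sum (hf.formL (y a)) _ _,
        Finset.sum_eq_single a (fun b _ hb => by rw [hf.smul_left, horth b a hb, mul_zero])
          (fun h => absurd (Finset.mem_univ a) h), hf.smul_left]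
    rw [hc, hf.zero_left] at e
    exact (mul_eq_zero.1 e.symm).resolve_right (hpos a)
  haveI : Nonempty (Fin k) := ⟨l⟩
  have hspan := hli.span_eq_top_of_card_eq_finrank (by
    haveI : NeZero k := ⟨by have := B.hk; omega⟩
    rw [Fintype.card_fin, Module.finrank_fintype_fun_eq_card, Fintype.card_fin])
  have hgl : g = mr hf (y l) := ext_mv fun v => by
    have hv : v ∈ Submodule.span F (Set.range y) := by rw [hspan]; exact Submodule.mem_top
    induction hv using Submodule.span_induction with
    | mem v hv =>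
      obtain ⟨a, rfl⟩ := hv
      rw [hgy]
      by_cases ha : a = l
      · subst ha; rw [if_neg (by simp), mr_self hf (hpos a)]
      · rw [if_pos (by simp [ha]), mr_perp hf (hpos l) (horth a l ha)]
    | zero => rw [mv_zero, mv_zero]
    | add u v _ _ hu hv => rw [mv_add, mv_add, hu, hv]
    | smul r u _ hu => rw [mv_smul, mv_smul, hu]
  subst hgl
  obtain ⟨T, hT, hTy⟩ : ∃ T : GL (Fin k) F, (∀ u v, f (mv T u) (mv T v) = f u v) ∧
      mr hf (mv T (y l)) = mr hf x := by
    have hx0 : f x x ≠ 0 := by rw [hx]; exact B.hκ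
    by_cases hs : f (x + y l) (x + y l) = 0
    · have hd : f (x - y l) (x - y l) ≠ 0 := fun e => by
        simp only [hf.add_left, hf.add_right, hf.sub_left, hf.sub_right, hx, hl, hf.comm' (y l) x] at hs e
        exact mul_ne_zero (mul_ne_zero h2 h2) B.hκ (by linear_combination hs + e)
      refine ⟨mr hf (x - y l), mr_isom hf hd, ?_⟩
      rw [show mv (mr hf (x - y l)) (y l) = (-1 : F) • x by
        rw [mv_mr hf hd]
        simp only [hf.sub_left, hf.sub_right, hx, hl, hf.comm' (y l) x] at hd ⊢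
        match_scalars <;> field_simp <;> ring, mr_smul hf hx0 (neg_ne_zero.2 one_ne_zero)]
    · refine ⟨mr hf (x + y l), mr_isom hf hs, ?_⟩
      rw [show mv (mr hf (x + y l)) (y l) = x by
        rw [mv_mr hf hs]
        simp only [hf.add_left, hf.add_right, hx, hl, hf.comm' (y l) x] at hs ⊢
        match_scalars <;> field_simp <;> ring]
  have := conj_omega B.hQ (B.fac_iso i hT) hg
  rwa [fac_inv, ← fac_mul, ← fac_mul, mr_conj hf hT (hpos l), hTy] at this

/-- Two mirrors of equal value in different slots. -/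
theorem pair_omega {a b : J} (hab : a ≠ b) {x y : Fin k → F} (hxy : f x x = f y y) (hx : f x x ≠ 0) :
    fac a (mr B.hf x) * fac b (mr B.hf y) ∈ Geo.omegaGL Q := by
  have hf := B.hf
  have hy : f y y ≠ 0 := hxy ▸ hx
  have hm : fac a (mr hf x) ∈ isometryGroup F Q := B.fac_iso a (mr_isom hf hx)
  have hπ : (pm (Equiv.swap a b) : GL (J → Fin k) F) ∈ isometryGroup F Q := B.mem_iso fun u v => by
    refine pres_of_pten' hf (fun x y => ?_) u v
    rw [UWreath.mv_pm_pten, UWreath.mv_pm_pten, Bt_pten hf, Bt_pten hf]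
    exact Fintype.prod_equiv (Equiv.swap a b)⁻¹ _ _ fun j => rfl
  have h1 := comm_mem_omega hm hπ
  have e1 : fac a (mr hf x) * pm (Equiv.swap a b) * (fac a (mr hf x))⁻¹ * (pm (Equiv.swap a b))⁻¹ =
      fac a (mr hf x) * fac b (mr hf x) := by
    rw [mul_assoc, mul_assoc, fac_inv, mr_inv hf hx]
    congr 1
    rw [← mul_assoc, UWreath.fac_conj_pm, Equiv.swap_apply_left]
  rw [e1] at h1
  obtain ⟨T, hT, hTy⟩ : ∃ T : GL (Fin k) F, (∀ u v, f (mv T u) (mv T v) = f u v) ∧
      mr hf (mv T x) = mr hf y := by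
    by_cases hs : f (x + y) (x + y) = 0
    · have hd : f (x - y) (x - y) ≠ 0 := fun e => by
        simp only [hf.add_left, hf.add_right, hf.sub_left, hf.sub_right, hf.comm' y x] at hs e
        exact mul_ne_zero (mul_ne_zero B.two B.two) hx (by linear_combination hs + e + 2 * hxy)
      refine ⟨mr hf (x - y), mr_isom hf hd, ?_⟩
      rw [show mv (mr hf (x - y)) x = (-1 : F) • y by
        rw [mv_mr hf hd]
        simp only [hf.sub_left, hf.sub_right, hf.comm' y x, ← hxy] at hd ⊢
        match_scalars <;> field_simp <;> ring, mr_smul hf hy (neg_ne_zero.2 one_ne_zero)]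
    · refine ⟨mr hf (x + y), mr_isom hf hs, ?_⟩
      rw [show mv (mr hf (x + y)) x = y by
        rw [mv_mr hf hs]
        simp only [hf.add_left, hf.add_right, hf.comm' y x, ← hxy] at hs ⊢
        match_scalars <;> field_simp <;> ring]
  have h3 := conj_omega B.hQ (B.fac_iso b hT) h1
  have e2 : fac b T * (fac a (mr hf x) * fac b (mr hf x)) * (fac b T)⁻¹ =
      fac a (mr hf x) * fac b (mr hf y) := by
    rw [← mul_assoc, ← fac_comm hab, mul_assoc, mul_assoc, fac_inv, ← fac_mul, ← fac_mul, ← mul_assoc,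
      mr_conj hf hT hx, hTy]
  rwa [e2] at h3

/-- The hypotheses hold for every group between the monomial part and the commutator subgroup. -/
theorem ctx {X : Subgroup (GL (J → Fin k) F)} (le : X ≤ Geo.omegaGL Q)
    (hmono : ∀ g ∈ Geo.omegaGL Q, Mono g → g ∈ X) : Ctx f Q κ X where
  toSl := B.toSl
  hQ := B.hQ
  hpol := B.hpol
  le := le
  root i c w hc hw := hmono _ (B.eA_omega i hc hw) ⟨1, monoOf_fac i _⟩
  mir i x hx := hmono _ (B.mir_omega i hx) ⟨1, monoOf_fac i _⟩
  pair a b x y hab hxy hx := hmono _ (B.pair_omega hab hxy hx) ⟨1 * 1, (monoOf_fac a _).mul (monoOf_fac b _)⟩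
  mono := hmono

end Base

end Cfsg.Agent.OrthWreath
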