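/-
A monomial involution whose fixed space is as small as that of a negated reflection of one slot.
-/
import Cfsg.Agent.Lib.OrthWreath.Omega
import Cfsg.Agent.Lib.WreathMax.Lines
import Cfsg.Agent.Lib.FormWreath.Rigid

set_option autoImplicit false
set_option linter.unusedSectionVars false

namespace Cfsg.Agent.OrthWreath

open scoped Matrix
open Matrix Cfsg.Agent.Transvec Cfsg.Agent.TensorMax Cfsg.Agent.WreathMax Cfsg.Agent.FormWreath

variable {F : Type*} [Field F] [Finite F] {k : ℕ} {J : Type} [Fintype J] [DecidableEq J]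
variable {f : (Fin k → F) → (Fin k → F) → F} {κ : F}

local notation "σ₁" => RingEquiv.refl F

theorem pten_single (a : J → Fin k) :
    pten (fun j => (Pi.single (a j) (1 : F) : Fin k → F)) = Pi.single a 1 := by
  funext b
  unfold pten
  by_cases hb : b = a
  · subst hb; simp
  · obtain ⟨j, hj⟩ := Function.ne_iff.1 hb
    rw [Pi.single_eq_of_ne hb]
    exact Finset.prod_eq_zero (Finset.mem_univ j) (Pi.single_eq_of_ne hj _)

theorem eq_of_single {V : Type*} [AddCommGroup V] [Module F V] {L L' : ((J → Fin k) → F) →ₗ[F] V}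
    (h : ∀ a, L (Pi.single a 1) = L' (Pi.single a 1)) : L = L' :=
  LinearMap.pi_ext' fun a => LinearMap.ext_ring (h a)

/-- The fixed space. -/
def fixsp {ι : Type} [Fintype ι] [DecidableEq ι] (g : GL ι F) : Submodule F (ι → F) := LinearMap.ker (dev g)

theorem mem_fixsp {ι : Type} [Fintype ι] [DecidableEq ι] {g : GL ι F} {x : ι → F} :
    x ∈ fixsp g ↔ mv g x = x := by
  rw [fixsp, LinearMap.mem_ker, dev_apply, sub_eq_zero]

theorem fixsp_conj {ι : Type} [Fintype ι] [DecidableEq ι] (g h : GL ι F) :
    fixsp (g * h * g⁻¹) = (fixsp h).map (mvLin g) := by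
  ext x
  rw [mem_fixsp, mem_map_gl, mv_mul, mv_mul]
  constructor
  · intro e
    refine ⟨mv g⁻¹ x, mem_fixsp.2 (mv_inj g ?_), mv_mv_inv g x⟩
    rw [e, mv_mv_inv]
  · rintro ⟨y, hy, rfl⟩
    rw [mv_inv_mv, mem_fixsp.1 hy]

theorem finrank_fixsp_conj {ι : Type} [Fintype ι] [DecidableEq ι] (g h : GL ι F) :
    Module.finrank F (fixsp (g * h * g⁻¹)) = Module.finrank F (fixsp h) := by
  rw [fixsp_conj, finrank_map_gl]

/-- The size of the fixed space of a mirror of one slot. -/
def Small (h : GL (J → Fin k) F) : Prop :=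
  Module.finrank F (fixsp h) * k = k ^ Fintype.card J

theorem fixsp_mir (S : Sl f κ) (i : J) {x : Fin k → F} (hx : f x x ≠ 0) :
    fixsp (fac i (mr S.hf x)) = Ln i x := by
  have hx0 : x ≠ 0 := fun e => hx (by rw [e, S.hf.zero_left])
  refine le_antisymm (fun z hz => ?_) fun z hz => ?_
  · have e : mvLin (fac i (mr S.hf x)) = op i LinearMap.id (Mlin S.hf x) := ext_ins i fun v w => by
      show mv (fac i (mr S.hf x)) (ins i v w) = _
      rw [mv_fac_ins, mv_mr S.hf hx, op_ins, Mlin_apply, LinearMap.id_apply]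
    refine mem_Ln_of_cr hx0 fun φ hφ => ?_
    obtain ⟨v, rfl⟩ := S.hf.frow_surj (fun _ => rfl) φ
    rw [S.hf.frow_dot] at hφ
    have hc : cr i (frow f v) (mv (fac i (mr S.hf x)) z) = -cr i (frow f v) z := by
      rw [cr_fac i (mr S.hf x) (φ := frow f v) (φ' := -frow f v) (fun u => by
        rw [neg_dotProduct, S.hf.frow_dot, S.hf.frow_dot, mv_mr S.hf hx, S.hf.sub_left, S.hf.smul_left, hφ,
          mul_zero, zero_sub])]
      show ctr (-frow f v) _ = -ctr (frow f v) _
      rw [← neg_one_smul F (frow f v), ctr_smul_vec, LinearMap.smul_apply, neg_one_smul]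
    rw [mem_fixsp.1 hz] at hc
    refine smul_right_injective _ S.two (?_ : (2 : F) • _ = (2 : F) • (0 : Rest i k → F))
    linear_combination (norm := module) hc
  · obtain ⟨w, rfl⟩ := mem_Ln_ins hz
    rw [mem_fixsp, mv_fac_ins, mr_self S.hf hx]

theorem small_mir (S : Sl f κ) (i : J) {x : Fin k → F} (hx : f x x ≠ 0) : Small (fac i (mr S.hf x)) := by
  have hx0 : x ≠ 0 := fun e => hx (by rw [e, S.hf.zero_left])
  rw [Small, fixsp_mir S i hx, finrank_Ln i hx0, card_rest]

theorem perm_of_monoOf (hk : 2 ≤ k) [Nonempty J] {σ τ : Equiv.Perm J} {g : GL (J → Fin k) F}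
    (hσ : MonoOf σ g) (hτ : MonoOf τ g) : σ = τ := by
  obtain ⟨A, hA⟩ := hσ
  obtain ⟨B, hB⟩ := hτ
  refine inv_injective (Equiv.ext fun i => ?_)
  set v : Fin k → F := Pi.single ⟨0, by omega⟩ 1
  have hv : v ≠ 0 := Pi.single_ne_zero_iff.2 one_ne_zero
  have h1 := monoOf_map_Ln (by omega) hA i hv
  have h2 := monoOf_map_Ln (by omega) hB i hv
  exact Ln_type_unique hk (fun e => hv (mv_inj _ (e.trans (mv_zero _).symm)))
    (fun e => hv (mv_inj _ (e.trans (mv_zero _).symm))) (h1.symm.trans h2)

namespace Sl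

variable (S : Sl f κ)
include S

theorem exists_aniso : ∃ e : Fin k → F, f e e = κ := by
  obtain ⟨x, -, hx⟩ := S.exists_value (P := ⊤)
    (fun u _ h => S.hf.nondeg u fun y => by rw [S.hf.comm']; exact h y Submodule.mem_top)
    (by rw [finrank_top, Module.finrank_fintype_fun_eq_card, Fintype.card_fin]; have := S.hk; omega) κ
  exact ⟨x, hx⟩

/-- The multiplier of a similitude of odd dimension is a square. -/
theorem mult_sq {A : GL (Fin k) F} {l : F} (hl : l ≠ 0) (hA : ∀ u v, f (mv A u) (mv A v) = l * f u v) :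
    (l ^ k = (A : Matrix (Fin k) (Fin k) F).det ^ 2) ∧ ∃ ν : F, ν ≠ 0 ∧ l = ν * ν := by
  have hf := S.hf
  let Φ : (Fin k → F) →ₗ[F] Fin k → F :=
    { toFun := frow f
      map_add' := hf.frow_add
      map_smul' := fun a c => by rw [hf.frow_smul]; rfl }
  have hΦ : ∀ u v, u ⬝ᵥ Φ v = f u v := fun u v => by
    show u ⬝ᵥ frow f v = _
    rw [dotProduct_comm, hf.frow_dot]
  set G := LinearMap.toMatrix' Φ
  have hG : ∀ u v, u ⬝ᵥ G *ᵥ v = f u v := fun u v => by rw [LinearMap.toMatrix'_mulVec, hΦ]
  have e : (A : Matrix (Fin k) (Fin k) F)ᵀ * G * (A : Matrix (Fin k) (Fin k) F) = l • G := by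
    refine Matrix.toLin'.injective (LinearMap.ext fun v => dotProduct_eq _ _ fun w => ?_)
    rw [dotProduct_comm, dotProduct_comm _ w, Matrix.toLin'_apply, Matrix.toLin'_apply, ← Matrix.mulVec_mulVec,
      ← Matrix.mulVec_mulVec, Matrix.dotProduct_mulVec, Matrix.vecMul_transpose, Matrix.smul_mulVec,
      dotProduct_smul, smul_eq_mul, hG, hG]
    exact hA w v
  have hG0 : G.det ≠ 0 := fun h0 => by
    obtain ⟨v, hv, hv0⟩ := Matrix.exists_mulVec_eq_zero_iff.2 h0
    exact hv (hf.nondeg v fun y => by rw [hf.comm', ← hG, hv0, dotProduct_zero])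
  have hd := congrArg Matrix.det e
  rw [Matrix.det_mul, Matrix.det_mul, Matrix.det_transpose, Matrix.det_smul, Fintype.card_fin] at hd
  have h1 : l ^ k = (A : Matrix (Fin k) (Fin k) F).det ^ 2 := mul_right_cancel₀ hG0 (by linear_combination -hd)
  refine ⟨h1, ?_⟩
  obtain ⟨m, hm⟩ := S.odd
  set D := (A : Matrix (Fin k) (Fin k) F).det
  have hD : D ≠ 0 := fun e0 => by
    rw [e0, zero_pow two_ne_zero] at h1
    exact hl ((pow_eq_zero_iff (by omega)).1 h1)
  refine ⟨D / l ^ m, div_ne_zero hD (pow_ne_zero _ hl), ?_⟩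
  field_simp
  rw [hm] at h1
  linear_combination h1

/-- The slot maps of a monomial isometry are similitudes. -/
theorem slot_sim {g : GL (J → Fin k) F} (hg : ∀ x y, Bt σ₁ f (mv g x) (mv g y) = Bt σ₁ f x y)
    {π : Equiv.Perm J} {A : J → GL (Fin k) F} (hA : ∀ x, mv g (pten x) = pten fun j => mv (A j) (x (π j)))
    (j : J) : ∃ l : F, l ≠ 0 ∧ ∀ u v, f (mv (A j) u) (mv (A j) v) = l * f u v := by
  obtain ⟨e, he⟩ := S.exists_aniso
  set P := ∏ l ∈ Finset.univ.erase (π j), f e e
  set C := ∏ l ∈ Finset.univ.erase j, f (mv (A l) e) (mv (A l) e)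
  have hP : P ≠ 0 := Finset.prod_ne_zero_iff.2 fun _ _ => he ▸ S.hκ
  have key : ∀ u v, f (mv (A j) u) (mv (A j) v) * C = f u v * P := by
    intro u v
    have h := hg (pten (Function.update (fun _ => e) (π j) u)) (pten (Function.update (fun _ => e) (π j) v))
    rw [hA, hA, Bt_pten S.hf, Bt_pten S.hf, ← Finset.mul_prod_erase Finset.univ _ (Finset.mem_univ j),
      ← Finset.mul_prod_erase Finset.univ _ (Finset.mem_univ (π j))] at h
    simp only [Function.update_self] at h
    rw [Finset.prod_congr rfl fun l hl => show f (mv (A l) (Function.update (fun _ => e) (π j) u (π l)))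
        (mv (A l) (Function.update (fun _ => e) (π j) v (π l))) = f (mv (A l) e) (mv (A l) e) by
          rw [Function.update_of_ne (π.injective.ne (Finset.ne_of_mem_erase hl)),
            Function.update_of_ne (π.injective.ne (Finset.ne_of_mem_erase hl))],
      Finset.prod_congr (s₁ := Finset.univ.erase (π j)) rfl fun l hl => show
        f (Function.update (fun _ => e) (π j) u l) (Function.update (fun _ => e) (π j) v l) = f e e by
          rw [Function.update_of_ne (Finset.ne_of_mem_erase hl), Function.update_of_ne (Finset.ne_of_mem_erase hl)]] at h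
    exact h
  have hC : C ≠ 0 := fun h0 => by
    have := key e e
    rw [h0, mul_zero] at this
    exact mul_ne_zero (he ▸ S.hκ : f e e ≠ 0) hP this.symm
  exact ⟨P / C, div_ne_zero hP hC, fun u v => by
    rw [div_mul_eq_mul_div, eq_div_iff hC, key, mul_comm]⟩

theorem eigen_basis (B : GL (Fin k) F) (hB : ∀ v, mv B (mv B v) = v) :
    ∃ (b : Fin k → Fin k → F) (ε : Fin k → Bool), LinearIndependent F b ∧
      ∀ p, mv B (b p) = (if ε p then (1 : F) else -1) • b p := by
  classical
  set Ep := fixsp B
  set Em : Submodule F (Fin k → F) := LinearMap.ker (mvLin B + LinearMap.id)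
  have h2 := S.two
  have hm : ∀ v, v ∈ Em ↔ mv B v = -v := fun v => by
    rw [LinearMap.mem_ker, LinearMap.add_apply, LinearMap.id_apply, add_eq_zero_iff_eq_neg]
    rfl
  have hc : IsCompl Ep Em := by
    refine ⟨disjoint_iff.2 (Submodule.eq_bot_iff _ |>.2 fun v hv => ?_), codisjoint_iff.2 (Submodule.eq_top_iff'.2 fun v => ?_)⟩
    · obtain ⟨h1, h3⟩ := Submodule.mem_inf.1 hv
      rw [mem_fixsp] at h1
      rw [hm, h1] at h3
      refine (smul_eq_zero.1 (?_ : (2 : F) • v = 0)).resolve_left h2
      linear_combination (norm := module) h3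
    · refine Submodule.mem_sup.2 ⟨(2⁻¹ : F) • (v + mv B v), mem_fixsp.2 (by rw [mv_smul, mv_add, hB, add_comm]),
        (2⁻¹ : F) • (v - mv B v), (hm _).2 (by rw [mv_smul, mv_sub, hB, ← smul_neg, neg_sub]), ?_⟩
      match_scalars <;> field_simp <;> ring
  set bas := ((Module.finBasis F Ep).prod (Module.finBasis F Em)).map (Submodule.prodEquivOfIsCompl Ep Em hc)
  have hcard : Fintype.card (Fin (Module.finrank F Ep) ⊕ Fin (Module.finrank F Em)) = Fintype.card (Fin k) := by
    rw [← Module.finrank_eq_card_basis bas, Module.finrank_fintype_fun_eq_card]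
  set e := Fintype.equivOfCardEq hcard
  refine ⟨fun p => bas (e.symm p), fun p => (e.symm p).isLeft, bas.linearIndependent.comp _ e.symm.injective,
    fun p => ?_⟩
  rcases h : e.symm p with q | q
  · have : bas (Sum.inl q) ∈ Ep := by
      simp [bas, Submodule.coe_prodEquivOfIsCompl']
    rw [mem_fixsp] at this
    simp [h, this]
  · have : bas (Sum.inr q) ∈ Em := by
      simp [bas, Submodule.coe_prodEquivOfIsCompl']
    rw [hm] at this
    simp [h, this]

theorem diag_fix (hJ : Nonempty J) {h : GL (J → Fin k) F} (hs : Small h) {B : J → GL (Fin k) F}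
    (hB : ∀ j v, mv (B j) (mv (B j) v) = v) {c : Bool}
    (hh : ∀ y, mv h (pten y) = (if c then (1 : F) else -1) • pten fun j => mv (B j) (y j)) :
    ∃ (b : J → Fin k → Fin k → F) (ε : J → Fin k → Bool), (∀ j, LinearIndependent F (b j)) ∧
      (∀ j p, mv (B j) (b j p) = (if ε j p then (1 : F) else -1) • b j p) ∧
      (if c then (1 : ℤ) else -1) * ∏ j, ∑ p, (if ε j p then (1 : ℤ) else -1) =
        (2 - k) * ((k : ℤ) ^ (Fintype.card J - 1)) := by
  classical
  choose b ε hb hBb using fun j => S.eigen_basis (B j) (hB j)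
  refine ⟨b, ε, hb, hBb, ?_⟩
  haveI : Nonempty (Fin k) := ⟨⟨0, by have := S.hk; omega⟩⟩
  set Φ := Module.Basis.map (Pi.basisFun F (J → Fin k)) (LinearEquiv.refl F _)
  have hBi : ∀ j, Function.Injective ((Fintype.linearCombination F (b j))) := fun j =>
    (hb j).fintypeLinearCombination_injective
  have hdet : ∀ j, (LinearMap.toMatrix' (Fintype.linearCombination F (b j))).det ≠ 0 := fun j h0 => by
    obtain ⟨v, hv, hv0⟩ := Matrix.exists_mulVec_eq_zero_iff.2 h0
    rw [LinearMap.toMatrix'_mulVec] at hv0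
    exact hv (hBi j (hv0.trans (map_zero _).symm))
  set P : J → GL (Fin k) F := fun j => Matrix.GeneralLinearGroup.mkOfDetNeZero _ (hdet j) with hP
  have hPs : ∀ j p, mv (P j) (Pi.single p 1) = b j p := fun j p => by
    show ((P j : GL (Fin k) F) : Matrix (Fin k) (Fin k) F) *ᵥ _ = _
    rw [hP, Matrix.GeneralLinearGroup.val_mkOfDetNeZero, LinearMap.toMatrix'_mulVec]
    simp [Fintype.linearCombination_apply, Pi.single_apply]
  obtain ⟨G, -, hG⟩ : ∃ G ∈ (⊤ : Subgroup (GL (J → Fin k) F)), ∀ y : J → Fin k → F,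
      mv G (pten y) = pten fun j => mv (P j) (y j) := by
    suffices H : ∀ U : Finset J, ∃ G : GL (J → Fin k) F, ∀ y : J → Fin k → F,
        mv G (pten y) = pten fun j => if j ∈ U then mv (P j) (y j) else y j by
      obtain ⟨G, hG⟩ := H Finset.univ
      exact ⟨G, Subgroup.mem_top _, fun y => by simpa using hG y⟩
    intro U
    induction U using Finset.induction with
    | empty => exact ⟨1, fun y => by simp [mv_one]⟩
    | insert a U ha ih =>
      obtain ⟨G, hG⟩ := ih
      refine ⟨fac a (P a) * G, fun y => ?_⟩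
      rw [mv_mul, hG, mv_fac]
      refine congrArg pten (funext fun j => ?_)
      by_cases hj : j = a
      · subst hj; simp [ha]
      · simp [hj]
  set sg : (J → Fin k) → ℤ := fun a =>
    (if c then (1 : ℤ) else -1) * ∏ j, (if ε j (a j) then (1 : ℤ) else -1) with hsg
  set h' := G⁻¹ * h * G⁻¹⁻¹ with hh'
  have hdiag : ∀ a, mv h' (Pi.single a 1) = ((sg a : ℤ) : F) • Pi.single a 1 := fun a => by
    refine mv_inj G ?_
    rw [hh', inv_inv, mv_mul, mv_mul, mv_mv_inv, mv_smul, ← pten_single a, hG, hh]
    funext d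
    simp only [pten, Pi.smul_apply, smul_eq_mul, hPs, hBb, Finset.prod_mul_distrib, hsg, Int.cast_mul,
      Int.cast_prod, apply_ite (Int.cast : ℤ → F), Int.cast_one, Int.cast_neg]
    ring
  have hsgv : ∀ a, sg a = 1 ∨ sg a = -1 := fun a => by
    have : sg a * sg a = 1 := by
      rw [hsg, mul_mul_mul_comm, ← Finset.prod_mul_distrib, Finset.prod_eq_one fun j _ => by split <;> rfl]
      split <;> rfl
    exact mul_self_eq_one_iff.1 this
  have hne : (-1 : F) ≠ 1 := fun e => S.two (by linear_combination -e)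
  have hcoord : ∀ x a, mv h' x a = ((sg a : ℤ) : F) * x a := fun x a => by
    have e : (LinearMap.proj a).comp (mvLin h') =
        ((sg a : ℤ) : F) • (LinearMap.proj a : ((J → Fin k) → F) →ₗ[F] F) := eq_of_single fun d => by
      show mv h' (Pi.single d 1) a = ((sg a : ℤ) : F) * (Pi.single d (1 : F) : (J → Fin k) → F) a
      rw [hdiag, Pi.smul_apply, smul_eq_mul]
      by_cases hd : a = d
      · subst hd; rfl
      · rw [Pi.single_eq_of_ne hd, mul_zero, mul_zero]
    exact LinearMap.congr_fun e x
  set A := Finset.univ.filter fun a => sg a = 1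
  have hdim : Module.finrank F (fixsp h') = A.card := by
    let e : fixsp h' ≃ₗ[F] ({a // a ∈ A} → F) :=
      { toFun := fun x a => (x : (J → Fin k) → F) a
        map_add' := fun x y => rfl
        map_smul' := fun r x => rfl
        invFun := fun c => ⟨fun a => if ha : a ∈ A then c ⟨a, ha⟩ else 0, mem_fixsp.2 (funext fun a => by
          rw [hcoord]
          by_cases ha : a ∈ A
          · rw [(Finset.mem_filter.1 ha).2, Int.cast_one, one_mul]
          · rw [dif_neg ha, mul_zero])⟩
        left_inv := fun x => Subtype.ext (funext fun a => by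
          show (if ha : a ∈ A then (x : (J → Fin k) → F) a else 0) = _
          by_cases ha : a ∈ A
          · rw [dif_pos ha]
          · rw [dif_neg ha]
            have h1 : sg a = -1 := (hsgv a).resolve_left fun e => ha (Finset.mem_filter.2 ⟨Finset.mem_univ a, e⟩)
            have h3 := congrFun (mem_fixsp.1 x.2) a
            rw [hcoord, h1] at h3
            have h4 : ((-1 : F) - 1) * (x : (J → Fin k) → F) a = 0 := by
              push_cast at h3
              linear_combination h3
            exact ((mul_eq_zero.1 h4).resolve_left (sub_ne_zero.2 hne)).symm)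
        right_inv := fun c => funext fun a => by
          show (if ha : (a : J → Fin k) ∈ A then c ⟨a, ha⟩ else 0) = c a
          rw [dif_pos a.2] }
    rw [e.finrank_eq, Module.finrank_fintype_fun_eq_card, Fintype.card_coe]
  have hA : (A.card : ℤ) * k = (k : ℤ) ^ Fintype.card J := by
    have := hs
    rw [Small, ← finrank_fixsp_conj G⁻¹ h, ← hh', hdim] at this
    exact_mod_cast this
  have hsum : ∑ a, sg a = 2 * (A.card : ℤ) - (k : ℤ) ^ Fintype.card J := by
    have h3 : ∀ a, sg a = 2 * (if sg a = 1 then (1 : ℤ) else 0) - 1 := fun a => by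
      rcases hsgv a with e | e <;> simp [e]
    rw [Finset.sum_congr rfl fun a _ => h3 a, Finset.sum_sub_distrib, ← Finset.mul_sum, Finset.sum_boole,
      Finset.sum_const, Finset.card_univ, Fintype.card_fun, Fintype.card_fin]
    simp [A]
  have hprod : ∑ a, sg a = (if c then (1 : ℤ) else -1) * ∏ j, ∑ p, (if ε j p then (1 : ℤ) else -1) := by
    rw [hsg, ← Finset.mul_sum, Fintype.prod_sum]
  rw [← hprod, hsum]
  obtain ⟨n, hn⟩ : ∃ n, Fintype.card J = n + 1 := ⟨Fintype.card J - 1, by have := Fintype.card_pos (α := J); omega⟩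
  rw [hn, pow_succ] at hA ⊢
  have hA' : (A.card : ℤ) = (k : ℤ) ^ n :=
    mul_right_cancel₀ (by have := S.hk; exact_mod_cast (by omega : k ≠ 0)) hA
  rw [hA', Nat.add_sub_cancel]
  ring

/-- Without moved slots: a mirror of one slot. -/
theorem trc_fix (hJ : Nonempty J) {h : GL (J → Fin k) F}
    (hiso : ∀ x y, Bt σ₁ f (mv h x) (mv h y) = Bt σ₁ f x y) (h1 : h * h = 1) (hm : MonoOf 1 h) (hs : Small h) :
    ∃ (j : J) (y : Fin k → F), f y y ≠ 0 ∧ h = fac j (mr S.hf y) := by
  classical
  obtain ⟨A, hA⟩ := hm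
  simp only [Equiv.Perm.one_apply] at hA
  have hf := S.hf
  choose l hl hlA using fun j => S.slot_sim hiso (π := 1) (A := A) (by simpa using hA) j
  obtain ⟨e, he⟩ := S.exists_aniso
  have he0 : f e e ≠ 0 := he ▸ S.hκ
  have hsq : ∀ j, ∃ μ : F, μ ≠ 0 ∧ ∀ v, mv (A j) (mv (A j) v) = μ • v := by
    intro j
    set P := ∏ i ∈ Finset.univ.erase j, f (mv (A i) (mv (A i) e)) e
    set R := ∏ i ∈ Finset.univ.erase j, f e e
    have hR : R ≠ 0 := Finset.prod_ne_zero_iff.2 fun _ _ => he0
    have key : ∀ u v, f (mv (A j) (mv (A j) u)) v * P = f u v * R := fun u v => by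
      have h0 : Bt σ₁ f (mv (h * h) (pten (Function.update (fun _ => e) j u))) (pten (Function.update (fun _ => e) j v)) =
          Bt σ₁ f (pten (Function.update (fun _ => e) j u)) (pten (Function.update (fun _ => e) j v)) := by
        rw [h1, mv_one]
      rw [mv_mul, hA, hA, Bt_pten hf, Bt_pten hf, ← Finset.mul_prod_erase Finset.univ _ (Finset.mem_univ j),
        ← Finset.mul_prod_erase Finset.univ _ (Finset.mem_univ j)] at h0
      simp only [Function.update_self] at h0
      rw [Finset.prod_congr rfl fun i hi => show f (mv (A i) (mv (A i) (Function.update (fun _ => e) j u i)))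
          (Function.update (fun _ => e) j v i) = f (mv (A i) (mv (A i) e)) e by
            rw [Function.update_of_ne (Finset.ne_of_mem_erase hi), Function.update_of_ne (Finset.ne_of_mem_erase hi)],
        Finset.prod_congr (s₁ := Finset.univ.erase j) rfl fun i hi => show
          f (Function.update (fun _ => e) j u i) (Function.update (fun _ => e) j v i) = f e e by
            rw [Function.update_of_ne (Finset.ne_of_mem_erase hi), Function.update_of_ne (Finset.ne_of_mem_erase hi)]] at h0
      exact h0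
    have hP : P ≠ 0 := fun h0 => by
      have := key e e
      rw [h0, mul_zero] at this
      exact mul_ne_zero he0 hR this.symm
    refine ⟨R / P, div_ne_zero hR hP, fun u => sub_eq_zero.1 (hf.nondeg _ fun v => ?_)⟩
    rw [hf.sub_left, hf.smul_left, sub_eq_zero, div_mul_eq_mul_div, eq_div_iff hP, key, mul_comm]
  choose μ hμ hμA using hsq
  have hν : ∀ j, ∃ ν : F, ν ≠ 0 ∧ μ j = ν * ν := by
    intro j
    obtain ⟨m, hm⟩ := S.odd
    set D := (A j : Matrix (Fin k) (Fin k) F).det
    have e1 : (A j : Matrix (Fin k) (Fin k) F) * (A j : Matrix (Fin k) (Fin k) F) =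
        μ j • (1 : Matrix (Fin k) (Fin k) F) := by
      refine Matrix.toLin'.injective (LinearMap.ext fun v => ?_)
      rw [Matrix.toLin'_apply, Matrix.toLin'_apply, ← Matrix.mulVec_mulVec, Matrix.smul_mulVec, Matrix.one_mulVec]
      exact hμA j v
    have hd := congrArg Matrix.det e1
    rw [Matrix.det_mul, Matrix.det_smul, Matrix.det_one, mul_one, Fintype.card_fin] at hd
    have hD : D ≠ 0 := fun e0 => pow_ne_zero _ (hμ j) (by rw [← hd, show (A j : Matrix (Fin k) (Fin k) F).det = D from rfl, e0, mul_zero])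
    refine ⟨D / μ j ^ m, div_ne_zero hD (pow_ne_zero _ (hμ j)), ?_⟩
    have hd' : D * D = μ j ^ (2 * m + 1) := by rw [← hm]; exact hd
    have := hμ j
    field_simp
    linear_combination -hd'
  choose ν hν0 hν2 using hν
  have hdet : ∀ j, ((ν j)⁻¹ • (A j : Matrix (Fin k) (Fin k) F)).det ≠ 0 := fun j => by
    rw [Matrix.det_smul]
    exact mul_ne_zero (pow_ne_zero _ (inv_ne_zero (hν0 j)))
      (isUnit_iff_ne_zero.1 ((Matrix.isUnit_iff_isUnit_det _).1 (A j).isUnit))
  set B : J → GL (Fin k) F := fun j => Matrix.GeneralLinearGroup.mkOfDetNeZero _ (hdet j) with hBdef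
  have hBv : ∀ j v, mv (B j) v = (ν j)⁻¹ • mv (A j) v := fun j v => by
    show ((B j : GL (Fin k) F) : Matrix (Fin k) (Fin k) F) *ᵥ v = _
    rw [hBdef, Matrix.GeneralLinearGroup.val_mkOfDetNeZero, Matrix.smul_mulVec]
  have hBB : ∀ j v, mv (B j) (mv (B j) v) = v := fun j v => by
    rw [hBv, hBv, mv_smul, hμA, smul_smul, smul_smul, hν2 j]
    have := hν0 j
    field_simp
    rw [one_smul]
  have hBi : ∀ j u v, f (mv (B j) u) (mv (B j) v) = f u v := by
    intro j
    set l' := l j / (ν j * ν j) with hl'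
    have hB1 : ∀ u v, f (mv (B j) u) (mv (B j) v) = l' * f u v := fun u v => by
      rw [hBv, hBv, hf.smul_left, hf.smul_right', hlA, hl']
      have := hν0 j
      field_simp
    obtain ⟨hk1, -⟩ := S.mult_sq (div_ne_zero (hl j) (mul_ne_zero (hν0 j) (hν0 j))) hB1
    have hD : (B j : Matrix (Fin k) (Fin k) F).det ^ 2 = 1 := by
      rw [pow_two, ← Matrix.det_mul,
        show (B j : Matrix (Fin k) (Fin k) F) * (B j : Matrix (Fin k) (Fin k) F) = 1 from
          Matrix.toLin'.injective (LinearMap.ext fun v => by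
            rw [Matrix.toLin'_apply, Matrix.toLin'_apply, ← Matrix.mulVec_mulVec, Matrix.one_mulVec]
            exact hBB j v), Matrix.det_one]
    have h2' : l' * l' = 1 := by
      have := hB1 (mv (B j) e) (mv (B j) e)
      rw [hBB, hB1] at this
      exact mul_right_cancel₀ he0 (by linear_combination -this)
    have hl1 : l' = 1 := by
      obtain ⟨m, hm⟩ := S.odd
      rw [hD, hm, pow_succ, pow_mul, pow_two, h2', one_pow, one_mul] at hk1
      exact hk1
    intro u v
    rw [hB1, hl1, one_mul]
  have hh : ∀ y, mv h (pten y) = (∏ j, ν j) • pten fun j => mv (B j) (y j) := fun y => by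
    rw [hA]
    funext a
    simp only [pten, Pi.smul_apply, smul_eq_mul, hBv, ← Finset.prod_mul_distrib]
    exact Finset.prod_congr rfl fun j _ => by rw [← mul_assoc, mul_inv_cancel₀ (hν0 j), one_mul]
  obtain ⟨c, hc⟩ : ∃ c : Bool, ∏ j, ν j = if c then (1 : F) else -1 := by
    have h0 : mv (h * h) (pten fun _ => e) = (pten fun _ => e : (J → Fin k) → F) := by rw [h1, mv_one]
    rw [mv_mul, hh, mv_smul, hh, smul_smul] at h0
    simp only [hBB] at h0
    have hpe : (pten fun _ => e : (J → Fin k) → F) ≠ 0 := pten_ne_zero fun _ e0 => he0 (by rw [e0, hf.zero_left])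
    have := smul_left_injective F hpe (h0.trans (one_smul F _).symm)
    rcases mul_self_eq_one_iff.1 this with e' | e'
    · exact ⟨true, by rw [e']; rfl⟩
    · exact ⟨false, by rw [e']; rfl⟩
  rw [hc] at hh
  obtain ⟨b, ε, hb, hBb, hsum⟩ := S.diag_fix hJ hs hBB hh
  set s : J → ℤ := fun j => ∑ p, (if ε j p then (1 : ℤ) else -1) with hs'
  set np : J → ℕ := fun j => (Finset.univ.filter fun p => ε j p = true).card with hnp
  have hsj : ∀ j, s j = 2 * (np j : ℤ) - k := fun j => by
    have h3 : ∀ p, (if ε j p then (1 : ℤ) else -1) = 2 * (if ε j p then (1 : ℤ) else 0) - 1 := fun p => by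
      split <;> ring
    simp only [hs', hnp]
    rw [Finset.sum_congr rfl fun p _ => h3 p, Finset.sum_sub_distrib, ← Finset.mul_sum, Finset.sum_boole,
      Finset.sum_const, Finset.card_univ, Fintype.card_fin]
    simp
  have hnk : ∀ j, np j ≤ k := fun j => (Finset.card_le_univ _).trans (Fintype.card_fin k).le
  have habs : ∀ j, (s j).natAbs = k ∨ (s j).natAbs + 2 ≤ k := fun j => by
    have := hsj j
    have := hnk j
    omega
  have hkn : ((2 - (k : ℤ)) * (k : ℤ) ^ (Fintype.card J - 1)).natAbs = (k - 2) * k ^ (Fintype.card J - 1) := by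
    rw [Int.natAbs_mul, Int.natAbs_pow, Int.natAbs_natCast]
    congr 1
    have := S.hk
    omega
  have hprod : ∏ j, (s j).natAbs = (k - 2) * k ^ (Fintype.card J - 1) := by
    rw [← hkn, ← hsum, Int.natAbs_mul, show (if c then (1 : ℤ) else -1).natAbs = 1 by split <;> rfl, one_mul]
    exact (map_prod Int.natAbsHom s Finset.univ).symm
  set U := Finset.univ.filter fun j => (s j).natAbs ≠ k with hU
  obtain ⟨j₀, hj₀⟩ : ∃ j₀, U = {j₀} := by
    rw [← Finset.card_eq_one]
    have hk := S.hk
    obtain ⟨n, hn⟩ : ∃ n, Fintype.card J = n + 1 := ⟨Fintype.card J - 1, by have := Fintype.card_pos (α := J); omega⟩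
    rw [hn, Nat.add_sub_cancel] at hprod
    have hout : ∀ W : Finset J, (∀ j, j ∉ W → (s j).natAbs = k) →
        ∏ j, (s j).natAbs = (∏ j ∈ W, (s j).natAbs) * k ^ (n + 1 - W.card) := fun W hW => by
      rw [← Finset.prod_mul_prod_compl W, Finset.prod_congr (s₁ := Wᶜ) rfl fun j hj => hW j (Finset.mem_compl.1 hj),
        Finset.prod_const, Finset.card_compl, hn]
    have hUk : ∀ j, j ∉ U → (s j).natAbs = k := fun j hj => by
      by_contra e0; exact hj (Finset.mem_filter.2 ⟨Finset.mem_univ j, e0⟩)
    rcases Nat.lt_trichotomy U.card 1 with hlt | heq | hgt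
    · exfalso
      have hU0 : U = ∅ := Finset.card_eq_zero.1 (by omega)
      rw [hout U hUk, hU0, Finset.prod_empty, one_mul, Finset.card_empty, Nat.sub_zero, pow_succ] at hprod
      have : 0 < k ^ n := pow_pos (by omega) n
      nlinarith [Nat.sub_add_cancel (show 2 ≤ k by omega)]
    · exact heq
    · exfalso
      have hle : ∏ j ∈ U, (s j).natAbs ≤ (k - 2) ^ U.card := by
        refine Finset.prod_le_pow_card U _ _ fun j hj => ?_
        have := (habs j).resolve_left (Finset.mem_filter.1 hj).2
        omega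
      have hUn : U.card ≤ n + 1 := hn ▸ Finset.card_le_univ U
      obtain ⟨a, ha⟩ : ∃ a, n = a + (U.card - 1) := ⟨n - (U.card - 1), by omega⟩
      rw [hout U hUk, show n + 1 - U.card = a by omega, ha, pow_add, mul_comm (k ^ a)] at hprod
      rw [← mul_assoc] at hprod
      have hka : 0 < k ^ a := pow_pos (by omega) a
      have h5 := Nat.eq_of_mul_eq_mul_right hka hprod
      have h6 : (k - 2) ^ U.card < (k - 2) * k ^ (U.card - 1) := by
        obtain ⟨r, hr⟩ : ∃ r, U.card = r + 2 := ⟨U.card - 2, by omega⟩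
        rw [hr, show r + 2 - 1 = r + 1 by omega, pow_succ', pow_succ']
        refine Nat.mul_lt_mul_of_pos_left ?_ (by omega)
        rw [← pow_succ']
        exact Nat.pow_lt_pow_left (show k - 2 < k by omega) (Nat.succ_ne_zero r)
      omega
  have hother : ∀ j, j ≠ j₀ → ∃ t : Bool, ∀ v, mv (B j) v = (if t then (1 : F) else -1) • v := by
    intro j hj
    have hjk : (s j).natAbs = k := by
      by_contra e0
      exact hj (Finset.mem_singleton.1 (hj₀ ▸ Finset.mem_filter.2 ⟨Finset.mem_univ j, e0⟩))
    haveI : Nonempty (Fin k) := ⟨⟨0, by have := S.hk; omega⟩⟩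
    have hspan := (hb j).span_eq_top_of_card_eq_finrank (by rw [Module.finrank_fintype_fun_eq_card])
    obtain ⟨t, ht⟩ : ∃ t : Bool, ∀ p, ε j p = t := by
      have h5 := hsj j
      have h6 := hnk j
      rcases (by omega : np j = k ∨ np j = 0) with hn' | hn'
      · refine ⟨true, fun p => ?_⟩
        have : (Finset.univ.filter fun p => ε j p = true) = Finset.univ :=
          Finset.eq_univ_of_card _ (hn'.trans (Fintype.card_fin k).symm)
        have h7 : p ∈ Finset.univ.filter fun p => ε j p = true := by rw [this]; exact Finset.mem_univ p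
        exact (Finset.mem_filter.1 h7).2
      · refine ⟨false, fun p => ?_⟩
        cases hp : ε j p
        · rfl
        · exact absurd (Finset.card_pos.2 ⟨p, Finset.mem_filter.2 ⟨Finset.mem_univ p, hp⟩⟩) (by
            show ¬ 0 < np j; omega)
    refine ⟨t, fun v => ?_⟩
    have hv : v ∈ Submodule.span F (Set.range (b j)) := by rw [hspan]; exact Submodule.mem_top
    induction hv using Submodule.span_induction with
    | mem v hv => obtain ⟨p, rfl⟩ := hv; rw [hBb, ht]
    | zero => rw [mv_zero, smul_zero]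
    | add u w _ _ hu hw => rw [mv_add, hu, hw, smul_add]
    | smul r u _ hu => rw [mv_smul, hu, smul_comm]
  obtain ⟨t₀, p₀, hp₀⟩ : ∃ (t₀ : Bool) (p₀ : Fin k), ∀ p, ε j₀ p = if p = p₀ then t₀ else !t₀ := by
    have hlt := (Finset.mem_filter.1 (hj₀ ▸ Finset.mem_singleton_self j₀ : j₀ ∈ U)).2
    have hge : (s j₀).natAbs = k - 2 := by
      have h7 : ∏ j, (s j).natAbs = (s j₀).natAbs * k ^ (Fintype.card J - 1) := by
        rw [← Finset.mul_prod_erase Finset.univ _ (Finset.mem_univ j₀),
          Finset.prod_congr rfl fun j hj => show (s j).natAbs = k by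
            by_contra e0
            exact Finset.ne_of_mem_erase hj
              (Finset.mem_singleton.1 (hj₀ ▸ Finset.mem_filter.2 ⟨Finset.mem_univ j, e0⟩)),
          Finset.prod_const, Finset.card_erase_of_mem (Finset.mem_univ j₀), Finset.card_univ]
      rw [h7] at hprod
      exact Nat.eq_of_mul_eq_mul_right (pow_pos (by have := S.hk; omega) _) hprod
    have h5 := hsj j₀
    have h6 := hnk j₀
    rcases (by omega : np j₀ = 1 ∨ np j₀ + 1 = k) with hn' | hn'
    · obtain ⟨p₀, hp₀⟩ := Finset.card_eq_one.1 hn'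
      refine ⟨true, p₀, fun p => ?_⟩
      by_cases hp : p = p₀
      · subst hp
        rw [if_pos rfl]
        have h7 : p ∈ Finset.univ.filter fun p => ε j₀ p = true := by rw [hp₀]; exact Finset.mem_singleton_self p
        exact (Finset.mem_filter.1 h7).2
      · rw [if_neg hp]
        cases hpe : ε j₀ p
        · rfl
        · exact absurd (Finset.mem_singleton.1 (hp₀ ▸ Finset.mem_filter.2 ⟨Finset.mem_univ p, hpe⟩)) hp
    · have hneg : (Finset.univ.filter fun p => ε j₀ p = false).card = 1 := by
        have := Finset.card_filter_add_card_filter_not (s := Finset.univ) (fun p => ε j₀ p = true)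
        simp only [Finset.card_univ, Fintype.card_fin, Bool.not_eq_true] at this
        simp only [hnp] at hn'
        omega
      obtain ⟨p₀, hp₀⟩ := Finset.card_eq_one.1 hneg
      refine ⟨false, p₀, fun p => ?_⟩
      by_cases hp : p = p₀
      · subst hp
        rw [if_pos rfl]
        have h7 : p ∈ Finset.univ.filter fun p => ε j₀ p = false := by rw [hp₀]; exact Finset.mem_singleton_self p
        exact (Finset.mem_filter.1 h7).2
      · rw [if_neg hp]
        cases hpe : ε j₀ p
        · exact absurd (Finset.mem_singleton.1 (hp₀ ▸ Finset.mem_filter.2 ⟨Finset.mem_univ p, hpe⟩)) hp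
        · rfl
  set y := b j₀ p₀
  have horth : ∀ p, p ≠ p₀ → f (b j₀ p) y = 0 := fun p hp => by
    have := hBi j₀ (b j₀ p) y
    rw [hBb, hBb, hp₀, hp₀, if_neg hp, if_pos rfl, hf.smul_left, hf.smul_right'] at this
    have h4 : ((if (!t₀) then (1 : F) else -1) * (if t₀ then (1 : F) else -1) - 1) * f (b j₀ p) y = 0 := by
      linear_combination this
    refine (mul_eq_zero.1 h4).resolve_left ?_
    cases t₀ <;> simp <;> exact fun e0 => S.two (by linear_combination -e0)
  haveI : Nonempty (Fin k) := ⟨p₀⟩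
  have hspan := (hb j₀).span_eq_top_of_card_eq_finrank (by rw [Module.finrank_fintype_fun_eq_card])
  have hyy : f y y ≠ 0 := fun e0 => by
    refine (hb j₀).ne_zero p₀ (hf.nondeg y fun v => ?_)
    have hv : v ∈ Submodule.span F (Set.range (b j₀)) := by rw [hspan]; exact Submodule.mem_top
    induction hv using Submodule.span_induction with
    | mem v hv =>
      obtain ⟨p, rfl⟩ := hv
      by_cases hp : p = p₀
      · subst hp; exact e0
      · rw [hf.comm', horth p hp]
    | zero => exact hf.zero_right _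
    | add u w _ _ hu hw => rw [hf.add_right, hu, hw, add_zero]
    | smul r u _ hu => rw [hf.smul_right', hu, mul_zero]
  have hBj₀ : ∀ v, mv (B j₀) v = (if t₀ then (1 : F) else -1) • mv (mr hf y) v := fun v => by
    have hv : v ∈ Submodule.span F (Set.range (b j₀)) := by rw [hspan]; exact Submodule.mem_top
    induction hv using Submodule.span_induction with
    | mem v hv =>
      obtain ⟨p, rfl⟩ := hv
      rw [hBb, hp₀]
      by_cases hp : p = p₀
      · subst hp; rw [if_pos rfl, mr_self hf hyy]
      · rw [if_neg hp, mr_perp hf hyy (horth p hp), smul_neg, ← neg_smul]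
        cases t₀ <;> simp
    | zero => rw [mv_zero, mv_zero, smul_zero]
    | add u w _ _ hu hw => rw [mv_add, mv_add, hu, hw, smul_add]
    | smul r u _ hu => rw [mv_smul, mv_smul, hu, smul_comm]
  choose! t ht using hother
  set T : J → Bool := fun j => if j = j₀ then t₀ else t j
  have hBT : ∀ j v, mv (B j) v = (if T j then (1 : F) else -1) • (if j = j₀ then mv (mr hf y) v else v) :=
    fun j v => by
      by_cases hj : j = j₀
      · subst hj; simp only [T, if_pos]; exact hBj₀ v
      · simp only [T, if_neg hj]; exact ht j hj v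
  have hsT : ∀ j, s j = (if T j then (1 : ℤ) else -1) * (if j = j₀ then 2 - (k : ℤ) else k) := by
    intro j
    by_cases hj : j = j₀
    · subst hj
      simp only [T, if_pos, hs']
      rw [← Finset.add_sum_erase Finset.univ _ (Finset.mem_univ p₀), hp₀, if_pos rfl,
        Finset.sum_congr rfl fun p hp => show (if ε j p then (1 : ℤ) else -1) = -(if t₀ then (1 : ℤ) else -1) by
          rw [hp₀, if_neg (Finset.ne_of_mem_erase hp)]; cases t₀ <;> simp,
        Finset.sum_const, Finset.card_erase_of_mem (Finset.mem_univ p₀), Finset.card_univ, Fintype.card_fin,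
        nsmul_eq_mul, Nat.cast_sub (by have := S.hk; omega : 1 ≤ k)]
      push_cast
      ring
    · simp only [T, if_neg hj, hs']
      rw [Finset.sum_congr rfl fun p _ => show (if ε j p then (1 : ℤ) else -1) = if t j then (1 : ℤ) else -1 by
        have h5 := hBb j p
        rw [ht j hj] at h5
        have := smul_left_injective F ((hb j).ne_zero p) h5
        cases hε : ε j p <;> cases htj : t j <;> simp [hε, htj] at this ⊢
        · exact S.two (by linear_combination this)
        · exact S.two (by linear_combination -this),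
        Finset.sum_const, Finset.card_univ, Fintype.card_fin, nsmul_eq_mul, mul_comm]
  have hp2 : ∏ j, (if j = j₀ then (2 : ℤ) - k else k) = (2 - k) * (k : ℤ) ^ (Fintype.card J - 1) := by
    rw [← Finset.mul_prod_erase Finset.univ _ (Finset.mem_univ j₀), if_pos rfl,
      Finset.prod_congr rfl fun j hj => if_neg (Finset.ne_of_mem_erase hj), Finset.prod_const,
      Finset.card_erase_of_mem (Finset.mem_univ j₀), Finset.card_univ]
  have hsign : (if c then (1 : ℤ) else -1) * ∏ j, (if T j then (1 : ℤ) else -1) = 1 := by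
    have := hsum
    rw [show (∏ j, ∑ p, (if ε j p then (1 : ℤ) else -1)) = ∏ j, s j from rfl, Finset.prod_congr rfl fun j _ => hsT j,
      Finset.prod_mul_distrib, ← mul_assoc, hp2] at this
    have hk := S.hk
    refine mul_right_cancel₀ (mul_ne_zero (sub_ne_zero.2 (?_ : (2 : ℤ) ≠ k))
      (pow_ne_zero _ (?_ : (k : ℤ) ≠ 0))) (this.trans (one_mul _).symm)
    · exact_mod_cast (by omega : 2 ≠ k)
    · exact_mod_cast (by omega : k ≠ 0)
  refine ⟨j₀, y, hyy, ext_pten fun z => ?_⟩
  rw [hh, mv_fac]
  have hsF := congrArg (Int.cast : ℤ → F) hsign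
  simp only [Int.cast_mul, Int.cast_prod, apply_ite (Int.cast : ℤ → F), Int.cast_one, Int.cast_neg] at hsF
  funext a
  simp only [pten, Pi.smul_apply, smul_eq_mul, hBT, Finset.prod_mul_distrib, ← mul_assoc, hsF, one_mul]
  exact Finset.prod_congr rfl fun j _ => by
    by_cases hj : j = j₀
    · subst hj; rw [if_pos rfl, Function.update_self]
    · rw [if_neg hj, Function.update_of_ne hj]

end Sl

end Cfsg.Agent.OrthWreath
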