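/-
A map carrying the mirrors of one value to mirrors is monomial.
-/
import Cfsg.Agent.Lib.OrthWreath.Trc

set_option autoImplicit false
set_option linter.unusedSectionVars false

namespace Cfsg.Agent.OrthWreath

open scoped Matrix
open Matrix Cfsg.Agent.Transvec Cfsg.Agent.TensorMax Cfsg.Agent.WreathMax Cfsg.Agent.FormWreath

variable {F : Type*} [Field F] [Finite F] {k : ℕ} {J : Type} [Fintype J] [DecidableEq J]
variable {f : (Fin k → F) → (Fin k → F) → F} {κ : F}

local notation "σ₁" => RingEquiv.refl F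

theorem mvLin_fac_mr (hf : Sym f) (i : J) {x : Fin k → F} (hx : f x x ≠ 0) :
    mvLin (fac i (mr hf x)) = op i LinearMap.id (Mlin hf x) :=
  ext_ins i fun v w => by
    show mv (fac i (mr hf x)) (ins i v w) = _
    rw [mv_fac_ins, mv_mr hf hx, op_ins, Mlin_apply, LinearMap.id_apply]

namespace Sl

variable (S : Sl f κ)
include S

/-- Mirrors of one slot commute only along equal or orthogonal vectors. -/
theorem mr_not_comm {x z : Fin k → F} (hx : f x x = κ) (hz : f z z = κ) (hxz : f x z ≠ 0)
    (hc : mr S.hf x * mr S.hf z = mr S.hf z * mr S.hf x) : mr S.hf x = mr S.hf z := by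
  have hf := S.hf
  have hx0 : f x x ≠ 0 := hx ▸ S.hκ
  have hz0 : f z z ≠ 0 := hz ▸ S.hκ
  have h1 : mv (mr hf x) (mv (mr hf z) x) = mv (mr hf z) x := by
    rw [← mv_mul, hc, mv_mul, mr_self hf hx0]
  set u := mv (mr hf z) x with hu
  have h2 : u = (f u x / f x x) • x := by
    rw [mv_mr hf hx0] at h1
    refine smul_right_injective _ S.two ?_
    show (2 : F) • u = (2 : F) • ((f u x / f x x) • x)
    rw [smul_smul, ← mul_div_assoc]
    linear_combination (norm := module) -h1
  have h2' : (2 * f x z / f z z) • z - x = (f u x / f x x) • x := by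
    rw [← mv_mr hf hz0, ← hu]
    exact h2
  have h3 : z = ((f u x / f x x + 1) / (2 * f x z / f z z)) • x := by
    have hs : (2 * f x z / f z z) ≠ 0 := div_ne_zero (mul_ne_zero S.two hxz) hz0
    refine smul_right_injective _ hs ?_
    show (2 * f x z / f z z) • z = (2 * f x z / f z z) • (_ • x)
    rw [smul_smul, mul_div_cancel₀ _ hs]
    linear_combination (norm := module) h2'
  rw [h3, mr_smul hf hx0 (fun e => by rw [e, zero_smul] at h3; exact hz0 (by rw [h3, hf.zero_left]))]

/-- Two orthogonal vectors of value κ meet a third one of that value, orthogonal to neither. -/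
theorem exists_link {x y : Fin k → F} (hx : f x x = κ) (hy : f y y = κ) (hxy : f x y = 0) :
    ∃ z, f z z = κ ∧ f x z ≠ 0 ∧ f z y ≠ 0 := by
  have hf := S.hf
  have h2 := S.two
  have hκ := S.hκ
  have hyx : f y x = 0 := by rw [hf.comm', hxy]
  set P := (hf.formL x).ker ⊓ (hf.formL y).ker with hP
  have hmem : ∀ w, w ∈ P ↔ f w x = 0 ∧ f w y = 0 := fun w => by
    rw [hP, Submodule.mem_inf, LinearMap.mem_ker, LinearMap.mem_ker]; rfl
  have hnd : ∀ u ∈ P, (∀ w ∈ P, f w u = 0) → u = 0 := fun u hu h => hf.nondeg u fun v => by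
    obtain ⟨hux, huy⟩ := (hmem u).1 hu
    have hw : v - (f v x / κ) • x - (f v y / κ) • y ∈ P := (hmem _).2 ⟨by
      simp only [hf.sub_left, hf.smul_left, hx, hyx]; field_simp; ring, by
      simp only [hf.sub_left, hf.smul_left, hy, hxy]; field_simp; ring⟩
    have := h _ hw
    simp only [hf.sub_left, hf.smul_left, hf.comm' x u, hf.comm' y u, hux, huy, mul_zero, sub_zero] at this
    rw [hf.comm', this]
  have hdim : k ≤ Module.finrank F P + 2 := by
    have h1 := (hf.formL x).finrank_range_add_finrank_ker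
    have h1' := Submodule.finrank_sup_add_finrank_inf_eq (hf.formL x).ker (hf.formL y).ker
    have h3 := (hf.formL y).finrank_range_add_finrank_ker
    have h4 := Submodule.finrank_le ((hf.formL x).ker ⊔ (hf.formL y).ker)
    have h5 := Submodule.finrank_le (hf.formL x).range
    have h6 := Submodule.finrank_le (hf.formL y).range
    simp only [Module.finrank_fintype_fun_eq_card, Fintype.card_fin, Module.finrank_self] at h1 h1' h3 h4 h5 h6
    rw [hP]
    omega
  by_cases hk : 5 ≤ k
  · obtain ⟨w, hw, hww⟩ := S.exists_value hnd (by omega) (-κ)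
    obtain ⟨hwx, hwy⟩ := (hmem w).1 hw
    refine ⟨x + y + w, ?_, ?_, ?_⟩ <;>
      simp only [hf.add_left, hf.add_right, hx, hy, hxy, hyx, hww, hwx, hwy, hf.comm' x w, hf.comm' y w]
    · ring
    · simpa using hκ
    · simpa using hκ
  have hq : 5 ≤ Nat.card F := S.hq.resolve_right hk
  obtain ⟨e, he, he0⟩ : ∃ e ∈ P, e ≠ 0 := Submodule.exists_mem_ne_zero_of_ne_bot fun h => by
    have := S.hk; rw [h, finrank_bot] at hdim; omega
  obtain ⟨hex, hey⟩ := (hmem e).1 he
  have hk3 : k = 3 := by
    have := S.hk; obtain ⟨m, hm⟩ := S.odd; omega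
  have hee : f e e ≠ 0 := fun h0 => he0 (hnd e he fun w hw => by
    obtain ⟨hwx, hwy⟩ := (hmem w).1 hw
    have hli : LinearIndependent F ![x, y, e] := by
      rw [Fintype.linearIndependent_iff]
      intro c hc
      simp only [Fin.sum_univ_three, Matrix.cons_val_zero, Matrix.cons_val_one, Matrix.head_cons,
        Matrix.cons_val_two, Matrix.tail_cons] at hc
      have e0 : c 0 = 0 := by
        have := congrArg (fun u => f u x) hc
        simp only [hf.add_left, hf.smul_left, hx, hyx, hex, hf.zero_left] at this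
        exact (mul_eq_zero.1 (by linear_combination this)).resolve_right hκ
      have e1 : c 1 = 0 := by
        have := congrArg (fun u => f u y) hc
        simp only [hf.add_left, hf.smul_left, hy, hxy, hey, hf.zero_left] at this
        exact (mul_eq_zero.1 (by linear_combination this)).resolve_right hκ
      have e2 : c 2 = 0 := by
        rw [e0, e1, zero_smul, zero_smul, zero_add, zero_add] at hc
        exact (smul_eq_zero.1 hc).resolve_right he0
      intro i
      fin_cases i <;> assumption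
    have hspan := hli.span_eq_top_of_card_eq_finrank (by
      rw [Module.finrank_fintype_fun_eq_card, Fintype.card_fin, Fintype.card_fin, hk3])
    have hw' : w ∈ Submodule.span F (Set.range ![x, y, e]) := by rw [hspan]; exact Submodule.mem_top
    obtain ⟨c, hc⟩ := Submodule.mem_span_range_iff_exists_fun (R := F) |>.1 hw'
    simp only [Fin.sum_univ_three, Matrix.cons_val_zero, Matrix.cons_val_one, Matrix.head_cons,
      Matrix.cons_val_two, Matrix.tail_cons] at hc
    rw [← hc]
    simp only [hf.add_left, hf.smul_left, hf.comm' x e, hf.comm' y e, hex, hey, h0]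
    ring)
  have hs : f (x + y) (x + y) = 2 * κ := by
    simp only [hf.add_left, hf.add_right, hx, hy, hxy, hyx]; ring
  have hse : f (x + y) e = 0 := by rw [hf.add_left, hf.comm' x e, hf.comm' y e, hex, hey, add_zero]
  obtain ⟨α₀, γ₀, h₀⟩ := S.exists_comb (x := x + y) (y := e) (by rw [hs]; exact mul_ne_zero h2 hκ) hee hse κ
  suffices H : ∃ α γ : F, α ≠ 0 ∧ 2 * κ * (α * α) + f e e * (γ * γ) = κ by
    obtain ⟨α, γ, hα, hv⟩ := H
    refine ⟨α • (x + y) + γ • e, ?_, ?_, ?_⟩ <;>
      simp only [hf.add_left, hf.add_right, hf.smul_left, hf.smul_right', hx, hy, hxy, hyx, hex, hey,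
        hf.comm' x e, hf.comm' y e]
    · linear_combination hv
    · simp [hκ, hα]
    · simp [hκ, hα]
  have h₁ : 2 * κ * (α₀ * α₀) + f e e * (γ₀ * γ₀) = κ := by
    simp only [hf.add_left, hf.add_right, hf.smul_left, hf.smul_right', hx, hy, hxy, hyx, hex, hey,
      hf.comm' x e, hf.comm' y e] at h₀
    linear_combination h₀
  by_cases hα : α₀ = 0
  swap
  · exact ⟨α₀, γ₀, hα, h₁⟩
  subst hα
  have hγ : γ₀ ≠ 0 := fun h => hκ (by rw [h] at h₁; linear_combination -h₁)
  obtain ⟨t, ht0, ht1⟩ := S.exists_sq_ne_one hq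
  obtain ⟨u, hu0, hu⟩ : ∃ u : F, u ≠ 0 ∧ 2 * κ + f e e * (u * u) ≠ 0 := by
    by_cases h : 2 * κ + f e e * (1 * 1) = 0
    · refine ⟨t, ht0, fun h' => ?_⟩
      exact mul_ne_zero hee (sub_ne_zero.2 ht1) (by linear_combination h' - h)
    · exact ⟨1, one_ne_zero, h⟩
  refine ⟨-2 * f e e * γ₀ * u / (2 * κ + f e e * (u * u)),
    γ₀ + u * (-2 * f e e * γ₀ * u / (2 * κ + f e e * (u * u))),
    div_ne_zero (mul_ne_zero (mul_ne_zero (mul_ne_zero (neg_ne_zero.2 h2) hee) hγ) hu0) hu, ?_⟩
  set D := 2 * κ + f e e * (u * u) with hD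
  field_simp
  linear_combination D ^ 2 * h₁ + 4 * f e e ^ 2 * γ₀ ^ 2 * u ^ 2 * hD.symm

/-- The vectors of value κ span. -/
theorem good_top : Submodule.span F {x : Fin k → F | f x x = κ} = ⊤ := by
  have hf := S.hf
  have h2 := S.two
  set P := Submodule.span F {x : Fin k → F | f x x = κ}
  suffices hperp : ∀ v, (∀ z, f z z = κ → f z v = 0) → v = 0 by
    let L : (Fin k → F) →ₗ[F] (P →ₗ[F] F) :=
      { toFun := fun v => (hf.formL v).comp P.subtype
        map_add' := fun a b => LinearMap.ext fun z => hf.add_right _ a b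
        map_smul' := fun r a => LinearMap.ext fun z => hf.smul_right' r _ a }
    have hinj : Function.Injective L := by
      rw [← LinearMap.ker_eq_bot, LinearMap.ker_eq_bot']
      exact fun v hv => hperp v fun z hz => LinearMap.congr_fun hv ⟨z, Submodule.subset_span hz⟩
    have := LinearMap.finrank_le_finrank_of_injective hinj
    rw [Subspace.dual_finrank_eq] at this
    exact Submodule.eq_top_of_finrank_eq (le_antisymm (Submodule.finrank_le _) this)
  intro v hv
  by_contra hv0
  obtain ⟨x₀, hx₀⟩ := S.exists_aniso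
  have hvx : f x₀ v = 0 := hv x₀ hx₀
  have hvx' : f v x₀ = 0 := by rw [hf.comm', hvx]
  have key : ∀ y, f y y ≠ 0 → f y v ≠ 0 → f y x₀ = 0 := by
    intro y hy hyv
    have h1 : f (mv (mr hf y) x₀) v = 0 := hv _ (by rw [mr_isom hf hy, hx₀])
    rw [mv_mr hf hy, hf.sub_left, hf.smul_left, hvx, sub_zero] at h1
    have h3 := ((mul_eq_zero.1 h1).resolve_right hyv)
    rw [div_eq_zero_iff] at h3
    rw [hf.comm']
    exact (mul_eq_zero.1 (h3.resolve_right hy)).resolve_left h2
  by_cases hvv : f v v = 0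
  · obtain ⟨u, hu⟩ : ∃ u, f u v ≠ 0 := by
      by_contra h; push Not at h; exact hv0 (hf.nondeg v fun y => by rw [hf.comm', h])
    set u' := u - (f u x₀ / κ) • x₀ with hu'
    have hu'x : f u' x₀ = 0 := by rw [hu', hf.sub_left, hf.smul_left, hx₀, div_mul_cancel₀ _ S.hκ, sub_self]
    have hu'v : f u' v = f u v := by rw [hu', hf.sub_left, hf.smul_left, hvx, mul_zero, sub_zero]
    by_cases hy : f (u' + x₀) (u' + x₀) = 0
    · refine S.hκ ?_
      rw [← hx₀]
      have := key (u' + x₀ + v) (by
        rw [hf.add_left (u' + x₀), hf.add_right (u' + x₀) (u' + x₀), hy, hf.add_right v, hvv,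
          hf.comm' v (u' + x₀), hf.add_left u', hu'v, hvx, add_zero, zero_add, add_zero, ← two_mul]
        exact mul_ne_zero h2 hu) (by rw [hf.add_left, hf.add_left, hu'v, hvx, hvv, add_zero, add_zero]; exact hu)
      rwa [hf.add_left, hf.add_left, hu'x, hvx', zero_add, add_zero] at this
    · refine S.hκ ?_
      rw [← hx₀]
      have := key (u' + x₀) hy (by rw [hf.add_left, hu'v, hvx, add_zero]; exact hu)
      rwa [hf.add_left, hu'x, zero_add] at this
  · by_cases hy : f (v + x₀) (v + x₀) = 0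
    · set P' := (hf.formL x₀).ker ⊓ (hf.formL v).ker with hP'
      have hmem : ∀ w, w ∈ P' ↔ f w x₀ = 0 ∧ f w v = 0 := fun w => by
        rw [hP', Submodule.mem_inf, LinearMap.mem_ker, LinearMap.mem_ker]; rfl
      obtain ⟨w, hwx, hwv, hww⟩ : ∃ w, f w x₀ = 0 ∧ f w v = 0 ∧ f w w ≠ 0 := by
        have hk := S.hk
        have h1 := (hf.formL x₀).finrank_range_add_finrank_ker
        have h1' := Submodule.finrank_sup_add_finrank_inf_eq (hf.formL x₀).ker (hf.formL v).ker
        have h3 := (hf.formL v).finrank_range_add_finrank_ker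
        have h4 := Submodule.finrank_le ((hf.formL x₀).ker ⊔ (hf.formL v).ker)
        have h5 := Submodule.finrank_le (hf.formL x₀).range
        have h6 := Submodule.finrank_le (hf.formL v).range
        simp only [Module.finrank_fintype_fun_eq_card, Fintype.card_fin, Module.finrank_self] at h1 h1' h3 h4 h5 h6
        obtain ⟨e, he, he0⟩ : ∃ e ∈ P', e ≠ 0 := Submodule.exists_mem_ne_zero_of_ne_bot fun h => by
          rw [hP'] at h; rw [h, finrank_bot] at h1'; omega
        obtain ⟨hex, hev⟩ := (hmem e).1 he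
        have hnd : ∀ u ∈ P', (∀ w ∈ P', f w u = 0) → u = 0 := fun u hu h => hf.nondeg u fun z => by
          obtain ⟨hux, huv⟩ := (hmem u).1 hu
          have hw : z - (f z x₀ / κ) • x₀ - (f z v / f v v) • v ∈ P' := (hmem _).2 ⟨by
            simp only [hf.sub_left, hf.smul_left, hx₀, hvx']; have := S.hκ; field_simp; ring, by
            simp only [hf.sub_left, hf.smul_left, hvx]; field_simp; ring⟩
          have := h _ hw
          simp only [hf.sub_left, hf.smul_left, hf.comm' x₀ u, hf.comm' v u, hux, huv, mul_zero, sub_zero] at this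
          rw [hf.comm', this]
        by_contra hno
        push Not at hno
        refine he0 (hnd e he fun w hw => ?_)
        obtain ⟨hwx, hwv⟩ := (hmem w).1 hw
        have := hno (w + e) (by rw [hf.add_left, hwx, hex, add_zero]) (by rw [hf.add_left, hwv, hev, add_zero])
        rw [hf.add_left, hf.add_right, hf.add_right, hno w hwx hwv, hno e hex hev, hf.comm' e w, zero_add, add_zero,
          ← two_mul] at this
        exact (mul_eq_zero.1 this).resolve_left h2
      refine S.hκ ?_
      rw [← hx₀]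
      have := key (v + x₀ + w) (by
        rw [hf.add_left (v + x₀), hf.add_right (v + x₀) (v + x₀), hy, hf.add_right w, hf.comm' (v + x₀) w,
          hf.add_right w, hwv, hwx, add_zero, zero_add, zero_add, zero_add]
        exact hww) (by rw [hf.add_left, hf.add_left, hvx, hwv, add_zero, add_zero]; exact hvv)
      rwa [hf.add_left, hf.add_left, hvx', hwx, zero_add, add_zero] at this
    · refine S.hκ ?_
      rw [← hx₀]
      have := key (v + x₀) hy (by rw [hf.add_left, hvx, add_zero]; exact hvv)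
      rwa [hf.add_left, hvx', zero_add] at this

/-- A map carrying mirrors of value κ to mirrors is monomial. -/
theorem norm_mono [Nonempty J] {g : GL (J → Fin k) F}
    (H : ∀ (i : J) (x : Fin k → F), f x x = κ →
      ∃ (j : J) (y : Fin k → F), f y y ≠ 0 ∧ g * fac i (mr S.hf x) * g⁻¹ = fac j (mr S.hf y)) : Mono g := by
  classical
  have hf := S.hf
  have hκ := S.hκ
  haveI : NeZero k := ⟨by have := S.hk; omega⟩
  refine mono_of_lines (by have := S.hk; omega) fun i v hv => ?_
  obtain ⟨x, hx⟩ := S.exists_aniso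
  have hgd : ∀ {z}, f z z = κ → f z z ≠ 0 := fun h => h ▸ hκ
  obtain ⟨j, x', hx', hjx⟩ := H i x hx
  have hslot1 : ∀ y z, f y y = κ → f z z = κ → f y z ≠ 0 → ∀ l y' l' z', f y' y' ≠ 0 → f z' z' ≠ 0 →
      g * fac i (mr hf y) * g⁻¹ = fac l (mr hf y') → g * fac i (mr hf z) * g⁻¹ = fac l' (mr hf z') → l = l' := by
    intro y z hy hz hyz l y' l' z' hy' hz' e e'
    by_contra hne
    have hc : mr hf y * mr hf z = mr hf z * mr hf y := by
      have h1 := fac_comm hne (mr hf y') (mr hf z')
      rw [← e, ← e'] at h1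
      have h2 : fac (J := J) i (mr hf y * mr hf z) = fac i (mr hf z * mr hf y) := by
        rw [fac_mul, fac_mul]
        exact mul_left_cancel (mul_right_cancel (b := g⁻¹) (by
          calc g * (fac i (mr hf y) * fac i (mr hf z)) * g⁻¹
              = g * fac i (mr hf y) * g⁻¹ * (g * fac i (mr hf z) * g⁻¹) := by group
            _ = g * fac i (mr hf z) * g⁻¹ * (g * fac i (mr hf y) * g⁻¹) := h1
            _ = g * (fac i (mr hf z) * fac i (mr hf y)) * g⁻¹ := by group))
      refine ext_mv fun u => ?_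
      have h3 := congrArg (fun G => mv G (ins i u (pten fun _ : {j // j ≠ i} => Pi.single 0 (1 : F)))) h2
      simp only [mv_fac_ins] at h3
      have hw0 := pten_ne_zero (fun _ : {j // j ≠ i} => Pi.single_ne_zero_iff.2 (one_ne_zero (α := F)))
        (x := fun _ : {j // j ≠ i} => Pi.single (0 : Fin k) (1 : F))
      obtain ⟨φ, hφ⟩ : ∃ φ : Fin k → F, True := ⟨0, trivial⟩
      funext p
      have h4 := congrArg (cr i (Pi.single p 1)) h3
      simp only [cr_ins, single_one_dotProduct] at h4
      exact smul_left_injective F hw0 h4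
    rw [S.mr_not_comm hy hz hyz hc] at e
    rw [e] at e'
    have h5 := congrArg fixsp e'
    rw [fixsp_mir S l hy', fixsp_mir S l' hz'] at h5
    exact hne (Ln_type_unique (by have := S.hk; omega) (fun h0 => hy' (by rw [h0, hf.zero_left]))
      (fun h0 => hz' (by rw [h0, hf.zero_left])) h5)
  have hconn : ∀ z, f z z = κ → f x z ≠ 0 ∨ ∃ w, f w w = κ ∧ f x w ≠ 0 ∧ f w z ≠ 0 := fun z hz => by
    by_cases h : f x z = 0
    · exact Or.inr (S.exists_link hx hz h)
    · exact Or.inl h
  have hslot : ∀ z, f z z = κ → ∃ z', f z' z' ≠ 0 ∧ g * fac i (mr hf z) * g⁻¹ = fac j (mr hf z') := by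
    intro z hz
    obtain ⟨l, z', hz', e⟩ := H i z hz
    suffices j = l by subst this; exact ⟨z', hz', e⟩
    rcases hconn z hz with h | ⟨w, hw, h1, h2⟩
    · exact hslot1 x z hx hz h _ _ _ _ hx' hz' hjx e
    · obtain ⟨l'', w', hw', e'⟩ := H i w hw
      exact (hslot1 x w hx hw h1 _ _ _ _ hx' hw' hjx e').trans (hslot1 w z hw hz h2 _ _ _ _ hw' hz' e' e)
  let 𝒜 : Submodule F ((Fin k → F) →ₗ[F] Fin k → F) :=
    { carrier := {T | ∃ T', mvLin g ∘ₗ op i LinearMap.id T = op j LinearMap.id T' ∘ₗ mvLin g}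
      add_mem' := fun {a b} ⟨a', ha⟩ ⟨b', hb⟩ => ⟨a' + b', by
        rw [op_add_right, op_add_right, LinearMap.comp_add, LinearMap.add_comp, ha, hb]⟩
      zero_mem' := ⟨0, by rw [op_zero_right, op_zero_right, LinearMap.comp_zero, LinearMap.zero_comp]⟩
      smul_mem' := fun r a ⟨a', ha⟩ => ⟨r • a', by
        rw [op_smul_right, op_smul_right, LinearMap.comp_smul, LinearMap.smul_comp, ha]⟩ }
  have hcomp : ∀ T T', T ∈ 𝒜 → T' ∈ 𝒜 → T ∘ₗ T' ∈ 𝒜 := by
    rintro T T' ⟨U, hU⟩ ⟨U', hU'⟩
    refine ⟨U ∘ₗ U', ?_⟩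
    rw [← LinearMap.id_comp (LinearMap.id : (Rest i k → F) →ₗ[F] _), ← op_comp, ← LinearMap.comp_assoc, hU,
      LinearMap.comp_assoc, hU', ← LinearMap.comp_assoc, op_comp, LinearMap.id_comp]
  have havz : ∀ z, f z z = κ → av hf z z ∈ 𝒜 := by
    intro z hz
    obtain ⟨z', hz', e⟩ := hslot z hz
    have e1 : mvLin g ∘ₗ mvLin (fac i (mr hf z)) = mvLin (fac j (mr hf z')) ∘ₗ mvLin g :=
      LinearMap.ext fun u => by
        show mv g (mv _ u) = mv _ (mv g u)
        rw [← mv_mul, ← mv_mul, ← e, inv_mul_cancel_right]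
    rw [mvLin_fac_mr hf i (hgd hz), mvLin_fac_mr hf j hz'] at e1
    have hM : Mlin hf z ∈ 𝒜 := ⟨_, e1⟩
    have hid : (LinearMap.id : (Fin k → F) →ₗ[F] Fin k → F) ∈ 𝒜 :=
      ⟨LinearMap.id, by rw [op_one, op_one, LinearMap.comp_id, LinearMap.id_comp]⟩
    have e2 : av hf z z = (κ / 2) • (Mlin hf z + LinearMap.id) := by
      rw [Mlin, sub_add_cancel, smul_smul, hz]
      have := S.two
      field_simp
      rw [one_smul]
    rw [e2]
    exact 𝒜.smul_mem _ (𝒜.add_mem hM hid)
  have havc : ∀ a b c d : Fin k → F, av hf a b ∘ₗ av hf c d = f c b • av hf a d := fun a b c d =>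
    LinearMap.ext fun u => by
      simp only [LinearMap.comp_apply, LinearMap.smul_apply, av_apply, hf.smul_left, smul_smul]
      congr 1
      ring
  have hz1 : ∀ z, f z z = κ → av hf z x ∈ 𝒜 := by
    intro z hz
    rcases hconn z hz with h | ⟨w, hw, h1, h2⟩
    · have := hcomp _ _ (havz z hz) (havz x hx)
      rw [havc] at this
      simpa [smul_smul, inv_mul_cancel₀ h] using 𝒜.smul_mem (f x z)⁻¹ this
    · have := hcomp _ _ (hcomp _ _ (havz z hz) (havz w hw)) (havz x hx)
      rw [havc, LinearMap.smul_comp, havc, smul_smul] at this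
      have h7 := 𝒜.smul_mem (f w z * f x w)⁻¹ this
      rwa [smul_smul, inv_mul_cancel₀ (mul_ne_zero h2 h1), one_smul] at h7
  have hall : ∀ u, av hf u x ∈ 𝒜 := fun u => by
    have : u ∈ Submodule.span F {x : Fin k → F | f x x = κ} := by rw [S.good_top]; exact Submodule.mem_top
    induction this using Submodule.span_induction with
    | mem z hz => exact hz1 z hz
    | zero => convert 𝒜.zero_mem using 1; exact LinearMap.ext fun u => by simp
    | add a b _ _ ha hb => convert 𝒜.add_mem ha hb using 1; exact LinearMap.ext fun u => by simp [smul_add]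
    | smul r a _ ha => convert 𝒜.smul_mem r ha using 1; exact LinearMap.ext fun u => by simp [smul_smul, mul_comm]
  obtain ⟨T, hT⟩ := hall v
  have hmapx : (Ln i x).map (mvLin g) = Ln j x' := by
    rw [← fixsp_mir S i (hgd hx), ← fixsp_conj, hjx, fixsp_mir S j hx']
  have hsub : ∀ u ∈ (Ln i v).map (mvLin g), u ∈ Ln j (mv 1 (T x')) := by
    intro u hu
    obtain ⟨y, hy, rfl⟩ := mem_map_gl.1 hu
    obtain ⟨w, rfl⟩ := mem_Ln_ins hy
    obtain ⟨R, hR⟩ := mem_Ln_ins (hmapx ▸ mem_map_gl.2 ⟨_, ins_mem i x w, rfl⟩ : mv g (ins i x w) ∈ Ln j x')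
    have h1 : mv g (ins i (f x x • v) w) = op j LinearMap.id T (mv g (ins i x w)) := by
      have := LinearMap.congr_fun hT (ins i x w)
      rw [LinearMap.comp_apply, LinearMap.comp_apply, op_ins, LinearMap.id_apply, av_apply] at this
      exact this
    rw [← hR, op_ins, LinearMap.id_apply, ins_smul_vec, mv_smul] at h1
    rw [mv_one, ← smul_inv_smul₀ (hgd hx) (mv g (ins i v w))]
    rw [smul_comm, h1]
    exact Submodule.smul_mem _ _ (ins_mem j _ _)
  have hTx : mv 1 (T x') ≠ 0 := fun h0 => by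
    obtain ⟨y, hy, hy0⟩ := Submodule.exists_mem_ne_zero_of_ne_bot
      (fun hbot : Ln i v = ⊥ => by
        have := finrank_Ln i hv
        rw [hbot, finrank_bot] at this
        exact absurd this.symm (Fintype.card_ne_zero))
    have := hsub _ (mem_map_gl.2 ⟨y, hy, rfl⟩)
    rw [h0] at this
    obtain ⟨w, hw⟩ := mem_Ln_ins this
    refine hy0 (mv_inj g ?_)
    rw [← hw, mv_zero, ins_apply, ten_zero_right, map_zero]
  exact ⟨j, _, hTx, Submodule.eq_of_le_of_finrank_le hsub (by
    rw [finrank_map_gl, finrank_Ln _ hv, finrank_Ln _ hTx, card_rest_same j i (by have := S.hk; omega)])⟩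

end Sl

end Cfsg.Agent.OrthWreath
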