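/-
The unipotent radical of the stabiliser of a line of one slot, in a proper overgroup.
-/
import Cfsg.Agent.Lib.OrthWreath.Gen

set_option autoImplicit false
set_option linter.unusedSectionVars false

namespace Cfsg.Agent.OrthWreath

open scoped Matrix
open Matrix Cfsg.Agent.Transvec Cfsg.Agent.TensorMax Cfsg.Agent.WreathMax Cfsg.Agent.FormWreath
open Cfsg.Agent.FormWreath.Grow (pten_zero_slot)
open Cfsg.Agent.UWreath (Loc loc_pten loc_comp Additive Has)

variable {F : Type*} [Field F] [Finite F] {k : ℕ} {J : Type} [Fintype J] [DecidableEq J]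
variable {f : (Fin k → F) → (Fin k → F) → F}

local notation "σ₁" => RingEquiv.refl F

theorem op_zero_iff {i : J} {R : (Rest i k → F) →ₗ[F] Rest i k → F} {T : (Fin k → F) →ₗ[F] Fin k → F}
    (hT : T ≠ 0) (h : op i R T = 0) : R = 0 := by
  obtain ⟨v, hv⟩ : ∃ v, T v ≠ 0 := by
    by_contra hcon
    push Not at hcon
    exact hT (LinearMap.ext hcon)
  exact LinearMap.ext fun w => ins_injective i hv (by
    have := LinearMap.congr_fun h (ins i v w)
    rwa [op_ins, LinearMap.zero_apply, ← (ins i (T v)).map_zero] at this)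

variable {Q : ((J → Fin k) → F) → F} {κ : F} {X : Subgroup (GL (J → Fin k) F)}

namespace Ctx

variable (C : Ctx f Q κ X)
include C

/-- An elementary operator and a conjugate not commuting on a common vector. -/
theorem slot_swap {T : (Fin k → F) →ₗ[F] Fin k → F} (hT : IsC C.hf T ∨ IsA C.hf T) :
    ∃ (g : GL (Fin k) F) (c : Fin k → F), Mv f X g ∧ T c = 0 ∧ T (cj g T c) ≠ 0 := by
  have hf := C.hf
  have h2 := C.two
  rcases hT with ⟨r, c, hr, hc0, hc, rfl⟩ | ⟨c, x, hc0, hc, hxc, hx, rfl⟩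
  · obtain ⟨d, hd, hcd⟩ := C.toSl.exists_pair hc0 hc
    obtain ⟨hp, hgc, -, -⟩ := mr_swap hf h2 hc hd hcd C.hκ
    refine ⟨_, c, C.mv_mr' hp, by simp [hc], ?_⟩
    rw [cj_smul, cj_Cop hf (C.mv_mr' hp).1, hgc, Cop_smul]
    simp only [LinearMap.smul_apply, Cop_apply, map_smul, hcd, hf.comm' d c, smul_smul, one_smul, mul_one]
    exact smul_ne_zero (mul_ne_zero (mul_ne_zero hr (mul_ne_zero (div_ne_zero C.hκ h2) (div_ne_zero C.hκ h2))) hr) hc0
  · obtain ⟨d, hd, hcd, hxd⟩ := C.exists_partner_perp hc0 hc hxc hx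
    obtain ⟨hp, hgc, -, hgw⟩ := mr_swap hf h2 hc hd hcd C.hκ
    refine ⟨_, c, C.mv_mr' hp, by simp [hc, hf.comm' c x, hxc], ?_⟩
    rw [cj_Aop hf (C.mv_mr' hp).1, hgc, hgw x hxc hxd, Aop_smul_left, Aop_neg]
    simp only [LinearMap.smul_apply, LinearMap.neg_apply, Aop_apply, map_smul, map_neg, map_sub, hcd,
      hf.comm' c x, hxc, hf.smul_left, hf.sub_left, hf.neg_left, hf.neg_right, smul_smul]
    simp only [one_smul, zero_smul, mul_zero, sub_zero, map_zero, smul_zero, zero_smul, zero_sub, neg_neg,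
      neg_zero, neg_ne_zero, zero_mul, one_mul, mul_one]
    exact smul_ne_zero (div_ne_zero C.hκ h2) (smul_ne_zero hx hc0)

theorem two_part {c x : Fin k → F} (hc : f c c = 0) (hxc : f x c = 0) (i : J)
    (N K N' K' : (Rest i k → F) →ₗ[F] Rest i k → F) (u : (J → Fin k) → F) :
    op i N (Aop C.hf c x) (op i N' (Aop C.hf c x) u + op i K' (Cop C.hf c) u) +
      op i K (Cop C.hf c) (op i N' (Aop C.hf c x) u + op i K' (Cop C.hf c) u) =
      (-f x x) • op i (N ∘ₗ N') (Cop C.hf c) u := by
  have e1 : Aop C.hf c x ∘ₗ Aop C.hf c x = (-f x x) • Cop C.hf c := LinearMap.ext fun v => by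
    rw [LinearMap.comp_apply, Aop_Aop C.hf hc hxc hxc, LinearMap.smul_apply]
  have e2 : Aop C.hf c x ∘ₗ Cop C.hf c = 0 := LinearMap.ext fun v => by
    rw [LinearMap.comp_apply, Aop_Cop C.hf hc hxc, LinearMap.zero_apply]
  have e3 : Cop C.hf c ∘ₗ Aop C.hf c x = 0 := LinearMap.ext fun v => by
    rw [LinearMap.comp_apply, Cop_Aop C.hf hc hxc, LinearMap.zero_apply]
  have h1 := LinearMap.congr_fun (op_comp i N N' (Aop C.hf c x) (Aop C.hf c x)) u
  have h2 := LinearMap.congr_fun (op_comp i N K' (Aop C.hf c x) (Cop C.hf c)) u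
  have h3 := LinearMap.congr_fun (op_comp i K N' (Cop C.hf c) (Aop C.hf c x)) u
  have h4 := LinearMap.congr_fun (op_comp i K K' (Cop C.hf c) (Cop C.hf c)) u
  rw [e1, op_smul_right, LinearMap.smul_apply] at h1
  rw [e2, op_zero_right] at h2
  rw [e3, op_zero_right] at h3
  rw [Cop_sq C.hf hc, op_zero_right] at h4
  simp only [LinearMap.comp_apply, LinearMap.zero_apply] at h1 h2 h3 h4
  rw [map_add, map_add, h1, h2, h3, h4]
  abel

variable (hJ : 2 ≤ Fintype.card J) (hX : ¬ Geo.omegaGL Q ≤ X)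
include hJ hX

/-- Two skew parts along c and x commute, so each is a scalar. -/
theorem skew_scalar (i : J) {c x : Fin k → F} (hc0 : c ≠ 0) (hc : f c c = 0) (hxc : f x c = 0)
    (hx : f x x ≠ 0) {N K : (Rest i k → F) →ₗ[F] Rest i k → F}
    (h : Has X (op i N (Aop C.hf c x) + op i K (Cop C.hf c))) : ∃ s : F, N = s • LinearMap.id := by
  set A := Aop C.hf c x with hA
  set Co := Cop C.hf c with hCo
  set S : ((Rest i k → F) →ₗ[F] Rest i k → F) → Prop := fun N => ∃ K, Has X (op i N A + op i K Co)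
  have mul : ∀ {g g' : GL (J → Fin k) F} {N K N' K' : (Rest i k → F) →ₗ[F] Rest i k → F},
      (∀ u, mv g u = u + (op i N A + op i K Co) u) → (∀ u, mv g' u = u + (op i N' A + op i K' Co) u) →
      ∀ u, mv (g * g') u = u + (op i (N + N') A + op i (K + K' + (-f x x) • (N ∘ₗ N')) Co) u := by
    intro g g' N K N' K' hg hg' u
    have e := C.two_part hc hxc i N K N' K' u
    rw [mv_mul, hg', hg]
    simp only [LinearMap.add_apply, map_add, op_add_left, op_smul_left, LinearMap.smul_apply] at e ⊢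
    linear_combination (norm := module) e
  have sNeg : ∀ {N}, S N → S (-N) := by
    rintro N ⟨K, g, hg, hgx⟩
    refine ⟨-K + (-f x x) • (N ∘ₗ N), g⁻¹, X.inv_mem hg, fun u => ?_⟩
    obtain ⟨v, rfl⟩ : ∃ v, u = mv g v := ⟨mv g⁻¹ u, (mv_mv_inv g u).symm⟩
    rw [mv_inv_mv, hgx]
    have e1 := C.two_part hc hxc i (-N) (-K) N K v
    rw [← hA, ← hCo] at e1
    have e2 := LinearMap.congr_fun (op_comp i ((-f x x) • (N ∘ₗ N)) N Co A) v
    have e3 := LinearMap.congr_fun (op_comp i ((-f x x) • (N ∘ₗ N)) K Co Co) v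
    rw [show Co ∘ₗ A = 0 from LinearMap.ext fun w => Cop_Aop C.hf hc hxc w, op_zero_right] at e2
    rw [show Co ∘ₗ Co = 0 from Cop_sq C.hf hc, op_zero_right] at e3
    simp only [LinearMap.neg_comp, op_neg_left, op_add_left, op_smul_left, LinearMap.comp_apply, LinearMap.zero_apply,
      LinearMap.add_apply, LinearMap.smul_apply, LinearMap.neg_apply, map_add] at e1 e2 e3 ⊢
    linear_combination (norm := module) -e1 - e2 - e3
  have hS : Inv C.hf κ S :=
    { add := fun {N N'} hN hN' => by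
        obtain ⟨K, g, hg, hgx⟩ := hN
        obtain ⟨K', g', hg', hgx'⟩ := hN'
        exact ⟨_, g * g', X.mul_mem hg hg', mul hgx hgx'⟩
      neg := sNeg
      inv := fun l {B} hB {N} hN => by
        obtain ⟨K, hH⟩ := hN
        have hmem : fac (l : J) B ∈ X := by
          rcases hB with ⟨c', w, h1, h2, rfl⟩ | ⟨y, hy, rfl⟩
          · exact C.root _ _ _ h1 h2
          · exact C.mir _ _ hy
        refine ⟨cj (fac l B) K, ?_⟩
        have e := UWreath.Has.conj hH hmem
        rw [← cj_op_other l.2, ← cj_op_other l.2]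
        simpa only [cj, LinearMap.add_comp, LinearMap.comp_add] using e }
  have comm : ∀ {N N'}, S N → S N' → N ∘ₗ N' = N' ∘ₗ N := by
    rintro N N' ⟨K, g, hg, hgx⟩ ⟨K', g', hg', hgx'⟩
    have h1 := mul hgx hgx'
    have h2 := mul hgx' hgx
    set Z := (-f x x) • (N ∘ₗ N' - N' ∘ₗ N) with hZ
    have hH : Has X (op i Z Co) := by
      refine ⟨(g' * g)⁻¹ * (g * g'), X.mul_mem (X.inv_mem (X.mul_mem hg' hg)) (X.mul_mem hg hg'), fun u => ?_⟩
      rw [mv_mul, mv_eq_iff, inv_inv, h1, mv_add, h2, h2]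
      have e2 := LinearMap.congr_fun (op_comp i (N' + N) Z A Co) u
      have e3 := LinearMap.congr_fun (op_comp i (K' + K + (-f x x) • (N' ∘ₗ N)) Z Co Co) u
      rw [show A ∘ₗ Co = 0 from LinearMap.ext fun w => Aop_Cop C.hf hc hxc w, op_zero_right] at e2
      rw [show Co ∘ₗ Co = 0 from Cop_sq C.hf hc, op_zero_right] at e3
      simp only [hZ, op_add_left, op_smul_left, sub_eq_add_neg, op_neg_left, LinearMap.comp_apply,
        LinearMap.zero_apply, LinearMap.add_apply, LinearMap.smul_apply, LinearMap.neg_apply] at e2 e3 ⊢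
      linear_combination (norm := module) -e2 - e3
    have h0 := C.nr0 hJ hX i hc0 hc hH
    rw [hZ, smul_eq_zero, sub_eq_zero] at h0
    exact h0.resolve_left (neg_ne_zero.2 hx)
  by_contra hns
  obtain ⟨T, hT, ⟨j, hj⟩, K₁, hH₁⟩ := exists_loc C.toSl _ {j // j ≠ i} rfl S hS N ⟨K, h⟩ hns
  have hT₁ : S (Loc T) := ⟨K₁, hH₁⟩
  have hdata : ∀ l, ∃ (g : GL (Fin k) F) (y : Fin k → F), Mv f X g ∧
      (T l ≠ LinearMap.id → T l y = 0 ∧ T l (cj g (T l) y) ≠ 0) ∧
      (T l = LinearMap.id → g = 1 ∧ y ≠ 0) := by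
    intro l
    by_cases hl : T l = LinearMap.id
    · exact ⟨1, c, Mv.one, fun e => absurd hl e, fun _ => ⟨rfl, hc0⟩⟩
    · obtain ⟨g, y, hg, h1, h2⟩ := C.slot_swap ((hT l).resolve_left hl)
      exact ⟨g, y, hg, fun _ => ⟨h1, h2⟩, fun e => absurd e hl⟩
  choose G y hG hy1 hy2 using hdata
  have hT₂ : S (Loc fun l => cj (G l) (T l)) := by
    suffices H : ∀ U : Finset {j // j ≠ i}, S (Loc fun l => if l ∈ U then cj (G l) (T l) else T l) by
      simpa using H Finset.univ
    intro U
    induction U using Finset.induction with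
    | empty => simpa using hT₁
    | insert a U ha ih =>
      obtain ⟨K₂, hK₂⟩ := ih
      have e := UWreath.Has.conj hK₂ ((hG a).2 (a : J))
      refine ⟨cj (fac a (G a)) K₂, ?_⟩
      rw [show (Loc fun l => if l ∈ insert a U then cj (G l) (T l) else T l) =
          cj (fac a (G a)) (Loc fun l => if l ∈ U then cj (G l) (T l) else T l) from by
        rw [cj, UWreath.loc_conj_fac]
        exact UWreath.loc_congr fun l => by
          by_cases hl : l = a
          · subst hl; simp [ha]
          · simp [hl], ← cj_op_other a.2, ← cj_op_other a.2]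
      simpa only [cj, LinearMap.add_comp, LinearMap.comp_add] using e
  have e := LinearMap.congr_fun (comm hT₁ hT₂) (pten y)
  rw [loc_comp, loc_comp, loc_pten, loc_pten] at e
  rw [pten_zero_slot (x := fun l => (cj (G l) (T l) ∘ₗ T l) (y l)) (i := j) (by
    simp only [LinearMap.comp_apply, (hy1 j hj).1, map_zero])] at e
  refine pten_ne_zero (fun l => ?_) e
  by_cases hl : T l = LinearMap.id
  · simp only [LinearMap.comp_apply, (hy2 l hl).1, cj_one', hl, LinearMap.id_apply]
    exact (hy2 l hl).2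
  · exact (hy1 l hl).2

/-- A member fixing a line and all its orthogonal vectors is trivial. -/
theorem fix_perp (i : J) {c : Fin k → F} (hc0 : c ≠ 0) (hc : f c c = 0) {g : GL (J → Fin k) F} (hg : g ∈ X)
    (h : ∀ v, f v c = 0 → ∀ u, mv g (ins i v u) = ins i v u) : g = 1 := by
  obtain ⟨d, hd, hcd⟩ := C.toSl.exists_pair hc0 hc
  set K := bet C.hf i (dev g) d d
  have hd1 : ∀ u, mv g (ins i d u) = ins i d u + ins i c (K u) := by
    intro u
    have hz : dev g (ins i d u) ∈ Ln i c := mem_Ln_of_cr hc0 fun φ hφ => by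
      obtain ⟨v, rfl⟩ := C.hf.frow_surj (fun _ => rfl) φ
      rw [C.hf.frow_dot, C.hf.comm'] at hφ
      refine (Bt_sym C.hf).nondeg _ fun w => ?_
      have e := C.pres (C.iso hg) (ins i d u) (ins i v w)
      rw [h v hφ, Bt_ins C.hf, Bt_ins C.hf] at e
      rw [dev_apply, map_sub, (Bt_sym C.hf).sub_left, e, sub_self]
    obtain ⟨m, hm⟩ := mem_Ln_ins hz
    have hK : K u = m := by
      show cr i (frow f d) (dev g (ins i d u)) = m
      rw [← hm, cr_ins' C.hf, hcd, one_smul]
    rw [hK, hm, dev_apply, add_sub_cancel]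
  have hH : Has X (op i K (Cop C.hf c)) := ⟨g, hg, fun y => by
    have e : mvLin g = LinearMap.id + op i K (Cop C.hf c) := ext_ins i fun v u => by
      obtain ⟨v', r, hv', rfl⟩ : ∃ v' r, f v' c = 0 ∧ v = v' + r • d :=
        ⟨v - f v c • d, f v c, by simp [C.hf.sub_left, C.hf.smul_left, C.hf.comm' d c, hcd], by abel⟩
      show mv g _ = _
      simp only [ins_add_vec, ins_smul_vec, mv_add, mv_smul, h v' hv', hd1, LinearMap.add_apply,
        LinearMap.id_apply, map_add, map_smul, op_ins, Cop_apply, C.hf.comm' d c, hcd, hv', zero_smul, one_smul]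
      rw [show ins i (0 : Fin k → F) (K u) = 0 by simp [ins_apply, ten_zero_right]]
      module
    exact LinearMap.congr_fun e y⟩
  have hK0 := C.nr0 hJ hX i hc0 hc hH
  exact ext_ins_mv i fun v u => by
    obtain ⟨v', r, hv', rfl⟩ : ∃ v' r, f v' c = 0 ∧ v = v' + r • d :=
      ⟨v - f v c • d, f v c, by simp [C.hf.sub_left, C.hf.smul_left, C.hf.comm' d c, hcd], by abel⟩
    rw [mv_one]
    simp only [ins_add_vec, ins_smul_vec, mv_add, mv_smul, h v' hv', hd1, hK0, LinearMap.zero_apply, map_zero,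
      add_zero]

/-- The middle part of a member moving one anisotropic direction is a scalar. -/
theorem mid_scalar (i : J) {c x : Fin k → F} (hc0 : c ≠ 0) (hc : f c c = 0) (hxc : f x c = 0)
    (hx : f x x ≠ 0) {h : GL (J → Fin k) F} (hh : h ∈ X) (hfix : ∀ v, f v c = 0 → f v x = 0 → ∀ u,
      mv h (ins i v u) = ins i v u)
    {M : (Rest i k → F) →ₗ[F] Rest i k → F} (hM : ∀ u, mv h (ins i x u) = ins i x u + ins i c (M u)) :
    ∃ s : F, M = s • LinearMap.id := by
  have hf := C.hf
  obtain ⟨d, hd, hcd, hxd⟩ := C.exists_partner_perp hc0 hc hxc hx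
  have hdc : f d c = 1 := by rw [hf.comm', hcd]
  have hcx : f c x = 0 := by rw [hf.comm', hxc]
  have hdx : f d x = 0 := by rw [hf.comm', hxd]
  set N := (f x x)⁻¹ • bet hf i (dev h) d x
  set K := bet hf i (dev h) d d
  have hd1 : ∀ u, mv h (ins i d u) = ins i d u + ins i x (N u) + ins i c (K u) := by
    intro u
    set z := dev h (ins i d u) with hz
    have hzm : z - ins i x (N u) ∈ Ln i c := mem_Ln_of_cr hc0 fun φ hφ => by
      obtain ⟨v, rfl⟩ := hf.frow_surj (fun _ => rfl) φ
      rw [hf.frow_dot, hf.comm'] at hφ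
      have hv' : cr i (frow f (v - (f v x / f x x) • x)) z = 0 := by
        refine (Bt_sym hf).nondeg _ fun w => ?_
        have h1 : f (v - (f v x / f x x) • x) c = 0 := by rw [hf.sub_left, hf.smul_left, hφ, hxc]; ring
        have h2 : f (v - (f v x / f x x) • x) x = 0 := by
          rw [hf.sub_left, hf.smul_left, div_mul_cancel₀ _ hx, sub_self]
        have e := C.pres (C.iso hh) (ins i d u) (ins i (v - (f v x / f x x) • x) w)
        rw [hfix _ h1 h2, Bt_ins C.hf, Bt_ins C.hf] at e
        rw [hz, dev_apply, map_sub, (Bt_sym C.hf).sub_left, e, sub_self]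
      rw [sub_eq_add_neg, ← neg_smul, hf.frow_add, hf.frow_smul, RingEquiv.refl_apply] at hv'
      simp only [LinearMap.comp_apply, LinearEquiv.coe_coe, ctr_add_vec, ctr_smul_vec, LinearMap.add_apply,
        LinearMap.smul_apply] at hv'
      rw [map_sub, cr_ins' hf]
      show cr i (frow f v) z - f x v • ((f x x)⁻¹ • cr i (frow f x) z) = 0
      simp only [LinearMap.comp_apply, LinearEquiv.coe_coe]
      rw [hf.comm' x v]
      linear_combination (norm := (match_scalars <;> field_simp <;> ring)) hv'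
    obtain ⟨m, hm⟩ := mem_Ln_ins hzm
    have hK : K u = m := by
      show cr i (frow f d) z = m
      rw [show z = ins i c m + ins i x (N u) by rw [hm]; abel, map_add, cr_ins' hf, cr_ins' hf, hcd, hxd,
        one_smul, zero_smul, add_zero]
    rw [hK, hm, show mv h (ins i d u) = ins i d u + z by rw [hz, dev_apply, add_sub_cancel]]
    abel
  set A := Aop hf c x
  set Co := Cop hf c
  set P := av hf c x
  set Z := (f x x)⁻¹ • M + N with hZ
  have hins0 : ∀ w, ins i (0 : Fin k → F) w = (0 : (J → Fin k) → F) := fun w => by simp [ins_apply, ten_zero_right]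
  have hdec : ∀ v, ∃ v', f v' c = 0 ∧ f v' x = 0 ∧ v = v' + (f v x / f x x) • x + f v c • d := fun v =>
    ⟨v - (f v x / f x x) • x - f v c • d, by simp [hf.sub_left, hf.smul_left, hxc, hdc],
      by simp [hf.sub_left, hf.smul_left, hdx, hx], by abel⟩
  have hh' : mvLin h = LinearMap.id + op i N A + op i Z P + op i K Co := ext_ins i fun v u => by
    obtain ⟨v', h1, h2, hv⟩ := hdec v
    show mv h _ = _
    conv_lhs => rw [hv]
    simp only [ins_add_vec, ins_smul_vec, mv_add, mv_smul, hfix v' h1 h2, hM, hd1, LinearMap.add_apply,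
      LinearMap.id_apply, op_ins, A, P, Co, Aop_apply, av_apply, Cop_apply]
    conv_rhs => enter [1, 1, 1]; rw [hv]
    simp only [ins_add_vec, ins_smul_vec, ins_sub_vec, hZ, LinearMap.add_apply, LinearMap.smul_apply, map_add,
      map_smul]
    match_scalars <;> field_simp <;> ring
  set e := fac i (eA hf c x)
  have hex : e ∈ X := C.root i c x hc hxc
  have he : mvLin e = LinearMap.id + op i LinearMap.id A +
      (-f x x / 2) • op i (LinearMap.id : (Rest i k → F) →ₗ[F] Rest i k → F) Co := ext_ins i fun v u => by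
    show mv (fac i (eA hf c x)) _ = _
    rw [mv_fac_ins, mv_eA hf C.two hc hxc, Elin_apply, Aop_Aop hf hc hxc hxc]
    simp only [ins_add_vec, ins_smul_vec, LinearMap.add_apply, LinearMap.smul_apply, LinearMap.id_apply, op_ins,
      A, Co, smul_smul]
    match_scalars <;> ring
  have pA : P ∘ₗ A = f x x • Co := LinearMap.ext fun v => by
    simp [P, A, Co, hf.sub_left, hf.smul_left, hcx, smul_smul, mul_comm]
  have Ap : A ∘ₗ P = 0 := LinearMap.ext fun v => by simp [P, A, hc, hcx, smul_smul]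
  have CP : Co ∘ₗ P = 0 := LinearMap.ext fun v => by simp [P, Co, hc, hf.smul_left]
  have PC : P ∘ₗ Co = 0 := LinearMap.ext fun v => by simp [P, Co, hcx, hf.smul_left]
  have AC : A ∘ₗ Co = 0 := LinearMap.ext fun w => Aop_Cop hf hc hxc w
  have CA : Co ∘ₗ A = 0 := LinearMap.ext fun w => Cop_Aop hf hc hxc w
  have CC : Co ∘ₗ Co = 0 := Cop_sq hf hc
  have hcomm : mvLin h ∘ₗ mvLin e = mvLin e ∘ₗ mvLin h + f x x • op i Z Co := by
    rw [hh', he]
    simp only [LinearMap.add_comp, LinearMap.comp_add, LinearMap.smul_comp, LinearMap.comp_smul, op_comp, pA, Ap,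
      CP, PC, AC, CA, CC, op_zero_right, op_smul_right, smul_zero, add_zero, LinearMap.id_comp, LinearMap.comp_id]
    module
  have hZH : Has X (op i (f x x • Z) Co) := by
    refine ⟨(e * h)⁻¹ * (h * e), X.mul_mem (X.inv_mem (X.mul_mem hex hh)) (X.mul_mem hh hex), fun y => ?_⟩
    rw [mv_mul, mv_eq_iff, inv_inv, mv_mul, mv_mul, mv_add, mv_add, op_smul_left]
    have h1 := LinearMap.congr_fun hcomm y
    simp only [LinearMap.comp_apply, LinearMap.add_apply] at h1
    rw [show mvLin h (mvLin e y) = mv h (mv e y) from rfl, show mvLin e (mvLin h y) = mv e (mv h y) from rfl] at h1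
    rw [h1]
    congr 1
    have h2 : ∀ z, mv h (op i Z Co z) = op i Z Co z := fun z => by
      have := LinearMap.congr_fun (show mvLin h ∘ₗ op i Z Co = op i Z Co by
        rw [hh']
        simp only [LinearMap.add_comp, op_comp, AC, PC, CC, op_zero_right, LinearMap.id_comp, add_zero]) z
      exact this
    have h3 : ∀ z, mv e (op i Z Co z) = op i Z Co z := fun z => by
      have := LinearMap.congr_fun (show mvLin e ∘ₗ op i Z Co = op i Z Co by
        rw [he]
        simp only [LinearMap.add_comp, LinearMap.smul_comp, op_comp, AC, CC, op_zero_right, smul_zero,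
          LinearMap.id_comp, add_zero]) z
      exact this
    rw [LinearMap.smul_apply, mv_smul, mv_smul, h2, h3]
  have hZ0 : Z = 0 := (smul_eq_zero.1 (C.nr0 hJ hX i hc0 hc hZH)).resolve_left hx
  obtain ⟨s, hs⟩ := C.skew_scalar hJ hX i hc0 hc hxc hx (N := N) (K := K) ⟨h, hh, fun y => by
    have := LinearMap.congr_fun hh' y
    rw [hZ0, op_zero_left, add_zero] at this
    simp only [LinearMap.add_apply, LinearMap.id_apply] at this ⊢
    rw [add_assoc] at this
    exact this⟩
  refine ⟨-(f x x * s), ?_⟩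
  rw [hZ, add_eq_zero_iff_eq_neg, inv_smul_eq_iff₀ hx] at hZ0
  rw [hZ0, hs]
  module

/-- A member trivial on a line and on its orthogonal modulo the line is a root element of that slot. -/
theorem qrad (i : J) {c : Fin k → F} (hc0 : c ≠ 0) (hc : f c c = 0) {g : GL (J → Fin k) F} (hg : g ∈ X)
    (hfix : ∀ u, mv g (ins i c u) = ins i c u)
    (hmid : ∀ v, f v c = 0 → ∀ u, mv g (ins i v u) - ins i v u ∈ Ln i c) :
    ∃ w, f w c = 0 ∧ g = fac i (eA C.hf c w) := by
  classical
  have hf := C.hf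
  have h2 := C.two
  obtain ⟨d, hd, hcd⟩ := C.toSl.exists_pair hc0 hc
  set M := fun v : Fin k → F => bet hf i (dev g) v d with hMdef
  have hM : ∀ v, f v c = 0 → ∀ u, mv g (ins i v u) = ins i v u + ins i c (M v u) := by
    intro v hv u
    obtain ⟨m, hm⟩ := mem_Ln_ins (hmid v hv u)
    have : M v u = m := by
      show cr i (frow f d) (dev g (ins i v u)) = m
      rw [dev_apply, ← hm, cr_ins' hf, hcd, one_smul]
    rw [this, hm, add_sub_cancel]
  have hMc : M c = 0 := LinearMap.ext fun u => by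
    show cr i (frow f d) (dev g (ins i c u)) = 0
    rw [dev_apply, hfix, sub_self, map_zero]
  set Sc : Submodule F ((Rest i k → F) →ₗ[F] Rest i k → F) := Submodule.span F {LinearMap.id}
  have hsc : ∀ x, f x c = 0 → f x x ≠ 0 → (k = 3 ∨ f x x = κ) → M x ∈ Sc := by
    intro x hxc hx hk
    rcases hk with h3 | hκ
    · obtain ⟨d', hd', hcd', hxd'⟩ := C.exists_partner_perp hc0 hc hxc hx
      obtain ⟨s, hs⟩ := C.mid_scalar hJ hX i hc0 hc hxc hx hg (fun v hvc hvx u => by
        rw [C.toSl.decomp3 hc hd' hcd' h3 hxc hxd' hx v, hvc, hvx, zero_div, zero_smul, zero_smul, add_zero,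
          add_zero, ins_smul_vec, mv_smul, hfix]) (hM x hxc)
      exact Submodule.mem_span_singleton.2 ⟨s, hs.symm⟩
    · have hm : fac i (mr hf x) ∈ X := C.mir i x hκ
      have hmm : (fac i (mr hf x))⁻¹ = fac i (mr hf x) := by rw [fac_inv, mr_inv hf hx]
      set g' := fac i (mr hf x) * g * (fac i (mr hf x))⁻¹ with hg'
      have hg'x : ∀ u, mv g' (ins i x u) = ins i x u - ins i c (M x u) := fun u => by
        rw [hg', mv_mul, mv_mul, hmm, mv_fac_ins, mr_self hf hx, hM x hxc, mv_add, mv_fac_ins, mr_self hf hx,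
          mv_fac_ins, mr_perp hf hx (show f c x = 0 by rw [hf.comm', hxc]), ← neg_one_smul F c, ins_smul_vec,
          neg_one_smul, sub_eq_add_neg]
      have hg'c : ∀ u, mv g' (ins i c u) = ins i c u := fun u => by
        rw [hg', mv_mul, mv_mul, hmm, mv_fac_ins, mr_perp hf hx (show f c x = 0 by rw [hf.comm', hxc]),
          ← neg_one_smul F c, ins_smul_vec, mv_smul, hfix, mv_smul, mv_fac_ins,
          mr_perp hf hx (show f c x = 0 by rw [hf.comm', hxc]), ← neg_one_smul F c, ins_smul_vec, smul_smul]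
        norm_num
      have hg'w : ∀ v, f v c = 0 → f v x = 0 → ∀ u, mv g' (ins i v u) = mv g (ins i v u) := fun v hvc hvx u => by
        rw [hg', mv_mul, mv_mul, hmm, mv_fac_ins, mr_perp hf hx hvx, ← neg_one_smul F v, ins_smul_vec, mv_smul,
          hM v hvc, mv_smul, mv_add, mv_fac_ins, mv_fac_ins, mr_perp hf hx hvx,
          mr_perp hf hx (show f c x = 0 by rw [hf.comm', hxc]), ← neg_one_smul F v, ← neg_one_smul F c,
          ins_smul_vec, ins_smul_vec]
        module
      have hh : g * g'⁻¹ ∈ X := X.mul_mem hg (X.inv_mem (X.mul_mem (X.mul_mem hm hg) (X.inv_mem hm)))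
      obtain ⟨s, hs⟩ := C.mid_scalar hJ hX i hc0 hc hxc hx hh (M := (2 : F) • M x) (fun v hvc hvx u => by
        rw [mv_mul]
        have e : mv g'⁻¹ (ins i v u) = ins i v u - ins i c (M v u) := by
          rw [mv_eq_iff, inv_inv, mv_sub, hg'w v hvc hvx, hg'c, hM v hvc, add_sub_cancel_right]
        rw [e, mv_sub, hM v hvc, hfix, add_sub_cancel_right]) (fun u => by
        rw [mv_mul]
        have e : mv g'⁻¹ (ins i x u) = ins i x u + ins i c (M x u) := by
          rw [mv_eq_iff, inv_inv, mv_add, hg'x, hg'c, sub_add_cancel]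
        rw [e, mv_add, hM x hxc, hfix, LinearMap.smul_apply, map_smul]
        module)
      refine Submodule.mem_span_singleton.2 ⟨s / 2, ?_⟩
      rw [div_eq_inv_mul, mul_smul, ← hs, smul_smul, inv_mul_cancel₀ h2, one_smul]
  have hall : ∀ v, f v c = 0 → M v ∈ Sc := by
    intro v hv
    by_cases h5 : 5 ≤ k
    · have := C.toSl.good_span h5 hc0 hc (Sc.mkQ ∘ₗ ((bet hf i (dev g)).flip d)) (fun x hxc hx => by
        simp only [LinearMap.comp_apply, LinearMap.flip_apply, Submodule.mkQ_apply, Submodule.Quotient.mk_eq_zero]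
        exact hsc x hxc (hx ▸ C.hκ) (Or.inr hx)) hv
      simpa only [LinearMap.comp_apply, LinearMap.flip_apply, Submodule.mkQ_apply,
        Submodule.Quotient.mk_eq_zero] using this
    · have h3 : k = 3 := by
        obtain ⟨m, hm⟩ := C.odd
        have := C.hk
        omega
      obtain ⟨x, hxc, hxd, hx⟩ := C.toSl.exists_W_aniso hc hd hcd
      rw [hMdef, C.toSl.decomp3 hc hd hcd h3 hxc hxd hx v]
      simp only [hv, zero_smul, add_zero, map_add, map_smul, LinearMap.add_apply, LinearMap.smul_apply]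
      exact Sc.add_mem (Sc.smul_mem _ (by rw [show bet hf i (dev g) c d = 0 from hMc]; exact Sc.zero_mem))
        (Sc.smul_mem _ (hsc x hxc hx (Or.inl h3)))
  obtain ⟨w₁, hw₁⟩ : ∃ w₁ : Rest i k → F, ∃ l : (Rest i k → F) →ₗ[F] F, l w₁ = 1 := by
    obtain ⟨r⟩ : Nonempty (Rest (J := J) i k) := ⟨fun _ => ⟨0, by have := C.hk; omega⟩⟩
    exact ⟨Pi.single r 1, LinearMap.proj r, by simp⟩
  obtain ⟨l, hl⟩ := hw₁
  -- the scalar of the middle part, as a linear form
  set φ : (Fin k → F) →ₗ[F] F :=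
    { toFun := fun v => l (M (v - f v c • d) w₁)
      map_add' := fun a b => by
        simp only [hMdef, hf.add_left, add_smul, map_add, map_sub, LinearMap.add_apply, LinearMap.sub_apply]
        ring
      map_smul' := fun r a => by
        simp only [hMdef, hf.smul_left, mul_smul, map_sub, map_smul, LinearMap.smul_apply, LinearMap.sub_apply,
          smul_eq_mul, RingHom.id_apply]
        ring }
  have hMφ : ∀ v, f v c = 0 → M v = φ v • LinearMap.id := fun v hv => by
    obtain ⟨s, hs⟩ := Submodule.mem_span_singleton.1 (hall v hv)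
    have : φ v = s := by
      show l (M (v - f v c • d) w₁) = s
      rw [hv, zero_smul, sub_zero, ← hs, LinearMap.smul_apply, LinearMap.id_apply, map_smul, hl, smul_eq_mul,
        mul_one]
    rw [this, hs]
  obtain ⟨w₀, hw₀⟩ : ∃ w₀, ∀ v, f v w₀ = φ v := by
    obtain ⟨w₀, hw⟩ := hf.frow_surj (fun _ => rfl) fun a => φ (Pi.single a 1)
    refine ⟨w₀, fun v => ?_⟩
    rw [← hf.frow_dot, hw, dotProduct]
    conv_rhs => rw [← Finset.univ_sum_single v, map_sum]
    refine Finset.sum_congr rfl fun a _ => ?_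
    rw [show (Pi.single a (v a) : Fin k → F) = v a • Pi.single a 1 by
      rw [← Pi.single_smul, smul_eq_mul, mul_one], map_smul, smul_eq_mul, mul_comm]
  have hw₀c : f w₀ c = 0 := by
    rw [hf.comm', hw₀]
    show l (M (c - f c c • d) w₁) = 0
    rw [hc, zero_smul, sub_zero, hMc, LinearMap.zero_apply, map_zero]
  refine ⟨-w₀, by rw [hf.neg_left, hw₀c, neg_zero], ?_⟩
  have hw₀c' : f (-w₀) c = 0 := by rw [hf.neg_left, hw₀c, neg_zero]
  have h1 := C.fix_perp hJ hX i hc0 hc (g := (fac i (eA hf c (-w₀)))⁻¹ * g)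
    (X.mul_mem (X.inv_mem (C.root i c _ hc hw₀c')) hg) (fun v hv u => by
      rw [mv_mul, mv_eq_iff, inv_inv, mv_fac_ins, eA_fix_perp hf h2 hc hw₀c' hv, hf.neg_right, hw₀,
        hM v hv, hMφ v hv, LinearMap.smul_apply, LinearMap.id_apply, map_smul, ins_sub_vec, ins_smul_vec]
      module)
  rw [inv_mul_eq_one] at h1
  exact h1.symm

end Ctx

end Cfsg.Agent.OrthWreath
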