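/-
A conjugate of a mirror of one slot moves no slot.
-/
import Cfsg.Agent.Lib.OrthWreath.Trc
import Cfsg.Agent.Lib.OrthWreath.Gen

set_option autoImplicit false
set_option linter.unusedSectionVars false

namespace Cfsg.Agent.OrthWreath

open scoped Matrix
open Matrix Cfsg.Agent.Transvec Cfsg.Agent.TensorMax Cfsg.Agent.WreathMax Cfsg.Agent.FormWreath

variable {F : Type*} [Field F] [Finite F] {k : ℕ} {J : Type} [Fintype J] [DecidableEq J]
variable {f : (Fin k → F) → (Fin k → F) → F} {κ : F}

local notation "σ₁" => RingEquiv.refl F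

theorem pten_upd_apply (z : J → Fin k → F) (i : J) (u : Fin k → F) (m : J → Fin k) :
    pten (Function.update z i u) m = u (m i) * ∏ j ∈ Finset.univ.erase i, z j (m j) := by
  rw [pten, ← Finset.mul_prod_erase _ _ (Finset.mem_univ i), Function.update_self]
  congr 1
  exact Finset.prod_congr rfl fun j hj => by rw [Function.update_of_ne (Finset.ne_of_mem_erase hj)]

theorem pten_update_congr {z z' : J → Fin k → F} {i : J} {v : Fin k → F} (hv : v ≠ 0) {c : F}
    (h : pten (Function.update z i v) = c • pten (Function.update z' i v)) (w : Fin k → F) :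
    pten (Function.update z i w) = c • pten (Function.update z' i w) := by
  obtain ⟨p, hp⟩ := Function.ne_iff.1 hv
  funext m
  have h1 := congrFun h (Function.update m i p)
  have e : ∀ z : J → Fin k → F, ∏ j ∈ Finset.univ.erase i, z j (Function.update m i p j) =
      ∏ j ∈ Finset.univ.erase i, z j (m j) := fun z =>
    Finset.prod_congr rfl fun j hj => by rw [Function.update_of_ne (Finset.ne_of_mem_erase hj)]
  rw [Pi.smul_apply, smul_eq_mul, pten_upd_apply, pten_upd_apply, Function.update_self, e, e] at h1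
  rw [Pi.smul_apply, smul_eq_mul, pten_upd_apply, pten_upd_apply]
  have h2 := mul_left_cancel₀ hp (h1.trans (mul_left_comm _ _ _))
  rw [h2]
  ring

theorem slot_scalar (hk : 0 < k) {z z' : J → Fin k → F} {i : J} (hz : ∀ j, j ≠ i → z j ≠ 0)
    {M : (Fin k → F) → Fin k → F}
    (h : ∀ v, pten (Function.update z' i (M v)) = pten (Function.update z i v)) :
    ∃ μ : F, μ ≠ 0 ∧ ∀ v, M v = μ • v := by
  classical
  haveI : NeZero k := ⟨by omega⟩
  have hz' : ∀ j, ∃ p : Fin k, j ≠ i → z j p ≠ 0 := fun j => by
    by_cases hj : j = i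
    · exact ⟨0, fun hne => absurd hj hne⟩
    · obtain ⟨p, hp⟩ := Function.ne_iff.1 (hz j hj)
      exact ⟨p, fun _ => hp⟩
  choose m hm using hz'
  set C := ∏ j ∈ Finset.univ.erase i, z j (m j) with hC
  set C' := ∏ j ∈ Finset.univ.erase i, z' j (m j) with hC'
  have hC0 : C ≠ 0 := Finset.prod_ne_zero_iff.2 fun j hj => hm j (Finset.ne_of_mem_erase hj)
  have key : ∀ (v : Fin k → F) p, M v p * C' = v p * C := fun v p => by
    have h1 := congrFun (h v) (Function.update m i p)
    have e : ∀ z : J → Fin k → F, ∏ j ∈ Finset.univ.erase i, z j (Function.update m i p j) =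
        ∏ j ∈ Finset.univ.erase i, z j (m j) := fun z =>
      Finset.prod_congr rfl fun j hj => by rw [Function.update_of_ne (Finset.ne_of_mem_erase hj)]
    rwa [pten_upd_apply, pten_upd_apply, Function.update_self, e, e] at h1
  have hC1 : C' ≠ 0 := fun h0 => by
    have := key (Pi.single 0 1) 0
    rw [h0, mul_zero, Pi.single_eq_same, one_mul] at this
    exact hC0 this.symm
  exact ⟨C / C', div_ne_zero hC0 hC1, fun v => funext fun p => by
    rw [Pi.smul_apply, smul_eq_mul, div_mul_eq_mul_div, eq_div_iff hC1, key, mul_comm]⟩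

theorem mono_apply_single {g : GL (J → Fin k) F} {σ : Equiv.Perm J} {A : J → GL (Fin k) F}
    (hA : ∀ x, mv g (pten x) = pten fun j => mv (A j) (x (σ j))) (d : J → Fin k) :
    mv g (Pi.single d 1) = pten fun j => mv (A j) (Pi.single (d (σ j)) 1) := by
  rw [← pten_single d, hA]

namespace Sl

variable (S : Sl f κ)
include S

set_option maxHeartbeats 1000000 in
/-- A monomial involution with a small fixed space that moves a slot: three dimensions and two slots. -/
theorem trc_swap {h : GL (J → Fin k) F} (hiso : ∀ x y, Bt σ₁ f (mv h x) (mv h y) = Bt σ₁ f x y) (h1 : h * h = 1)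
    {π : Equiv.Perm J} (hπ : MonoOf π h) (hne : π ≠ 1) (hs : Small h) :
    k = 3 ∧ ∃ (a b : J) (A : GL (Fin k) F), a ≠ b ∧ (∀ u v, f (mv A u) (mv A v) = f u v) ∧
      ∀ y, mv h (pten y) = -pten (Function.update (Function.update y a (mv A (y b))) b (mv A⁻¹ (y a))) := by
  classical
  have hk := S.hk
  have hf := S.hf
  haveI : NeZero k := ⟨by omega⟩
  obtain ⟨a, ha⟩ : ∃ a, π a ≠ a := by
    by_contra hcon
    push Not at hcon
    exact hne (Equiv.ext hcon)
  haveI : Nonempty J := ⟨a⟩
  set b := π a with hb
  have hπ2 : π * π = 1 := perm_of_monoOf (by omega) (h1 ▸ hπ.mul hπ) monoOf_one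
  have hπb : π b = a := by rw [hb]; exact Equiv.congr_fun hπ2 a
  obtain ⟨A, hA⟩ := hπ
  obtain ⟨μ, hμ, hμA⟩ : ∃ μ : F, μ ≠ 0 ∧ ∀ v, mv (A b) (mv (A a) v) = μ • v := by
    refine slot_scalar (z := fun _ => Pi.single 0 1) (z' := fun j => mv (A j) (mv (A (π j)) (Pi.single 0 1)))
      (i := b) (by omega) (fun j _ => Pi.single_ne_zero_iff.2 one_ne_zero) fun v => ?_
    have h0 : mv (h * h) (pten (Function.update (fun _ => Pi.single 0 1) b v)) =
        pten (Function.update (fun _ => Pi.single 0 1) b v) := by rw [h1, mv_one]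
    rw [mv_mul, hA, hA] at h0
    rw [← h0]
    refine congrArg pten (funext fun j => ?_)
    have hjj : π (π j) = j := Equiv.congr_fun hπ2 j
    by_cases hj : j = b
    · subst hj
      rw [Function.update_self, hjj, Function.update_self, hπb]
    · rw [Function.update_of_ne hj, hjj, Function.update_of_ne hj]
  set G := fac (J := J) a (A a)⁻¹ with hG
  set h' := G * h * G⁻¹ with hh'
  set Y : (J → Fin k → F) → J → Fin k → F := fun y j =>
    if j = a then y b else if j = b then μ • y a else mv (A j) (y (π j)) with hY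
  have hh : ∀ y, mv h' (pten y) = pten (Y y) := fun y => by
    rw [hh', mv_mul, mv_mul, hG, fac_inv, inv_inv, mv_fac, hA, mv_fac]
    refine congrArg pten (funext fun j => ?_)
    by_cases hja : j = a
    · subst hja
      rw [Function.update_self, ← hb, Function.update_of_ne ha, mv_inv_mv]
      simp [hY]
    · rw [Function.update_of_ne hja]
      by_cases hjb : j = b
      · subst hjb
        rw [hπb, Function.update_self, hμA]
        simp [hY, ha]
      · have : π j ≠ a := fun e => hjb (by
          have h2 := Equiv.congr_fun hπ2 j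
          rw [Equiv.Perm.mul_apply, e, ← hb] at h2
          exact h2.symm)
        rw [Function.update_of_ne this]
        simp [hY, hja, hjb]
  have h1' : h' * h' = 1 := by
    rw [hh', show G * h * G⁻¹ * (G * h * G⁻¹) = G * (h * h) * G⁻¹ by group, h1, mul_one, mul_inv_cancel]
  set H := (h' : Matrix (J → Fin k) (J → Fin k) F) with hH
  have hcol : ∀ d m, H m d = pten (Y fun j => Pi.single (d j) 1) m := fun d m => by
    exact (congrFun (Matrix.mulVec_single_one H d) m).symm.trans
      ((congrFun (congrArg (mv h') (pten_single d)).symm m).trans (congrFun (hh _) m))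
  have hsupp : ∀ d m, H m d ≠ 0 → m a = d b ∧ m b = d a := by
    intro d m hne0
    rw [hcol, pten] at hne0
    have h2 := Finset.prod_ne_zero_iff.1 hne0
    constructor
    · have := h2 a (Finset.mem_univ a)
      simp only [hY, if_pos] at this
      by_contra e
      exact this (Pi.single_eq_of_ne e _)
    · have := h2 b (Finset.mem_univ b)
      simp only [hY, if_neg ha, if_pos, Pi.smul_apply, smul_eq_mul] at this
      by_contra e
      exact this (by rw [Pi.single_eq_of_ne e, mul_zero])
  set P := Finset.univ.filter fun d : J → Fin k => d a < d b with hP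
  let ext : (P → F) →ₗ[F] (J → Fin k) → F :=
    { toFun := fun c m => if hm : m ∈ P then c ⟨m, hm⟩ else 0
      map_add' := fun c c' => funext fun m => by
        simp only [Pi.add_apply]
        split <;> simp
      map_smul' := fun r c => funext fun m => by
        simp only [Pi.smul_apply, RingHom.id_apply]
        split <;> simp }
  let Φ : (P → F) →ₗ[F] fixsp h' :=
    LinearMap.codRestrict (fixsp h') (ext + (mvLin h').comp ext) fun c => mem_fixsp.2 (by
      show mv h' (ext c + mv h' (ext c)) = ext c + mv h' (ext c)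
      rw [mv_add, ← mv_mul, h1', mv_one, add_comm])
  have hΦ : ∀ c (m : J → Fin k) (hm : m ∈ P), ((Φ c : fixsp h') : (J → Fin k) → F) m = c ⟨m, hm⟩ := by
    intro c m hm
    show ext c m + (H *ᵥ ext c) m = _
    rw [Matrix.mulVec, dotProduct, Finset.sum_eq_zero fun d _ => ?_, add_zero]
    · exact dif_pos hm
    · by_cases hd : d ∈ P
      · rw [mul_eq_zero]
        left
        by_contra e
        obtain ⟨e1, e2⟩ := hsupp d m e
        have hm' := (Finset.mem_filter.1 hm).2
        have hd' := (Finset.mem_filter.1 hd).2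
        rw [e1, e2] at hm'
        exact lt_asymm hm' hd'
      · rw [show ext c d = 0 from dif_neg hd, mul_zero]
  have hinj : Function.Injective Φ := fun c c' e => funext fun ⟨m, hm⟩ => by
    rw [← hΦ c m hm, e, hΦ c' m hm]
  set E := Finset.univ.filter fun d : J → Fin k => d a = d b with hE
  have hcE : E.card * k = k ^ Fintype.card J := by
    have e : {d : J → Fin k // d ∈ E} × Fin k ≃ (J → Fin k) :=
      { toFun := fun q => Function.update q.1.1 a q.2
        invFun := fun d => (⟨Function.update d a (d b), Finset.mem_filter.2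
          ⟨Finset.mem_univ _, by rw [Function.update_self, Function.update_of_ne ha]⟩⟩, d a)
        left_inv := fun q => by
          obtain ⟨⟨d, hd⟩, p⟩ := q
          refine Prod.ext (Subtype.ext ?_) (by simp)
          simp only [Function.update_idem, Function.update_of_ne ha]
          rw [← (Finset.mem_filter.1 hd).2, Function.update_eq_self]
        right_inv := fun d => by simp }
    simpa using Fintype.card_congr e
  have hcP : 2 * P.card + E.card = k ^ Fintype.card J := by
    have hgt : (Finset.univ.filter fun d : J → Fin k => d b < d a).card = P.card := by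
      refine Finset.card_nbij' (fun d => d ∘ Equiv.swap a b) (fun d => d ∘ Equiv.swap a b) ?_ ?_ ?_ ?_ <;>
        intro d hd
      · rw [Finset.mem_coe, Finset.mem_filter] at hd ⊢
        exact ⟨Finset.mem_univ _, by simpa using hd.2⟩
      · rw [Finset.mem_coe, Finset.mem_filter] at hd ⊢
        exact ⟨Finset.mem_univ _, by simpa using hd.2⟩
      · funext j; simp
      · funext j; simp
    have e0 : (J → Fin k) → ℕ := fun d =>
      (if d a < d b then 1 else 0) + (if d a = d b then 1 else 0) + (if d b < d a then 1 else 0)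
    have e1 : ∑ d : J → Fin k, ((if d a < d b then 1 else 0) + (if d a = d b then 1 else 0) +
        (if d b < d a then 1 else 0)) = ∑ _d : J → Fin k, (1 : ℕ) := Finset.sum_congr rfl fun d _ => by
      rcases lt_trichotomy (d a) (d b) with e | e | e
      · simp [e, e.ne, lt_asymm e]
      · simp [e]
      · simp [e, e.ne', lt_asymm e]
    rw [Finset.sum_add_distrib, Finset.sum_add_distrib, Finset.sum_boole, Finset.sum_boole, Finset.sum_boole,
      Finset.sum_const, Finset.card_univ, Fintype.card_fun, Fintype.card_fin, smul_eq_mul, mul_one] at e1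
    simp only [Nat.cast_id] at e1
    rw [hgt, ← hP, ← hE] at e1
    omega
  have hfix : Module.finrank F (fixsp h') * k = k ^ Fintype.card J := by
    rw [hh', finrank_fixsp_conj]; exact hs
  have hle : P.card ≤ Module.finrank F (fixsp h') := by
    have := LinearMap.finrank_le_finrank_of_injective hinj
    rwa [Module.finrank_fintype_fun_eq_card, Fintype.card_coe] at this
  have hk3 : k = 3 := by
    by_contra hk3
    have hN : 0 < k ^ Fintype.card J := pow_pos (by omega) _
    have h4 : 4 * k ^ Fintype.card J ≤ k * k ^ Fintype.card J := Nat.mul_le_mul_right _ (by omega)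
    have h5 : 2 * (P.card * k) + E.card * k = k * k ^ Fintype.card J := by rw [← hcP]; ring
    nlinarith [Nat.mul_le_mul_right k hle]
  refine ⟨hk3, ?_⟩
  have hPE : P.card = Module.finrank F (fixsp h') := by
    have := hk3
    nlinarith
  have hsurj : Function.Surjective Φ :=
    (LinearMap.injective_iff_surjective_of_finrank_eq_finrank (by
      rw [Module.finrank_fintype_fun_eq_card, Fintype.card_coe, hPE])).1 hinj
  have heq : ∀ d : J → Fin k, d a = d b → mv h' (Pi.single d 1) = -Pi.single d 1 := by
    intro d hd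
    obtain ⟨c, hc⟩ := hsurj ⟨Pi.single d 1 + mv h' (Pi.single d 1), mem_fixsp.2 (by
      rw [mv_add, ← mv_mul, h1', mv_one, add_comm])⟩
    have hc0 : c = 0 := funext fun ⟨m, hm⟩ => by
      rw [← hΦ c m hm, hc]
      have hm' := (Finset.mem_filter.1 hm).2
      show (Pi.single d (1 : F) : (J → Fin k) → F) m + (H *ᵥ Pi.single d 1) m = 0
      rw [Matrix.mulVec_single_one, Pi.single_eq_of_ne (by rintro rfl; exact hm'.ne hd), zero_add]
      by_contra e
      obtain ⟨e1, e2⟩ := hsupp d m e
      rw [e1, e2, hd] at hm'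
      exact lt_irrefl _ hm'
    rw [hc0, map_zero] at hc
    have := congrArg Subtype.val hc
    exact eq_neg_of_add_eq_zero_right this.symm
  have hall : mvLin h' = -LinearMap.funLeft F F (fun m : J → Fin k => m ∘ Equiv.swap a b) := eq_of_single fun d => by
    show mv h' (Pi.single d 1) = -((Pi.single d (1 : F) : (J → Fin k) → F) ∘ fun m => m ∘ Equiv.swap a b)
    set d' := Function.update d a (d b) with hd'
    have hd'a : d' a = d' b := by rw [hd', Function.update_self, Function.update_of_ne ha]
    set S' : J → Fin k → F := fun j => Pi.single (d' j) 1 with hS'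
    set Yd := Y fun j => Pi.single (d j) 1 with hYd
    have e1 : mv h' (Pi.single d' 1) = μ • pten (Function.update Yd b (Pi.single (d b) 1)) := by
      rw [← pten_single, hh, ← updL_apply, ← map_smul, updL_apply]
      refine congrArg pten (funext fun j => ?_)
      by_cases hja : j = a
      · subst hja
        rw [Function.update_of_ne (Ne.symm ha)]
        simp [hYd, hY, hd', Function.update_of_ne ha]
      by_cases hjb : j = b
      · subst hjb
        rw [Function.update_self]
        simp [hY, ha, hd']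
      · have : π j ≠ a := fun e => hjb (by
          have h2 := Equiv.congr_fun hπ2 j
          rw [Equiv.Perm.mul_apply, e, ← hb] at h2
          exact h2.symm)
        rw [Function.update_of_ne hjb]
        simp [hYd, hY, hja, hjb, hd', Function.update_of_ne this]
    have e2 : (Pi.single d' (1 : F) : (J → Fin k) → F) = pten (Function.update S' b (Pi.single (d b) 1)) := by
      rw [← pten_single, Function.update_eq_iff.2 ⟨?_, fun _ _ => rfl⟩]
      simp [hS', hd', Function.update_of_ne ha]
    have e3 : pten (Function.update Yd b (Pi.single (d b) (1 : F))) =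
        (-μ⁻¹) • pten (Function.update S' b (Pi.single (d b) 1)) := by
      have h0 := heq d' hd'a
      rw [e1, e2] at h0
      have := congrArg (fun v => μ⁻¹ • v) h0
      simpa [smul_smul, inv_mul_cancel₀ hμ] using this
    have e4 := pten_update_congr (Pi.single_ne_zero_iff.2 one_ne_zero) e3 (μ • Pi.single (d a) 1)
    have e5 : Function.update Yd b (μ • Pi.single (d a) (1 : F)) = Yd :=
      Function.update_eq_iff.2 ⟨by simp [hYd, hY, ha], fun _ _ => rfl⟩
    have e7 := hh fun j => Pi.single (d j) (1 : F)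
    rw [pten_single, ← hYd] at e7
    rw [e5, ← updL_apply (v := μ • _), map_smul, updL_apply, smul_smul, neg_mul, inv_mul_cancel₀ hμ,
      neg_one_smul] at e4
    rw [e7, e4]
    congr 1
    have e6 : Function.update S' b (Pi.single (d a) (1 : F)) = fun j => Pi.single ((d ∘ Equiv.swap a b) j) 1 :=
      funext fun j => by
        by_cases hja : j = a
        · subst hja; simp [hS', hd', Function.update_of_ne (Ne.symm ha)]
        by_cases hjb : j = b
        · subst hjb; simp
        · simp [Function.update_of_ne hjb, hS', hd', Function.update_of_ne hja,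
            Equiv.swap_apply_of_ne_of_ne hja hjb]
    rw [e6, pten_single]
    funext m
    by_cases hm : m = d ∘ Equiv.swap a b
    · subst hm
      simp [Function.comp_def]
    · rw [Pi.single_eq_of_ne hm, Function.comp_apply, Pi.single_eq_of_ne fun e => hm (by
        rw [← e]; funext j; simp)]
  have hswap : ∀ y, mv h' (pten y) = -pten (Function.update (Function.update y a (y b)) b (y a)) := fun y => by
    rw [show mv h' (pten y) = mvLin h' (pten y) from rfl, hall]
    funext m
    simp only [LinearMap.neg_apply, Pi.neg_apply, LinearMap.funLeft_apply, pten, neg_inj]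
    refine Fintype.prod_equiv (Equiv.swap a b) _ _ fun j => ?_
    by_cases hja : j = a
    · subst hja; simp
    by_cases hjb : j = b
    · subst hjb; simp [ha.symm]
    · simp [Equiv.swap_apply_of_ne_of_ne hja hjb, Function.update_of_ne hja, Function.update_of_ne hjb]
  have hform : ∀ y, mv h (pten y) =
      -pten (Function.update (Function.update y a (mv (A a) (y b))) b (mv (A a)⁻¹ (y a))) := fun y => by
    rw [show h = G⁻¹ * h' * G by rw [hh']; group, mv_mul, mv_mul, hG, mv_fac, hswap, mv_neg, fac_inv, inv_inv,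
      mv_fac]
    congr 2
    funext j
    by_cases hja : j = a
    · subst hja; simp [ha, Function.update_of_ne (Ne.symm ha)]
    by_cases hjb : j = b
    · subst hjb; simp [ha]
    · simp [Function.update_of_ne hja, Function.update_of_ne hjb]
  obtain ⟨l, hl, hlA⟩ := S.slot_sim hiso hA a
  obtain ⟨-, ν, hν, hlν⟩ := S.mult_sq hl hlA
  have hdet : (ν⁻¹ • (A a : Matrix (Fin k) (Fin k) F)).det ≠ 0 := by
    rw [Matrix.det_smul]
    exact mul_ne_zero (pow_ne_zero _ (inv_ne_zero hν))
      (isUnit_iff_ne_zero.1 ((Matrix.isUnit_iff_isUnit_det _).1 (A a).isUnit))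
  set A' : GL (Fin k) F := Matrix.GeneralLinearGroup.mkOfDetNeZero _ hdet with hA'
  have hv : ∀ v, mv A' v = ν⁻¹ • mv (A a) v := fun v => by
    show ((A' : GL (Fin k) F) : Matrix (Fin k) (Fin k) F) *ᵥ v = _
    rw [hA', Matrix.GeneralLinearGroup.val_mkOfDetNeZero, Matrix.smul_mulVec]
  have hv' : ∀ v, mv A'⁻¹ v = ν • mv (A a)⁻¹ v := fun v => by
    refine mv_inj A' ?_
    rw [mv_mv_inv, hv, mv_smul, mv_mv_inv, smul_smul, inv_mul_cancel₀ hν, one_smul]
  refine ⟨a, b, A', Ne.symm ha, fun u v => ?_, fun y => ?_⟩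
  · rw [hv, hv, hf.smul_left, hf.smul_right', hlA, hlν]
    field_simp
  · rw [hform, hv, hv', ← updL_apply (l := b) (v := ν • _), map_smul, updL_apply]
    rw [Function.update_comm (Ne.symm ha), ← updL_apply (l := a), Function.update_comm (Ne.symm ha) (ν⁻¹ • _),
      ← updL_apply (l := a) (v := ν⁻¹ • _), map_smul, smul_smul, mul_inv_cancel₀ hν, one_smul]

/-- A unipotent isometry of three dimensions fixing an anisotropic vector is trivial. -/
theorem unipotent_one (h3 : k = 3) {T : GL (Fin k) F} (hT : ∀ u v, f (mv T u) (mv T v) = f u v)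
    {x : Fin k → F} (hx : f x x ≠ 0) (hTx : mv T x = x) {n : ℕ} (hn : ∀ v, (dev T)^[n] v = 0) : T = 1 := by
  have hf := S.hf
  by_contra hT1
  obtain ⟨z, hz⟩ : ∃ z, dev T z ≠ 0 := by
    by_contra hcon
    push Not at hcon
    exact hT1 (ext_mv fun v => by rw [mv_one]; have := hcon v; rwa [dev_apply, sub_eq_zero] at this)
  classical
  have hex : ∃ r, (dev T)^[r] (dev T z) = 0 := ⟨n, hn _⟩
  obtain ⟨v', hv1, hv2⟩ : ∃ v', dev T v' ≠ 0 ∧ dev T (dev T v') = 0 := by
    obtain ⟨r, hr⟩ : ∃ r, Nat.find hex = r + 1 := ⟨Nat.find hex - 1, by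
      have : Nat.find hex ≠ 0 := fun e => hz (by
        have h5 := Nat.find_spec hex
        rw [e] at h5
        exact h5)
      omega⟩
    have hlt := Nat.find_min hex (show r < Nat.find hex by omega)
    have hsp := Nat.find_spec hex
    rw [hr, Function.iterate_succ_apply'] at hsp
    rw [← Function.iterate_succ_apply, Function.iterate_succ_apply'] at hlt hsp
    exact ⟨_, hlt, hsp⟩
  set v := v' - (f v' x / f x x) • x with hv
  set w := dev T v' with hw
  have hTv : mv T v = v + w := by
    rw [hv, hw, mv_sub, mv_smul, hTx, dev_apply]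
    abel
  have hTw : mv T w = w := by rw [dev_apply, sub_eq_zero] at hv2; exact hv2
  have hvx : f v x = 0 := by rw [hv, hf.sub_left, hf.smul_left, div_mul_cancel₀ _ hx, sub_self]
  have hwx : f w x = 0 := by
    have := hT v x
    rw [hTv, hTx, hf.add_left] at this
    linear_combination this
  have hww : f w w = 0 := by
    have := hT v w
    rw [hTv, hTw, hf.add_left] at this
    linear_combination this
  have hwv : f w v = 0 := by
    have := hT v v
    rw [hTv, hf.add_left, hf.add_right, hf.add_right, hww, hf.comm' v w] at this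
    exact mul_left_cancel₀ S.two (by linear_combination this)
  have hli : LinearIndependent F ![x, v, w] := by
    rw [Fintype.linearIndependent_iff]
    intro c hc
    simp only [Fin.sum_univ_three, Matrix.cons_val_zero, Matrix.cons_val_one, Matrix.head_cons,
      Matrix.cons_val_two, Matrix.tail_cons] at hc
    have e0 : c 0 = 0 := by
      have := congrArg (fun u => f u x) hc
      simp only [hf.add_left, hf.smul_left, hvx, hwx, hf.zero_left] at this
      exact (mul_eq_zero.1 (by linear_combination this)).resolve_right hx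
    have e1 : c 1 = 0 := by
      have := congrArg (mv T) hc
      simp only [mv_add, mv_smul, hTx, hTv, hTw, mv_zero] at this
      refine (smul_eq_zero.1 (?_ : c 1 • w = 0)).resolve_right hv1
      linear_combination (norm := module) this - hc
    have e2 : c 2 = 0 := by
      rw [e0, e1, zero_smul, zero_smul, zero_add, zero_add] at hc
      exact (smul_eq_zero.1 hc).resolve_right hv1
    intro i
    fin_cases i <;> assumption
  have hspan := hli.span_eq_top_of_card_eq_finrank (by
    rw [Module.finrank_fintype_fun_eq_card, Fintype.card_fin, Fintype.card_fin, h3])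
  refine hv1 (hf.nondeg w fun y => ?_)
  have hy : y ∈ Submodule.span F (Set.range ![x, v, w]) := by rw [hspan]; exact Submodule.mem_top
  induction hy using Submodule.span_induction with
  | mem y hy =>
    obtain ⟨i, rfl⟩ := hy
    fin_cases i <;> assumption
  | zero => exact hf.zero_right _
  | add u w' _ _ hu hw' => rw [hf.add_right, hu, hw', add_zero]
  | smul r u _ hu => rw [hf.smul_right', hu, mul_zero]

end Sl

theorem mono_fixed_commute {D : GL (J → Fin k) F} {π : Equiv.Perm J} {A : J → GL (Fin k) F}
    (hA : ∀ y, mv D (pten y) = pten fun j => mv (A j) (y (π j))) {i : J} (hi : π i = i) {τ : F}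
    (hτ : ∀ v, mv (A i) v = τ • v) (T : (Fin k → F) →ₗ[F] Fin k → F) (z : (J → Fin k) → F) :
    mv D (op i LinearMap.id T z) = op i LinearMap.id T (mv D z) := by
  have hop : ∀ y : J → Fin k → F, op i LinearMap.id T (pten y) = pten (Function.update y i (T (y i))) := fun y => by
    have e1 : pten y = ins i (y i) (pten fun j : {j // j ≠ i} => y j) := by
      rw [ins_pten]
      refine congrArg pten (funext fun j => ?_)
      split <;> simp_all
    conv_lhs => rw [e1]
    rw [op_ins, LinearMap.id_apply, ins_pten]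
    refine congrArg pten (funext fun j => ?_)
    by_cases hj : j = i
    · subst hj; simp
    · simp [hj]
  have e : (mvLin D).comp (op i LinearMap.id T) = (op i LinearMap.id T).comp (mvLin D) := eq_of_pten fun y => by
    show mv D (op i LinearMap.id T (pten y)) = op i LinearMap.id T (mv D (pten y))
    rw [hop, hA, hA, hop]
    refine congrArg pten (funext fun j => ?_)
    by_cases hj : j = i
    · subst hj
      simp only [hi, Function.update_self, hτ, map_smul]
    · have : π j ≠ i := fun e => hj (π.injective (e.trans hi.symm))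
      simp only [Function.update_of_ne this, Function.update_of_ne hj]
  exact LinearMap.congr_fun e z

variable {Q : ((J → Fin k) → F) → F}

namespace Base

variable (B : Base f Q κ)
include B

/-- Three dimensions: a monomial isometry of odd order commuting with a mirror is scalar at its slot. -/
theorem slot_fixed (h3 : k = 3) {i : J} {x : Fin k → F} (hx : f x x ≠ 0) {D : GL (J → Fin k) F}
    (hD : D ∈ isometryGroup F Q) (hmono : Mono D) (hc : D * fac i (mr B.hf x) = fac i (mr B.hf x) * D)
    (p : ℕ) [CharP F p] [Fact p.Prime] (hp : D ^ p = 1) (T : (Fin k → F) →ₗ[F] Fin k → F)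
    (z : (J → Fin k) → F) : mv D (op i LinearMap.id T z) = op i LinearMap.id T (mv D z) := by
  classical
  have hf := B.hf
  haveI : NeZero k := ⟨by omega⟩
  have hx0 : x ≠ 0 := fun e => hx (by rw [e, hf.zero_left])
  obtain ⟨π, A, hA⟩ := hmono
  haveI : Nonempty J := ⟨i⟩
  have hfx : fixsp (fac i (mr hf x)) = Ln i x := fixsp_mir B.toSl i hx
  have hmap : (Ln i x).map (mvLin D) = Ln i x := by
    rw [← hfx, ← fixsp_conj, hc, mul_inv_cancel_right]
  have hAx : ∀ v : Fin k → F, v ≠ 0 → mv (A (π⁻¹ i)) v ≠ 0 := fun v hv h0 =>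
    hv (mv_inj _ (h0.trans (mv_zero _).symm))
  have hmL := monoOf_map_Ln (by omega) hA i hx0
  rw [hmap] at hmL
  have hi' := Ln_type_unique (by omega) hx0 (hAx x hx0) hmL
  have hi : π i = i := by
    have := congrArg π hi'
    rwa [Equiv.Perm.coe_inv, Equiv.apply_symm_apply] at this
  obtain ⟨τ, hτx⟩ : ∃ τ : F, mv (A i) x = τ • x := by
    rw [← hi'] at hmL
    obtain ⟨φ, hφ⟩ := Function.ne_iff.1 hx0
    refine ⟨mv (A i) x φ / x φ, funext fun q => ?_⟩
    set y := mv (A i) x
    have hm : ins i y (pten fun _ : {j // j ≠ i} => Pi.single 0 (1 : F)) ∈ Ln i x := hmL ▸ ins_mem i y _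
    have h0 := cr_Ln (φ := Pi.single q (x φ) - Pi.single φ (x q)) (by
      rw [sub_dotProduct, single_dotProduct, single_dotProduct]; ring) hm
    rw [cr_ins, smul_eq_zero] at h0
    have h1 := h0.resolve_right (pten_ne_zero fun _ => Pi.single_ne_zero_iff.2 one_ne_zero)
    rw [sub_dotProduct, single_dotProduct, single_dotProduct, sub_eq_zero] at h1
    rw [Pi.smul_apply, smul_eq_mul, div_mul_eq_mul_div, eq_div_iff hφ]
    linear_combination h1
  have hτ : τ ≠ 0 := fun e => hx0 (mv_inj (A i) (by rw [hτx, e, zero_smul, mv_zero]))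
  have hdet : (τ⁻¹ • (A i : Matrix (Fin k) (Fin k) F)).det ≠ 0 := by
    rw [Matrix.det_smul]
    exact mul_ne_zero (pow_ne_zero _ (inv_ne_zero hτ))
      (isUnit_iff_ne_zero.1 ((Matrix.isUnit_iff_isUnit_det _).1 (A i).isUnit))
  set T1 : GL (Fin k) F := Matrix.GeneralLinearGroup.mkOfDetNeZero _ hdet with hT1
  have hv1 : ∀ v, mv T1 v = τ⁻¹ • mv (A i) v := fun v => by
    show ((T1 : GL (Fin k) F) : Matrix (Fin k) (Fin k) F) *ᵥ v = _
    rw [hT1, Matrix.GeneralLinearGroup.val_mkOfDetNeZero, Matrix.smul_mulVec]
  have hT1x : mv T1 x = x := by rw [hv1, hτx, smul_smul, inv_mul_cancel₀ hτ, one_smul]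
  have hT1f : ∀ u v, f (mv T1 u) (mv T1 v) = f u v := by
    obtain ⟨l, -, hl⟩ := B.toSl.slot_sim (fun u v => by
      rw [← B.hpol, ← B.hpol, Transvec.Orth.pol_mv B.hQ hD]) hA i
    have h1 : ∀ u v, f (mv T1 u) (mv T1 v) = τ⁻¹ * τ⁻¹ * l * f u v := fun u v => by
      rw [hv1, hv1, hf.smul_left, hf.smul_right', hl]; ring
    have h2 := h1 x x
    rw [hT1x] at h2
    have h3' : τ⁻¹ * τ⁻¹ * l = 1 := mul_right_cancel₀ hx (by linear_combination -h2)
    intro u v
    rw [h1, h3', one_mul]
  have hpow : T1 ^ p = 1 := by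
    have key : ∀ n : ℕ, ∃ z' : J → Fin k → F, ∀ v, mv (D ^ n) (pten (Function.update (fun _ => Pi.single 0 1) i v)) =
        τ ^ n • pten (Function.update z' i (mv (T1 ^ n) v)) := by
      intro n
      induction n with
      | zero => exact ⟨fun _ => Pi.single 0 1, fun v => by rw [pow_zero, pow_zero, pow_zero, mv_one, mv_one, one_smul]⟩
      | succ n ih =>
        obtain ⟨z', hz'⟩ := ih
        refine ⟨fun j => mv (A j) (z' (π j)), fun v => ?_⟩
        rw [pow_succ', mv_mul, hz', mv_smul, hA, pow_succ, mul_smul]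
        congr 1
        rw [← updL_apply, ← map_smul, updL_apply, pow_succ', mv_mul, hv1, smul_smul, mul_inv_cancel₀ hτ, one_smul]
        refine congrArg pten (funext fun j => ?_)
        by_cases hj : j = i
        · subst hj; rw [hi, Function.update_self, Function.update_self]
        · have : π j ≠ i := fun e => hj (π.injective (e.trans hi.symm))
          rw [Function.update_of_ne this, Function.update_of_ne hj]
    obtain ⟨z', hz'⟩ := key p
    obtain ⟨μ, -, hμ⟩ := slot_scalar (z := fun _ => Pi.single 0 (1 : F)) (z' := z') (i := i)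
      (M := fun v => τ ^ p • mv (T1 ^ p) v) (by omega) (fun _ _ => Pi.single_ne_zero_iff.2 one_ne_zero) fun v => by
        show pten (Function.update z' i (τ ^ p • mv (T1 ^ p) v)) = _
        rw [← updL_apply, map_smul, updL_apply, ← hz', hp, mv_one]
    have hfix : ∀ n : ℕ, mv (T1 ^ n) x = x := fun n => by
      induction n with
      | zero => rw [pow_zero, mv_one]
      | succ n ih => rw [pow_succ, mv_mul, hT1x, ih]
    have hμx : τ ^ p • x = μ • x := by have := hμ x; rwa [hfix] at this
    have hμτ := smul_left_injective F hx0 hμx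
    refine ext_mv fun v => smul_right_injective _ (pow_ne_zero p hτ) ?_
    show τ ^ p • mv (T1 ^ p) v = τ ^ p • mv 1 v
    rw [hμ v, ← hμτ, mv_one]
  have hT11 : T1 = 1 := by
    refine B.toSl.unipotent_one h3 hT1f hx hT1x (n := p) fun v => ?_
    haveI : Nonempty (Fin k) := ⟨0⟩
    set M := (T1 : Matrix (Fin k) (Fin k) F) with hM
    have hd : ∀ n : ℕ, (dev T1)^[n] v = ((M - 1) ^ n) *ᵥ v := fun n => by
      induction n with
      | zero => simp
      | succ n ih =>
        rw [Function.iterate_succ_apply', ih, pow_succ', ← Matrix.mulVec_mulVec, dev_apply, Matrix.sub_mulVec,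
          Matrix.one_mulVec]
    rw [hd, sub_pow_char_of_commute p (Commute.one_right M), one_pow, hM,
      show (T1 : Matrix (Fin k) (Fin k) F) ^ p = 1 by rw [← Units.val_pow_eq_pow_val, hpow]; rfl, sub_self,
      Matrix.zero_mulVec]
  have hAi : ∀ v, mv (A i) v = τ • v := fun v => by
    have := hv1 v
    rw [hT11, mv_one] at this
    exact ((inv_smul_eq_iff₀ hτ).1 this.symm)
  exact mono_fixed_commute hA hi hAi T z

set_option maxHeartbeats 1600000 in
/-- A monomial conjugate of a mirror of one slot is a mirror of one slot. -/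
theorem trc {g : GL (J → Fin k) F} (hg : g ∈ isometryGroup F Q) (i : J) {x : Fin k → F} (hx : f x x ≠ 0)
    (hm : Mono (g * fac i (mr B.hf x) * g⁻¹))
    (hC : ∀ (a b : J) (c w c' w' : Fin k → F), a ≠ b → f c c = 0 → f w c = 0 → f c' c' = 0 → f w' c' = 0 →
      (∀ l, (∀ T, fac l T * (g * fac i (mr B.hf x) * g⁻¹) = g * fac i (mr B.hf x) * g⁻¹ * fac l T) → l ≠ a ∧ l ≠ b) →
      fac a (eA B.hf c w) * fac b (eA B.hf c' w') * (g * fac i (mr B.hf x) * g⁻¹) =
        g * fac i (mr B.hf x) * g⁻¹ * (fac a (eA B.hf c w) * fac b (eA B.hf c' w')) →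
      Mono (g⁻¹ * (fac a (eA B.hf c w) * fac b (eA B.hf c' w')) * g)) :
    ∃ (j : J) (y : Fin k → F), f y y ≠ 0 ∧ g * fac i (mr B.hf x) * g⁻¹ = fac j (mr B.hf y) := by
  classical
  have hf := B.hf
  set m := fac (J := J) i (mr hf x) with hmdef
  set h := g * m * g⁻¹ with hh
  have hmiso : m ∈ isometryGroup F Q := B.fac_iso i (mr_isom hf hx)
  have hhiso : h ∈ isometryGroup F Q := Subgroup.mul_mem _ (Subgroup.mul_mem _ hg hmiso) (Subgroup.inv_mem _ hg)
  have hiso : ∀ u v, Bt σ₁ f (mv h u) (mv h v) = Bt σ₁ f u v := fun u v => by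
    rw [← B.hpol, ← B.hpol, Transvec.Orth.pol_mv B.hQ hhiso]
  have hh1 : h * h = 1 := by
    rw [hh, show g * m * g⁻¹ * (g * m * g⁻¹) = g * (m * m) * g⁻¹ by group, hmdef, ← fac_mul, mr_sq hf hx, fac_one,
      mul_one, mul_inv_cancel]
  have hsm : Small h := by rw [Small, hh, finrank_fixsp_conj]; exact small_mir B.toSl i hx
  haveI : Nonempty J := ⟨i⟩
  obtain ⟨π, hπ⟩ := mono_iff.1 hm
  by_cases hπ1 : π = 1
  · exact B.toSl.trc_fix ⟨i⟩ hiso hh1 (hπ1 ▸ hπ) hsm
  exfalso
  obtain ⟨hk3, a, b, A, hab, hAf, hA⟩ := B.toSl.trc_swap hiso hh1 hπ hπ1 hsm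
  have hq : 5 ≤ Nat.card F := B.hq.resolve_right (by omega)
  obtain ⟨p, hp⟩ := CharP.exists F
  haveI := hp
  haveI : Fintype F := Fintype.ofFinite F
  haveI : Fact p.Prime := ⟨CharP.char_is_prime F p⟩
  haveI : NeZero k := ⟨by omega⟩
  obtain ⟨z0, hz0⟩ : ∃ z, f z z = κ := B.toSl.exists_aniso
  obtain ⟨c, hc0, hc⟩ : ∃ c : Fin k → F, c ≠ 0 ∧ f c c = 0 := by
    obtain ⟨y, l, ν, hν, horth, hval, hl⟩ := B.frame
    obtain ⟨r, hr⟩ := Fintype.exists_ne_of_one_lt_card (α := Fin k) (by rw [Fintype.card_fin]; omega) l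
    obtain ⟨r', hr'l, hr'⟩ : ∃ r', r' ≠ l ∧ r' ≠ r := by
      by_contra hcon
      push Not at hcon
      have : (Finset.univ : Finset (Fin k)) ⊆ {l, r} := fun u _ => by
        by_cases hu : u = l
        · simp [hu]
        · simp [hcon u hu]
      have := Finset.card_le_card this
      have := Finset.card_insert_le l ({r} : Finset (Fin k))
      simp_all
    obtain ⟨s, t, hst⟩ := B.toSl.exists_comb (x := y r) (y := y r') (by rw [hval r hr]; exact hν)
      (by rw [hval r' hr'l]; exact hν) (horth r r' (Ne.symm hr')) (-(f (y l) (y l)))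
    have ho : f (s • y r + t • y r') (y l) = 0 := by
      rw [hf.add_left, hf.smul_left, hf.smul_left, horth r l hr, horth r' l hr'l]; ring
    refine ⟨y l + (s • y r + t • y r'), fun e => ?_, ?_⟩
    · have := congrArg (fun u => f u (y l)) e
      rw [hf.add_left (y l), ho, add_zero, hl, hf.zero_left] at this
      exact B.hκ this
    · rw [hf.add_left, hf.add_right, hf.add_right (s • y r + t • y r'), ho, hf.comm' (y l) (s • y r + t • y r'), ho, hst]
      ring
  obtain ⟨d, hd, hcd⟩ := B.toSl.exists_pair hc0 hc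
  obtain ⟨w, hwc, hwd, hww⟩ := B.toSl.exists_W_aniso hc hd hcd
  obtain ⟨t, ht0, ht1⟩ := B.toSl.exists_sq_ne_one hq
  have hdc : f d c = 1 := by rw [hf.comm', hcd]
  have h2 := B.two
  have hAi : ∀ u v, f (mv A⁻¹ u) (mv A⁻¹ v) = f u v := fun u v => by rw [← hAf, mv_mv_inv, mv_mv_inv]
  set e : F → GL (Fin k) F := fun s => eA hf c (s • w) with he
  have hsw : ∀ s : F, f (s • w) c = 0 := fun s => by rw [hf.smul_left, hwc, mul_zero]
  have hconj : ∀ s, A⁻¹ * e s * A = eA hf (mv A⁻¹ c) (mv A⁻¹ (s • w)) := fun s => by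
    have := eA_conj hf h2 hAi hc (hsw s)
    rwa [inv_inv] at this
  set E : F → GL (J → Fin k) F := fun s => fac a (e s) * fac b (A⁻¹ * e s * A) with hE
  have hEom : ∀ s, E s ∈ Geo.omegaGL Q := fun s => by
    rw [hE]
    refine Subgroup.mul_mem _ (B.eA_omega a hc (hsw s)) ?_
    rw [hconj]
    exact B.eA_omega b (by rw [hAi, hc]) (by rw [hAi, hsw])
  have hslot : ∀ (T : GL (Fin k) F), h * fac a T = fac b (A⁻¹ * T * A) * h ∧ h * fac b T = fac a (A * T * A⁻¹) * h := by
    intro T
    constructor <;> refine ext_pten fun y => ?_ <;> rw [mv_mul h, mv_mul _ h, mv_fac, hA, hA, mv_neg, mv_fac] <;>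
      congr 2 <;> funext j <;> by_cases hja : j = a <;> by_cases hjb : j = b
    all_goals first
      | exact absurd (hja.symm.trans hjb) hab
      | simp [hja, hjb, hab, hab.symm, mv_mul, mv_inv_mv, mv_mv_inv, Function.update_of_ne]
  have hnc : ∀ l, (∀ T, fac l T * h = h * fac l T) → l ≠ a ∧ l ≠ b := by
    intro l hl
    have hz0' : f z0 z0 ≠ 0 := hz0 ▸ B.hκ
    have hne : ∀ {u : Fin k → F}, f u u ≠ 0 → u ≠ 0 := fun h e => h (by rw [e, hf.zero_left])
    constructor <;> rintro rfl
    · have e := mul_right_cancel ((hslot (mr hf z0)).1.symm.trans (hl (mr hf z0)).symm)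
      have hconj' := mr_conj hf hAi hz0'
      rw [inv_inv] at hconj'
      rw [hconj'] at e
      have h0 : f (mv A⁻¹ z0) (mv A⁻¹ z0) ≠ 0 := by rw [hAi]; exact hz0'
      have e' := congrArg fixsp e
      rw [fixsp_mir B.toSl _ h0, fixsp_mir B.toSl _ hz0'] at e'
      exact hab (Ln_type_unique (by omega) (hne h0) (hne hz0') e').symm
    · have e := mul_right_cancel ((hslot (mr hf z0)).2.symm.trans (hl (mr hf z0)).symm)
      rw [mr_conj hf hAf hz0'] at e
      have h0 : f (mv A z0) (mv A z0) ≠ 0 := by rw [hAf]; exact hz0'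
      have e' := congrArg fixsp e
      rw [fixsp_mir B.toSl _ h0, fixsp_mir B.toSl _ hz0'] at e'
      exact hab (Ln_type_unique (by omega) (hne h0) (hne hz0') e')
  have hEpt : ∀ (s : F) (y : J → Fin k → F), mv (E s) (pten y) =
      pten (Function.update (Function.update y a (mv (e s) (y a))) b (mv (A⁻¹ * e s * A) (y b))) := fun s y => by
    rw [hE, mv_mul, mv_fac, mv_fac]
    rw [Function.update_of_ne hab, Function.update_comm hab.symm]
  have hEh : ∀ s, E s * h = h * E s := fun s => ext_pten fun y => by
    rw [mv_mul (E s) h, mv_mul h (E s), hA, mv_neg, hEpt, hEpt, hA]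
    congr 2
    funext j
    by_cases hja : j = a
    · subst hja
      simp only [Function.update_self, Function.update_of_ne hab]
      rw [← mv_mul, ← mv_mul]
      congr 1
      group
    by_cases hjb : j = b
    · subst hjb
      simp only [Function.update_self, Function.update_of_ne hab]
      rw [← mv_mul, ← mv_mul]
      congr 1
      group
    · simp [Function.update_of_ne hja, Function.update_of_ne hjb]
  have hEp : ∀ s, E s ^ p = 1 := fun s => by
    have e1 : ∀ (l : J) (T : GL (Fin k) F) (n : ℕ), fac l T ^ n = fac l (T ^ n) := fun l T n => by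
      induction n with
      | zero => rw [pow_zero, pow_zero, fac_one]
      | succ n ih => rw [pow_succ, pow_succ, ih, fac_mul]
    have ea : e s ^ p = 1 := eA_pow_char hf h2 p hc (hsw s)
    have eb : (A⁻¹ * e s * A) ^ p = 1 := by
      rw [hconj]
      exact eA_pow_char hf h2 p (by rw [hAi, hc]) (by rw [hAi, hsw])
    rw [hE]
    simp only
    rw [(show Commute (fac a (e s)) (fac b (A⁻¹ * e s * A)) from fac_comm hab _ _).mul_pow, e1, e1, ea, eb, fac_one,
      fac_one, mul_one]
  set n₁ : F := -(t * t + t) / 2 with hn1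
  set n₂ : F := -(t * t - t) / 2 with hn2
  set n₀ : F := t * t - 1 with hn0
  set Y : ((J → Fin k) → F) →ₗ[F] (J → Fin k) → F :=
    mvLin (E t) + n₁ • mvLin (E 1) + n₂ • mvLin (E (-1)) + n₀ • mvLin (E 0) with hY
  set G2 : (J → Fin k → F) → (Fin k → F) → (Fin k → F) → (J → Fin k) → F := fun z u v =>
    pten (Function.update (Function.update z a u) b (mv A⁻¹ v)) with hG2
  have G_add_left : ∀ z u u' v, G2 z (u + u') v = G2 z u v + G2 z u' v := fun z u u' v => by
    simp only [hG2, Function.update_comm hab]; exact (updL _ a).map_add u u'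
  have G_smul_left : ∀ z (r : F) u v, G2 z (r • u) v = r • G2 z u v := fun z r u v => by
    simp only [hG2, Function.update_comm hab]; exact (updL _ a).map_smul r u
  have G_add_right : ∀ z u v v', G2 z u (v + v') = G2 z u v + G2 z u v' := fun z u v v' => by
    simp only [hG2, mv_add]; exact (updL _ b).map_add _ _
  have G_smul_right : ∀ z (r : F) u v, G2 z u (r • v) = r • G2 z u v := fun z r u v => by
    simp only [hG2, mv_smul]; exact (updL _ b).map_smul r _
  set ω := f w w with hω
  have hes : ∀ (s : F) u, mv (e s) u =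
      u + (s * f u c) • w + (-(s * f u w)) • c + (-(2⁻¹ * (s * s) * ω * f u c)) • c := fun s u => by
    rw [he, mv_eA hf h2 hc (hsw s), Elin_apply, Aop_Aop hf hc (hsw s) (hsw s), Cop_apply, Aop_apply,
      hf.smul_left, hf.smul_right', hf.smul_right', ← hω]
    module
  have hEG : ∀ s z u v, mv (E s) (G2 z u v) = G2 z (mv (e s) u) (mv (e s) v) := fun s z u v => by
    simp only [hG2, hEpt]
    refine congrArg pten (funext fun j => ?_)
    by_cases hja : j = a
    · subst hja; simp [Function.update_of_ne hab]
    by_cases hjb : j = b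
    · subst hjb; simp [mv_mul, mv_mv_inv]
    · simp [Function.update_of_ne hja, Function.update_of_ne hjb]
  have hYG : ∀ z u v, Y (G2 z u v) = G2 z (mv (e t) u) (mv (e t) v) + n₁ • G2 z (mv (e 1) u) (mv (e 1) v) +
      n₂ • G2 z (mv (e (-1)) u) (mv (e (-1)) v) + n₀ • G2 z (mv (e 0) u) (mv (e 0) v) := fun z u v => by
    simp only [hY, LinearMap.add_apply, LinearMap.smul_apply]
    rw [← hEG, ← hEG, ← hEG, ← hEG]
    rfl
  have hanti : ∀ z u v, Y (G2 z u v) = Y (G2 z v u) := fun z u v => by
    rw [hYG, hYG]
    simp only [hes, G_add_left, G_add_right, G_smul_left, G_smul_right, smul_add, smul_smul, hn1, hn2, hn0]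
    match_scalars <;> field_simp <;> ring
  have hker : ∀ q, mv h q = q → Y q = 0 := by
    have e0 : Y.comp (LinearMap.id + mvLin h) = 0 := eq_of_pten fun y => by
      show Y (pten y + mv h (pten y)) = 0
      have e1 : pten y = G2 y (y a) (mv A (y b)) := by
        simp only [hG2, mv_inv_mv, Function.update_eq_self]
      have e2 : mv h (pten y) = -G2 y (mv A (y b)) (y a) := by rw [hA]
      rw [e2]
      nth_rewrite 1 [e1]
      rw [map_add, map_neg, hanti, add_neg_cancel]
    intro q hq
    have this : Y (q + mv h q) = 0 := LinearMap.congr_fun e0 q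
    rw [hq, map_add, ← two_smul F] at this
    exact (smul_eq_zero.1 this).resolve_left h2
  have hY0 : Y = 0 := by
    set Z := (mvLin g⁻¹).comp (Y.comp (mvLin g)) with hZ
    have hx0 : x ≠ 0 := fun e => hx (by rw [e, hf.zero_left])
    have hcom : ∀ s (T : (Fin k → F) →ₗ[F] Fin k → F) q,
        mv g⁻¹ (mv (E s) (mv g (op i LinearMap.id T q))) =
          op i LinearMap.id T (mv g⁻¹ (mv (E s) (mv g q))) := fun s T q => by
      have em : ∀ y, mv (g⁻¹ * E s * g) y = mv g⁻¹ (mv (E s) (mv g y)) := fun y => by
        rw [mv_mul (g⁻¹ * E s) g, mv_mul g⁻¹ (E s)]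
      rw [← em, ← em]
      refine B.slot_fixed hk3 hx (Subgroup.mul_mem _ (Subgroup.mul_mem _ (Subgroup.inv_mem _ hg)
        (Transvec.Orth.omega_le_isometry B.hQ (hEom s))) hg) (by
          have := hC a b c (s • w) (mv A⁻¹ c) (mv A⁻¹ (s • w)) hab hc (hsw s) (by rw [hAi, hc])
            (by rw [hAi, hsw]) hnc (by rw [← hconj]; exact hEh s)
          rw [← hconj] at this
          exact this) ?_ p ?_ T q
      · have := hEh s
        rw [hh] at this
        calc g⁻¹ * E s * g * m = g⁻¹ * (E s * (g * m * g⁻¹)) * g := by group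
          _ = g⁻¹ * (g * m * g⁻¹ * E s) * g := by rw [this]
          _ = m * (g⁻¹ * E s * g) := by group
      · have e1 : ∀ n : ℕ, (g⁻¹ * E s * g) ^ n = g⁻¹ * E s ^ n * g := fun n => by
          induction n with
          | zero => rw [pow_zero, pow_zero, mul_one, inv_mul_cancel]
          | succ n ih => rw [pow_succ, ih, pow_succ]; group
        rw [e1, hEp, mul_one, inv_mul_cancel]
    have hZc : ∀ (T : (Fin k → F) →ₗ[F] Fin k → F) q, Z (op i LinearMap.id T q) = op i LinearMap.id T (Z q) := by
      intro T q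
      show mv g⁻¹ (Y (mv g (op i LinearMap.id T q))) = op i LinearMap.id T (mv g⁻¹ (Y (mv g q)))
      simp only [hY, LinearMap.add_apply, LinearMap.smul_apply]
      show mv g⁻¹ (mv (E t) _ + n₁ • mv (E 1) _ + n₂ • mv (E (-1)) _ + n₀ • mv (E 0) _) =
        op i LinearMap.id T (mv g⁻¹ (mv (E t) _ + n₁ • mv (E 1) _ + n₂ • mv (E (-1)) _ + n₀ • mv (E 0) _))
      simp only [mv_add, mv_smul, map_add, map_smul, hcom]
    have hZ0 : Z = 0 := ext_ins i fun v u => by
      let T : (Fin k → F) →ₗ[F] Fin k → F :=
        { toFun := fun q => (f q x / f x x) • v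
          map_add' := fun q q' => by rw [hf.add_left, add_div, add_smul]
          map_smul' := fun r q => by rw [hf.smul_left, mul_div_assoc, mul_smul]; rfl }
      have e1 : ins i v u = op i LinearMap.id T (ins i x u) := by
        rw [op_ins]; simp [T, div_self hx]
      have e2 : Z (ins i x u) = 0 := by
        show mv g⁻¹ (Y (mv g (ins i x u))) = 0
        rw [hker _ ?_, mv_zero]
        rw [hh, mv_mul, mv_mul, mv_inv_mv, hmdef, mv_fac_ins, mr_self hf hx]
      rw [e1, hZc, e2, map_zero, LinearMap.zero_apply]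
    refine LinearMap.ext fun q => ?_
    have := LinearMap.congr_fun hZ0 (mv g⁻¹ q)
    have h3 : mv g⁻¹ (Y (mv g (mv g⁻¹ q))) = 0 := this
    rw [mv_mv_inv] at h3
    exact mv_inj g⁻¹ (h3.trans (mv_zero _).symm)
  set z : J → Fin k → F := fun _ => z0
  set K := ∏ j ∈ (Finset.univ.erase a).erase b, f z0 z0 with hK
  have hBG : ∀ u v u' v', Bt σ₁ f (G2 z u v) (G2 z u' v') = f u u' * (f v v' * K) := fun u v u' v' => by
    simp only [hG2]
    rw [Bt_pten hf, ← Finset.mul_prod_erase Finset.univ _ (Finset.mem_univ a),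
      ← Finset.mul_prod_erase (Finset.univ.erase a) _ (Finset.mem_erase.2 ⟨hab.symm, Finset.mem_univ b⟩)]
    simp only [Function.update_self, Function.update_of_ne hab, hAi]
    congr 2
    refine Finset.prod_congr rfl fun j hj => ?_
    obtain ⟨hjb, hj⟩ := Finset.mem_erase.1 hj
    simp [z, Function.update_of_ne hjb, Function.update_of_ne (Finset.ne_of_mem_erase hj)]
  have hfinal := congrArg (fun q => Bt σ₁ f q (G2 z w d)) (LinearMap.congr_fun hY0 (G2 z d d))
  simp only [LinearMap.zero_apply, hYG] at hfinal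
  have hB : Sym (Bt (J := J) σ₁ f) := Bt_sym hf
  simp only [hes, G_add_left, G_add_right, G_smul_left, G_smul_right, smul_add, hB.add_left, hB.smul_left, hBG,
    hB.zero_left, hcd, hdc, hwc, hwd, hd, hc, hf.comm' c w, hf.comm' d w, ← hω] at hfinal
  have hK0 : K ≠ 0 := Finset.prod_ne_zero_iff.2 fun _ _ => by rw [hz0]; exact B.hκ
  have hne : (t * (t * t - 1)) * (ω * ω * K) ≠ 0 :=
    mul_ne_zero (mul_ne_zero ht0 (sub_ne_zero.2 ht1)) (mul_ne_zero (mul_ne_zero hww hww) hK0)
  refine hne ?_
  simp only [hn1, hn2, hn0] at hfinal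
  field_simp at hfinal
  exact mul_left_cancel₀ (show (4 : F) ≠ 0 by rw [show (4 : F) = 2 * 2 by norm_num]; exact mul_ne_zero h2 h2)
    (by linear_combination -hfinal)

end Base

end Cfsg.Agent.OrthWreath
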