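/-
Members of all the slots but one, transport of the commutator subgroup, and the form of those slots.
-/
import Cfsg.Agent.Lib.OrthWreath.TrcSwap
import Cfsg.Agent.Lib.OrthWreath.Qrad

set_option autoImplicit false
set_option linter.unusedSectionVars false

namespace Cfsg.Agent.OrthWreath

open scoped Matrix Kronecker
open Matrix Cfsg.Agent.Transvec Cfsg.Agent.TensorMax Cfsg.Agent.WreathMax Cfsg.Agent.FormWreath
open Cfsg.Agent.UWreath (top top_ten Loc loc_pten loc_comp loc_id pull Has)

variable {F : Type*} [Field F] [Finite F] {k : ℕ} {J : Type} [Fintype J] [DecidableEq J]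
variable {f : (Fin k → F) → (Fin k → F) → F} {κ : F}

local notation "σ₁" => RingEquiv.refl F

/-- A group map carrying isometries to isometries carries one commutator subgroup into the other. -/
theorem omega_map {ι ι' : Type} [Fintype ι] [DecidableEq ι] [Fintype ι'] [DecidableEq ι'] {Q : (ι → F) → F}
    {Q' : (ι' → F) → F} (φ : GL ι F →* GL ι' F) (hφ : ∀ g ∈ isometryGroup F Q, φ g ∈ isometryGroup F Q')
    {g : GL ι F} (hg : g ∈ Geo.omegaGL Q) : φ g ∈ Geo.omegaGL Q' := by
  obtain ⟨g', hg', rfl⟩ := Subgroup.mem_map.1 hg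
  let ψ : isometryGroup F Q →* isometryGroup F Q' :=
    (φ.comp (isometryGroup F Q).subtype).codRestrict _ fun g => hφ _ g.2
  refine Subgroup.mem_map.2 ⟨ψ g', ?_, rfl⟩
  have hmap : (commutator (isometryGroup F Q)).map ψ ≤ commutator (isometryGroup F Q') := by
    rw [commutator_def, Subgroup.map_commutator, commutator_def]
    exact Subgroup.commutator_mono le_top le_top
  exact hmap (Subgroup.mem_map.2 ⟨g', hg', rfl⟩)

/-- The member acting as b on the slots other than i. -/
noncomputable def up (i : J) : GL (Rest i k) F →* GL (J → Fin k) F where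
  toFun b := (tg i k F).symm (kronGL b 1)
  map_one' := by
    rw [MulEquiv.symm_apply_eq, map_one]
    refine Units.ext ?_
    show ((1 : GL (Rest i k) F) : Matrix (Rest i k) (Rest i k) F) ⊗ₖ
      ((1 : GL (Fin k) F) : Matrix (Fin k) (Fin k) F) = 1
    rw [Units.val_one, Units.val_one, Matrix.one_kronecker_one]
  map_mul' a b := by
    rw [← map_mul]
    congr 1
    refine Units.ext ?_
    show _ ⊗ₖ _ = (_ ⊗ₖ _) * (_ ⊗ₖ _)
    rw [← Matrix.mul_kronecker_mul, ← Units.val_mul, ← Units.val_mul, mul_one]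

theorem mv_up_ins (i : J) (b : GL (Rest i k) F) (v : Fin k → F) (w : Rest i k → F) :
    mv (up i b) (ins i v w) = ins i v (mv b w) := by
  apply (push i).injective
  rw [← mv_tg, ins_apply, ins_apply, LinearEquiv.apply_symm_apply, LinearEquiv.apply_symm_apply]
  show mv (tg i k F ((tg i k F).symm (kronGL b 1))) (ten w v) = _
  rw [MulEquiv.apply_symm_apply, mv_kronGL, mv_one]

theorem mvLin_up (i : J) (b : GL (Rest i k) F) : mvLin (up i b) = op i (mvLin b) LinearMap.id :=
  ext_ins i fun v w => by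
    show mv (up i b) (ins i v w) = _
    rw [mv_up_ins, op_ins]
    rfl

theorem fac_up_comm (i : J) (T : GL (Fin k) F) (b : GL (Rest i k) F) : fac i T * up i b = up i b * fac i T :=
  ext_ins_mv i fun v w => by rw [mv_mul, mv_mul, mv_up_ins, mv_fac_ins, mv_fac_ins, mv_up_ins]

theorem up_injective (i : J) (hk : 0 < k) : Function.Injective (up (F := F) (k := k) i) := fun a b h => by
  haveI : NeZero k := ⟨by omega⟩
  refine ext_mv fun w => ins_injective i (c := Pi.single 0 1) (Pi.single_ne_zero_iff.2 one_ne_zero) ?_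
  rw [← mv_up_ins, ← mv_up_ins, h]

theorem up_fac (i : J) (l : {j // j ≠ i}) (T : GL (Fin k) F) : up i (fac l T) = fac (l : J) T :=
  ext_ins_mv i fun v w => by rw [mv_up_ins, mv_fac_other l.2]

theorem up_mono (i : J) {b : GL (Rest i k) F} (h : Mono b) : Mono (up i b) := by
  obtain ⟨σ, A, hA⟩ := h
  let τ : Equiv.Perm J := σ.ofSubtype
  refine ⟨τ, fun j => if hj : j ≠ i then A ⟨j, hj⟩ else 1, fun x => ?_⟩
  have e : pten x = ins i (x i) (pten fun j : {j // j ≠ i} => x j) := by
    rw [ins_pten]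
    refine congrArg pten (funext fun j => ?_)
    split <;> simp_all
  rw [e, mv_up_ins, hA, ins_pten]
  refine congrArg pten (funext fun j => ?_)
  by_cases hj : j = i
  · subst hj
    beta_reduce
    rw [dif_pos rfl, dif_neg (not_not.2 rfl), mv_one, Equiv.Perm.ofSubtype_apply_of_not_mem]
    simp
  · beta_reduce
    rw [dif_neg hj, dif_pos hj]
    congr 2
    exact (Equiv.Perm.ofSubtype_apply_of_mem σ hj).symm

theorem up_pres (hf : Sym f) (i : J) {b : GL (Rest i k) F}
    (hb : ∀ x y, Bt σ₁ f (mv b x) (mv b y) = Bt σ₁ f x y) (x y : (J → Fin k) → F) :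
    Bt σ₁ f (mv (up i b) x) (mv (up i b) y) = Bt σ₁ f x y := by
  have hB : Sym (Bt (J := J) σ₁ f) := Bt_sym hf
  have h1 : ∀ v w y, Bt σ₁ f (mv (up i b) (ins i v w)) (mv (up i b) y) = Bt σ₁ f (ins i v w) y := by
    intro v w y
    have e : (hB.formL (mv (up i b) (ins i v w))).comp (mvLin (up i b)) = hB.formL (ins i v w) :=
      ext_ins i fun v' w' => by
        show Bt σ₁ f (mv (up i b) (ins i v' w')) (mv (up i b) (ins i v w)) = Bt σ₁ f (ins i v' w') (ins i v w)
        rw [mv_up_ins, mv_up_ins, Bt_ins_ins hf, Bt_ins_ins hf, hb]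
    have := LinearMap.congr_fun e y
    rw [hB.comm', hB.comm' (ins i v w)]
    exact this
  have e : (hB.formL (mv (up i b) y)).comp (mvLin (up i b)) = hB.formL y := ext_ins i fun v w => h1 v w y
  exact LinearMap.congr_fun e x

/-- A linear equivalence moves members. -/
noncomputable def conjGL {ι ι' : Type} [Fintype ι] [DecidableEq ι] [Fintype ι'] [DecidableEq ι']
    (R : (ι → F) ≃ₗ[F] (ι' → F)) : GL ι F →* GL ι' F where
  toFun b :=
    { val := LinearMap.toMatrix' (R.toLinearMap ∘ₗ mvLin b ∘ₗ R.symm.toLinearMap)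
      inv := LinearMap.toMatrix' (R.toLinearMap ∘ₗ mvLin b⁻¹ ∘ₗ R.symm.toLinearMap)
      val_inv := by
        rw [← LinearMap.toMatrix'_comp, ← LinearMap.toMatrix'_id]
        congr 1
        refine LinearMap.ext fun x => ?_
        show R (mv b (R.symm (R (mv b⁻¹ (R.symm x))))) = x
        rw [LinearEquiv.symm_apply_apply, mv_mv_inv, LinearEquiv.apply_symm_apply]
      inv_val := by
        rw [← LinearMap.toMatrix'_comp, ← LinearMap.toMatrix'_id]
        congr 1
        refine LinearMap.ext fun x => ?_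
        show R (mv b⁻¹ (R.symm (R (mv b (R.symm x))))) = x
        rw [LinearEquiv.symm_apply_apply, mv_inv_mv, LinearEquiv.apply_symm_apply] }
  map_one' := Units.ext (by
    show LinearMap.toMatrix' _ = 1
    rw [← LinearMap.toMatrix'_id]
    congr 1
    refine LinearMap.ext fun x => ?_
    show R (mv 1 (R.symm x)) = x
    rw [mv_one, LinearEquiv.apply_symm_apply])
  map_mul' a b := Units.ext (by
    show LinearMap.toMatrix' _ = LinearMap.toMatrix' _ * LinearMap.toMatrix' _
    rw [← LinearMap.toMatrix'_comp]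
    congr 1
    refine LinearMap.ext fun x => ?_
    show R (mv (a * b) (R.symm x)) = R (mv a (R.symm (R (mv b (R.symm x)))))
    rw [LinearEquiv.symm_apply_apply, mv_mul])

theorem mv_conjGL {ι ι' : Type} [Fintype ι] [DecidableEq ι] [Fintype ι'] [DecidableEq ι']
    (R : (ι → F) ≃ₗ[F] (ι' → F)) (b : GL ι F) (x : ι' → F) : mv (conjGL R b) x = R (mv b (R.symm x)) :=
  LinearMap.toMatrix'_mulVec _ x

/-! ### One slot -/

/-- With one slot every member is monomial. -/
theorem mono_of_card_one (h : Fintype.card J = 1) (g : GL (J → Fin k) F) : Mono g := by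
  obtain ⟨i, hi⟩ := Fintype.card_eq_one_iff.1 h
  let e : (J → Fin k) ≃ Fin k :=
    { toFun := fun a => a i
      invFun := fun p _ => p
      left_inv := fun a => funext fun j => by rw [hi j]
      right_inv := fun p => rfl }
  let R : ((J → Fin k) → F) ≃ₗ[F] (Fin k → F) := LinearEquiv.funCongrLeft F F e.symm
  have hR : ∀ (x : J → Fin k → F), R (pten x) = x i := fun x => funext fun p => by
    show pten x (e.symm p) = x i p
    rw [pten, Finset.prod_eq_single i (fun j _ hj => absurd (hi j) hj) (fun h => absurd (Finset.mem_univ i) h)]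
    rfl
  refine ⟨1, fun _ => conjGL R g, fun x => R.injective ?_⟩
  rw [hR]
  show _ = mv (conjGL R g) (x ((1 : Equiv.Perm J) i))
  rw [mv_conjGL, Equiv.Perm.one_apply, ← hR x, LinearEquiv.symm_apply_apply]

/-! ### The form of the other slots -/

variable {Q : ((J → Fin k) → F) → F}

namespace Base

variable (B : Base f Q κ)
include B

theorem rest (i : J) (h : 2 ≤ Fintype.card {j // j ≠ i}) :
    Base (J := {j // j ≠ i}) f (qf (Bt σ₁ f)) κ where
  toSl := B.toSl
  hQ := qf_nondeg (Bt_sym B.hf) B.two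
  hpol := fun x y => pol_qf (Bt_sym B.hf) B.two x y
  hJ := h
  frame := B.frame

theorem pres {g : GL (J → Fin k) F} (hg : g ∈ isometryGroup F Q) (x y : (J → Fin k) → F) :
    Bt σ₁ f (mv g x) (mv g y) = Bt σ₁ f x y := by
  rw [← B.hpol, ← B.hpol, Transvec.Orth.pol_mv B.hQ hg]

theorem rest_iso {i : J} {b : GL (Rest i k) F} :
    b ∈ isometryGroup F (qf (Bt (J := {j // j ≠ i}) σ₁ f)) ↔
      ∀ x y, Bt σ₁ f (mv b x) (mv b y) = Bt σ₁ f x y := by
  constructor
  · intro hb x y
    rw [← pol_qf (Bt_sym B.hf) B.two, ← pol_qf (Bt_sym B.hf) B.two,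
      Transvec.Orth.pol_mv (qf_nondeg (Bt_sym B.hf) B.two) hb]
  · intro h
    exact Transvec.Orth.mem_isometry.2 fun z => by rw [qf, qf, h]

theorem up_omega (i : J) {b : GL (Rest i k) F} (hb : b ∈ Geo.omegaGL (qf (Bt (J := {j // j ≠ i}) σ₁ f))) :
    up i b ∈ Geo.omegaGL Q :=
  omega_map (up i) (fun _ hg => B.mem_iso (up_pres B.hf i (B.rest_iso.1 hg))) hb

end Base

end Cfsg.Agent.OrthWreath
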