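/-
Commutants of the elementary members of all the slots but one, and maps that respect the slot left out.
-/
import Cfsg.Agent.Lib.OrthWreath.Norm
import Cfsg.Agent.Lib.OrthWreath.Up

set_option autoImplicit false
set_option linter.unusedSectionVars false

namespace Cfsg.Agent.OrthWreath

open scoped Matrix
open Matrix Cfsg.Agent.Transvec Cfsg.Agent.TensorMax Cfsg.Agent.WreathMax Cfsg.Agent.FormWreath
open Cfsg.Agent.UWreath (top top_ten Loc loc_pten loc_comp loc_id pull Has)

variable {F : Type*} [Field F] [Finite F] {k : ℕ} {J : Type} [Fintype J] [DecidableEq J]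
variable {f : (Fin k → F) → (Fin k → F) → F} {κ : F}

local notation "σ₁" => RingEquiv.refl F

theorem op_pten (i : J) (T : (Fin k → F) →ₗ[F] Fin k → F) (y : J → Fin k → F) :
    op i LinearMap.id T (pten y) = pten (Function.update y i (T (y i))) := by
  have e1 : pten y = ins i (y i) (pten fun j : {j // j ≠ i} => y j) := by
    rw [ins_pten]
    refine congrArg pten (funext fun j => ?_)
    split <;> simp_all
  conv_lhs => rw [e1]
  rw [op_ins, LinearMap.id_apply, ins_pten]
  refine congrArg pten (funext fun j => ?_)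
  by_cases hj : j = i
  · subst hj; simp
  · simp [hj]

theorem mvLin_fac (l : J) (T : GL (Fin k) F) : mvLin (fac l T) = op l LinearMap.id (mvLin T) :=
  ext_ins l fun v w => by
    show mv (fac l T) (ins l v w) = _
    rw [mv_fac_ins, op_ins]
    rfl

theorem op_slot {i : J} (l : {j // j ≠ i}) (T : (Fin k → F) →ₗ[F] Fin k → F) :
    op (l : J) LinearMap.id T = op i (op l LinearMap.id T) LinearMap.id := eq_of_pten fun y => by
  have e1 : pten y = ins i (y i) (pten fun j : {j // j ≠ i} => y j) := by
    rw [ins_pten]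
    refine congrArg pten (funext fun j => ?_)
    split <;> simp_all
  rw [op_pten, e1, op_ins, LinearMap.id_apply, op_pten, ins_pten]
  refine congrArg pten (funext fun j => ?_)
  by_cases hj : j = i
  · subst hj
    rw [dif_pos rfl, Function.update_of_ne (Ne.symm l.2)]
  · rw [dif_neg hj]
    by_cases hjl : j = l
    · subst hjl; rw [Function.update_self, Function.update_self]
    · rw [Function.update_of_ne hjl, Function.update_of_ne fun e => hjl (congrArg Subtype.val e)]

/-- Commuting with all the maps of every slot but one. -/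
theorem comm_slot_all (hk : 0 < k) (i : J) {L : ((J → Fin k) → F) →ₗ[F] (J → Fin k) → F}
    (h : ∀ (l : {j // j ≠ i}) (T : (Fin k → F) →ₗ[F] Fin k → F),
      L ∘ₗ op (l : J) LinearMap.id T = op (l : J) LinearMap.id T ∘ₗ L) :
    ∃ T₀ : (Fin k → F) →ₗ[F] Fin k → F, L = op i LinearMap.id T₀ := by
  classical
  haveI : NeZero k := ⟨by omega⟩
  have hloc : ∀ T : {j // j ≠ i} → ((Fin k → F) →ₗ[F] Fin k → F),
      L ∘ₗ op i (Loc T) LinearMap.id = op i (Loc T) LinearMap.id ∘ₗ L := by
    intro T
    suffices H : ∀ U : Finset {j // j ≠ i}, L ∘ₗ op i (Loc fun l => if l ∈ U then T l else LinearMap.id) LinearMap.id =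
        op i (Loc fun l => if l ∈ U then T l else LinearMap.id) LinearMap.id ∘ₗ L by
      simpa using H Finset.univ
    intro U
    induction U using Finset.induction with
    | empty =>
      simp only [Finset.notMem_empty, if_false, loc_id, op_one, LinearMap.comp_id, LinearMap.id_comp]
    | insert a U ha ih =>
      have e : (Loc fun l => if l ∈ insert a U then T l else LinearMap.id) =
          op a LinearMap.id (T a) ∘ₗ Loc fun l => if l ∈ U then T l else LinearMap.id := eq_of_pten fun y => by
        rw [LinearMap.comp_apply, loc_pten, loc_pten, op_pten]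
        refine congrArg pten (funext fun l => ?_)
        by_cases hl : l = a
        · subst hl; simp [ha]
        · simp [hl]
      have e2 : op i (op a LinearMap.id (T a) ∘ₗ Loc fun l => if l ∈ U then T l else LinearMap.id) LinearMap.id =
          op (a : J) LinearMap.id (T a) ∘ₗ op i (Loc fun l => if l ∈ U then T l else LinearMap.id) LinearMap.id := by
        rw [op_slot, op_comp, LinearMap.id_comp]
      rw [e, e2, ← LinearMap.comp_assoc, h a, LinearMap.comp_assoc, ih, ← LinearMap.comp_assoc]
  set d₀ : Rest i k := fun _ => 0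
  let sl : ((J → Fin k) → F) →ₗ[F] Fin k → F :=
    { toFun := fun z p => push i z (d₀, p)
      map_add' := fun z z' => by funext p; simp
      map_smul' := fun r z => by funext p; simp }
  refine ⟨sl ∘ₗ L ∘ₗ
    { toFun := fun v => ins i v (Pi.single d₀ 1)
      map_add' := fun v v' => ins_add_vec i v v' _
      map_smul' := fun r v => ins_smul_vec i r v _ }, ext_ins i fun v w => ?_⟩
  set R : Rest i k → ((Rest i k → F) →ₗ[F] Rest i k → F) := fun d => (LinearMap.proj d₀).smulRight (Pi.single d 1)
  have hR : ∀ d, R d = Loc fun l => (LinearMap.proj (d₀ l)).smulRight (Pi.single (d l) 1) := fun d =>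
    eq_of_pten fun y => by
      rw [loc_pten]
      show pten y d₀ • (Pi.single d (1 : F) : Rest i k → F) = _
      rw [← pten_single d]
      funext a
      simp only [pten, Pi.smul_apply, smul_eq_mul, LinearMap.smulRight_apply, LinearMap.proj_apply,
        Finset.prod_mul_distrib]
  have hz : ∀ d z, op i (R d) LinearMap.id z = ins i (sl z) (Pi.single d 1) := fun d z => by
    refine LinearMap.congr_fun (f := op i (R d) LinearMap.id)
      (g := { toFun := fun z => ins i (sl z) (Pi.single d 1)
              map_add' := fun a b => by rw [map_add, ins_add_vec]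
              map_smul' := fun r a => by rw [map_smul, ins_smul_vec]; rfl }) (ext_ins i fun a b => ?_) z
    rw [op_ins]
    show _ = ins i (sl (ins i a b)) (Pi.single d 1)
    have : sl (ins i a b) = b d₀ • a := by
      funext p
      show push i (ins i a b) (d₀, p) = _
      rw [ins_apply, LinearEquiv.apply_symm_apply, ten_apply, Pi.smul_apply, smul_eq_mul]
    rw [this, ins_smul_vec, LinearMap.id_apply]
    show ins i a (b d₀ • Pi.single d 1) = _
    rw [map_smul]
  have hd : ∀ d, L (ins i v (Pi.single d 1)) = ins i (sl (L (ins i v (Pi.single d₀ 1)))) (Pi.single d 1) := by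
    intro d
    have e := LinearMap.congr_fun (hloc fun l => (LinearMap.proj (d₀ l)).smulRight (Pi.single (d l) 1))
      (ins i v (Pi.single d₀ 1))
    rw [← hR, LinearMap.comp_apply, LinearMap.comp_apply, op_ins, LinearMap.id_apply, hz] at e
    rw [← e]
    congr 2
    show Pi.single d 1 = (Pi.single d₀ (1 : F) : Rest i k → F) d₀ • (Pi.single d (1 : F) : Rest i k → F)
    rw [Pi.single_eq_same, one_smul]
  rw [op_ins, LinearMap.id_apply]
  refine LinearMap.congr_fun (f := L.comp (ins i v)) (g := ins i _) (LinearMap.pi_ext' fun d =>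
    LinearMap.ext_ring (hd d)) w

namespace Sl

variable (S : Sl f κ)
include S

theorem exists_isotropic : ∃ c : Fin k → F, c ≠ 0 ∧ f c c = 0 := by
  obtain ⟨x, -, hx0, hx⟩ := Transvec.Orth.exists_singular (qf_nondeg S.hf S.two)
    (X := (⊤ : Submodule F (Fin k → F))) (by
    rw [finrank_top, Module.finrank_fintype_fun_eq_card, Fintype.card_fin]; exact S.hk)
  refine ⟨x, hx0, ?_⟩
  rw [qf, div_eq_zero_iff] at hx
  exact hx.resolve_right S.two

theorem av_comp (a b c d : Fin k → F) : av S.hf a b ∘ₗ av S.hf c d = f c b • av S.hf a d :=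
  LinearMap.ext fun u => by
    simp only [LinearMap.comp_apply, LinearMap.smul_apply, av_apply, S.hf.smul_left, smul_smul]
    congr 1
    ring

theorem av_all {A : Submodule F ((Fin k → F) →ₗ[F] Fin k → F)} (h : ∀ a b, av S.hf a b ∈ A)
    (T : (Fin k → F) →ₗ[F] Fin k → F) : T ∈ A := by
  classical
  choose c hc using fun p : Fin k => S.hf.frow_surj (fun _ => rfl) (Pi.single p 1)
  have e : T = ∑ p, av S.hf (T (Pi.single p 1)) (c p) := LinearMap.ext fun v => by
    rw [LinearMap.sum_apply]
    conv_lhs => rw [← Finset.univ_sum_single v, map_sum]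
    refine Finset.sum_congr rfl fun p _ => ?_
    rw [av_apply, ← S.hf.frow_dot, hc, single_one_dotProduct, ← map_smul, ← Pi.single_smul, smul_eq_mul, mul_one]
  rw [e]
  exact A.sum_mem fun p _ => h _ _

/-- The squares of singular vectors generate every map. -/
theorem all_of_iso {A : Submodule F ((Fin k → F) →ₗ[F] Fin k → F)} (hcomp : ∀ T T', T ∈ A → T' ∈ A → T ∘ₗ T' ∈ A)
    (hC : ∀ c, f c c = 0 → Cop S.hf c ∈ A) (T : (Fin k → F) →ₗ[F] Fin k → F) : T ∈ A := by
  have hf := S.hf
  obtain ⟨c, hc0, hc⟩ := S.exists_isotropic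
  obtain ⟨d, hd, hcd⟩ := S.exists_pair hc0 hc
  have hd0 : d ≠ 0 := fun e => by rw [e, hf.zero_right] at hcd; exact zero_ne_one hcd
  have hL : ∀ {c}, c ≠ 0 → f c c = 0 → ∀ v, av hf v c ∈ A := by
    intro c hc0 hc v
    let P : Submodule F (Fin k → F) :=
      { carrier := {v | av hf v c ∈ A}
        add_mem' := fun {a b} ha hb => by
          show av hf (a + b) c ∈ A
          convert A.add_mem ha hb using 1; exact LinearMap.ext fun u => by simp
        zero_mem' := by
          show av hf 0 c ∈ A
          convert A.zero_mem using 1; exact LinearMap.ext fun u => by simp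
        smul_mem' := fun r a ha => by
          show av hf (r • a) c ∈ A
          convert A.smul_mem r ha using 1; exact LinearMap.ext fun u => by simp [smul_smul, mul_comm] }
    have : P = ⊤ := S.iso_span hc0 hc P fun u hu huc => by
      have := hcomp _ _ (hC u hu) (hC c hc)
      rw [Cop, Cop, S.av_comp, hf.comm'] at this
      show av hf u c ∈ A
      simpa [smul_smul, inv_mul_cancel₀ huc] using A.smul_mem (f u c)⁻¹ this
    have h5 : v ∈ P := by rw [this]; exact Submodule.mem_top
    exact h5
  have hR : ∀ v, av hf d v ∈ A := by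
    intro v
    let P : Submodule F (Fin k → F) :=
      { carrier := {v | av hf d v ∈ A}
        add_mem' := fun {a b} ha hb => by
          show av hf d (a + b) ∈ A
          convert A.add_mem ha hb using 1; exact LinearMap.ext fun u => by simp [hf.add_right, add_smul]
        zero_mem' := by
          show av hf d 0 ∈ A
          convert A.zero_mem using 1; exact LinearMap.ext fun u => by simp [hf.zero_right]
        smul_mem' := fun r a ha => by
          show av hf d (r • a) ∈ A
          convert A.smul_mem r ha using 1; exact LinearMap.ext fun u => by simp [hf.smul_right', smul_smul] }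
    have : P = ⊤ := S.iso_span hd0 hd P fun u hu hud => by
      have := hcomp _ _ (hC d hd) (hC u hu)
      rw [Cop, Cop, S.av_comp] at this
      show av hf d u ∈ A
      simpa [smul_smul, inv_mul_cancel₀ hud] using A.smul_mem (f u d)⁻¹ this
    have h5 : v ∈ P := by rw [this]; exact Submodule.mem_top
    exact h5
  refine S.av_all (fun a b => ?_) T
  have := hcomp _ _ (hL hc0 hc a) (hR b)
  rwa [S.av_comp, hf.comm', hcd, one_smul] at this

/-- The squares of vectors of value κ generate every map. -/
theorem all_of_mirror {A : Submodule F ((Fin k → F) →ₗ[F] Fin k → F)} (hcomp : ∀ T T', T ∈ A → T' ∈ A → T ∘ₗ T' ∈ A)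
    (hC : ∀ z, f z z = κ → av S.hf z z ∈ A) (T : (Fin k → F) →ₗ[F] Fin k → F) : T ∈ A := by
  have hf := S.hf
  obtain ⟨x, hx⟩ := S.exists_aniso
  have hlink : ∀ z, f z z = κ → av hf z x ∈ A ∧ av hf x z ∈ A := by
    intro z hz
    have h2 : ∀ u v, f u u = κ → f v v = κ → f u v ≠ 0 → av hf u v ∈ A := fun u v hu hv huv => by
      have := hcomp _ _ (hC u hu) (hC v hv)
      rw [S.av_comp, hf.comm'] at this
      simpa [smul_smul, inv_mul_cancel₀ huv] using A.smul_mem (f u v)⁻¹ this
    by_cases h : f x z = 0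
    · obtain ⟨w, hw, h1, h3⟩ := S.exists_link hx hz h
      have hwx : f w x ≠ 0 := by rwa [hf.comm']
      have hzw : f z w ≠ 0 := by rwa [hf.comm']
      constructor
      · have := hcomp _ _ (h2 z w hz hw hzw) (h2 w x hw hx hwx)
        rw [S.av_comp, hw] at this
        simpa [smul_smul, inv_mul_cancel₀ S.hκ] using A.smul_mem κ⁻¹ this
      · have := hcomp _ _ (h2 x w hx hw h1) (h2 w z hw hz h3)
        rw [S.av_comp, hw] at this
        simpa [smul_smul, inv_mul_cancel₀ S.hκ] using A.smul_mem κ⁻¹ this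
    · exact ⟨h2 z x hz hx (by rwa [hf.comm']), h2 x z hx hz h⟩
  have hall : ∀ v, av hf v x ∈ A ∧ av hf x v ∈ A := fun v => by
    have : v ∈ Submodule.span F {z : Fin k → F | f z z = κ} := by rw [S.good_top]; exact Submodule.mem_top
    induction this using Submodule.span_induction with
    | mem z hz => exact hlink z hz
    | zero =>
      exact ⟨by convert A.zero_mem using 1; exact LinearMap.ext fun u => by simp,
        by convert A.zero_mem using 1; exact LinearMap.ext fun u => by simp [hf.zero_right]⟩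
    | add a b _ _ ha hb =>
      exact ⟨by convert A.add_mem ha.1 hb.1 using 1; exact LinearMap.ext fun u => by simp,
        by convert A.add_mem ha.2 hb.2 using 1; exact LinearMap.ext fun u => by simp [hf.add_right, add_smul]⟩
    | smul r a _ ha =>
      exact ⟨by convert A.smul_mem r ha.1 using 1; exact LinearMap.ext fun u => by simp [smul_smul, mul_comm],
        by convert A.smul_mem r ha.2 using 1; exact LinearMap.ext fun u => by simp [hf.smul_right', smul_smul]⟩
  refine S.av_all (fun a b => ?_) T
  have := hcomp _ _ (hall a).1 (hall b).2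
  rw [S.av_comp, hx] at this
  simpa [smul_smul, inv_mul_cancel₀ S.hκ] using A.smul_mem κ⁻¹ this

omit S in
/-- The maps of the slot l that commute with L. -/
noncomputable def commA (L : ((J → Fin k) → F) →ₗ[F] (J → Fin k) → F) (l : J) :
    Submodule F ((Fin k → F) →ₗ[F] Fin k → F) where
  carrier := {T | L ∘ₗ op l LinearMap.id T = op l LinearMap.id T ∘ₗ L}
  add_mem' {a b} ha hb := by
    show L ∘ₗ _ = _
    rw [op_add_right, LinearMap.comp_add, LinearMap.add_comp, show L ∘ₗ op l LinearMap.id a = _ from ha,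
      show L ∘ₗ op l LinearMap.id b = _ from hb]
  zero_mem' := by
    show L ∘ₗ _ = _
    rw [op_zero_right, LinearMap.comp_zero, LinearMap.zero_comp]
  smul_mem' r a ha := by
    show L ∘ₗ _ = _
    rw [op_smul_right, LinearMap.comp_smul, LinearMap.smul_comp, show L ∘ₗ op l LinearMap.id a = _ from ha]

omit S in
theorem commA_comp (L : ((J → Fin k) → F) →ₗ[F] (J → Fin k) → F) (l : J) (T T' : (Fin k → F) →ₗ[F] Fin k → F)
    (h : T ∈ commA L l) (h' : T' ∈ commA L l) : T ∘ₗ T' ∈ commA L l := by
  show L ∘ₗ _ = _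
  rw [← LinearMap.id_comp (LinearMap.id : (Rest l k → F) →ₗ[F] _), ← op_comp, ← LinearMap.comp_assoc,
    show L ∘ₗ op l LinearMap.id T = _ from h, LinearMap.comp_assoc, show L ∘ₗ op l LinearMap.id T' = _ from h',
    ← LinearMap.comp_assoc]

/-- Commuting with the root members of every slot but one. -/
theorem comm_roots (i : J) {L : ((J → Fin k) → F) →ₗ[F] (J → Fin k) → F}
    (h : ∀ (l : J) (c w : Fin k → F), l ≠ i → f c c = 0 → f w c = 0 →
      L ∘ₗ mvLin (fac l (eA S.hf c w)) = mvLin (fac l (eA S.hf c w)) ∘ₗ L) :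
    ∃ T₀ : (Fin k → F) →ₗ[F] Fin k → F, L = op i LinearMap.id T₀ := by
  refine comm_slot_all (by have := S.hk; omega) i fun l T => ?_
  refine S.all_of_iso (A := commA L (l : J)) (commA_comp L l) (fun c hc => ?_) T
  by_cases hc0 : c = 0
  · subst hc0
    rw [show Cop S.hf (0 : Fin k → F) = 0 from LinearMap.ext fun u => by simp]
    exact (commA L (l : J)).zero_mem
  obtain ⟨d, hd, hcd⟩ := S.exists_pair hc0 hc
  obtain ⟨w, hwc, -, hw⟩ := S.exists_W_aniso hc hd hcd
  have hw' : f (-w) c = 0 := by rw [S.hf.neg_left, hwc, neg_zero]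
  have hmem : ∀ u, f u c = 0 → mvLin (eA S.hf c u) ∈ commA L (l : J) := fun u hu => by
    show L ∘ₗ _ = _
    rw [← mvLin_fac]
    exact h l c u l.2 hc hu
  have hid : (LinearMap.id : (Fin k → F) →ₗ[F] Fin k → F) ∈ commA L (l : J) := by
    show L ∘ₗ _ = _
    rw [op_one, LinearMap.comp_id, LinearMap.id_comp]
  have e : Cop S.hf c = (-(f w w)⁻¹) • (mvLin (eA S.hf c w) + mvLin (eA S.hf c (-w)) - (2 : F) • LinearMap.id) := by
    refine LinearMap.ext fun x => ?_
    show _ = (-(f w w)⁻¹) • (mv (eA S.hf c w) x + mv (eA S.hf c (-w)) x - (2 : F) • x)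
    rw [mv_eA S.hf S.two hc hwc, mv_eA S.hf S.two hc hw', Elin_apply, Elin_apply, Aop_Aop S.hf hc hwc hwc,
      Aop_Aop S.hf hc hw' hw', Aop_neg, LinearMap.neg_apply, S.hf.neg_left, S.hf.neg_right]
    have := S.two
    match_scalars <;> field_simp <;> ring
  rw [e]
  exact Submodule.smul_mem _ _ (Submodule.sub_mem _ (Submodule.add_mem _ (hmem w hwc) (hmem _ hw'))
    (Submodule.smul_mem _ _ hid))

/-- Commuting with the mirrors of value κ of every slot but one. -/
theorem comm_mirrors (i : J) {L : ((J → Fin k) → F) →ₗ[F] (J → Fin k) → F}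
    (h : ∀ (l : J) (z : Fin k → F), l ≠ i → f z z = κ →
      L ∘ₗ mvLin (fac l (mr S.hf z)) = mvLin (fac l (mr S.hf z)) ∘ₗ L) :
    ∃ T₀ : (Fin k → F) →ₗ[F] Fin k → F, L = op i LinearMap.id T₀ := by
  refine comm_slot_all (by have := S.hk; omega) i fun l T => ?_
  refine S.all_of_mirror (A := commA L (l : J)) (commA_comp L l) (fun z hz => ?_) T
  have hid : (LinearMap.id : (Fin k → F) →ₗ[F] Fin k → F) ∈ commA L (l : J) := by
    show L ∘ₗ _ = _
    rw [op_one, LinearMap.comp_id, LinearMap.id_comp]
  have hM : mvLin (mr S.hf z) ∈ commA L (l : J) := by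
    show L ∘ₗ _ = _
    rw [← mvLin_fac]
    exact h l z l.2 hz
  have e : av S.hf z z = (κ / 2) • (mvLin (mr S.hf z) + LinearMap.id) := by
    refine LinearMap.ext fun x => ?_
    show _ = (κ / 2) • (mv (mr S.hf z) x + x)
    rw [mv_mr S.hf (hz ▸ S.hκ), hz, av_apply, sub_add_cancel, smul_smul]
    have := S.two; have := S.hκ
    congr 1
    field_simp
  rw [e]
  exact Submodule.smul_mem _ _ (Submodule.add_mem _ hM hid)

end Sl

/-! ### Maps carrying the maps of one slot to maps of one slot -/

theorem op_id_injective {i : J} (hk : 0 < k) {T T' : (Fin k → F) →ₗ[F] Fin k → F}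
    (h : op i LinearMap.id T = op i LinearMap.id T') : T = T' := by
  haveI : NeZero k := ⟨by omega⟩
  obtain ⟨w, l, hl⟩ : ∃ (w : Rest i k → F) (l : (Rest i k → F) →ₗ[F] F), l w = 1 :=
    ⟨Pi.single (fun _ => 0) 1, LinearMap.proj fun _ => 0, by simp⟩
  refine LinearMap.ext fun v => funext fun p => ?_
  have := congrArg (fun z => cr i (Pi.single p 1) z) (LinearMap.congr_fun h (ins i v w))
  simp only [op_ins, LinearMap.id_apply, cr_ins, single_one_dotProduct] at this
  have := congrArg l this
  simpa [hl] using this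

theorem ins_vec_inj {i : J} {u : Rest i k → F} (hu : u ≠ 0) {a b : Fin k → F} (h : ins i a u = ins i b u) : a = b :=
  funext fun p => by
    have := congrArg (fun z => cr i (Pi.single p 1) z) h
    simp only [cr_ins, single_one_dotProduct] at this
    exact smul_left_injective F hu this

/-- The maps of one slot go to maps of one slot: all of them, once the converse holds. -/
theorem slot_onto (hk : 0 < k) {g : GL (J → Fin k) F} {i l : J}
    (h : ∀ T' : (Fin k → F) →ₗ[F] Fin k → F, ∃ T,
      op l LinearMap.id T' ∘ₗ mvLin g = mvLin g ∘ₗ op i LinearMap.id T)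
    (T : (Fin k → F) →ₗ[F] Fin k → F) :
    ∃ T', mvLin g ∘ₗ op i LinearMap.id T = op l LinearMap.id T' ∘ₗ mvLin g := by
  choose φ hφ using h
  have hcan : ∀ {T T' : (Fin k → F) →ₗ[F] Fin k → F},
      mvLin g ∘ₗ op i LinearMap.id T = mvLin g ∘ₗ op i LinearMap.id T' → T = T' := fun e =>
    op_id_injective hk (LinearMap.ext fun z => mv_inj g (LinearMap.congr_fun e z))
  let Φ : ((Fin k → F) →ₗ[F] Fin k → F) →ₗ[F] ((Fin k → F) →ₗ[F] Fin k → F) :=
    { toFun := φ
      map_add' := fun a b => hcan (by
        rw [op_add_right, LinearMap.comp_add, ← hφ, ← hφ, ← hφ, op_add_right, LinearMap.add_comp])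
      map_smul' := fun r a => hcan (by
        rw [RingHom.id_apply, op_smul_right, LinearMap.comp_smul, ← hφ, ← hφ, op_smul_right, LinearMap.smul_comp]) }
  have hinj : Function.Injective Φ := fun a b e => by
    have e' : φ a = φ b := e
    refine op_id_injective (i := l) hk (LinearMap.ext fun z => ?_)
    have h1 := LinearMap.congr_fun (hφ a) (mv g⁻¹ z)
    rw [e', ← hφ b] at h1
    have e3 : mvLin g (mv g⁻¹ z) = z := mv_mv_inv g z
    simp only [LinearMap.comp_apply, e3] at h1
    exact h1
  obtain ⟨T', hT'⟩ := LinearMap.surjective_of_injective hinj T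
  exact ⟨T', by rw [← show φ T' = T from hT', hφ]⟩

variable (hf : Sym f)
include hf

/-- Such a map carries lines to lines. -/
theorem lines_of_slot (hk : 0 < k) {g : GL (J → Fin k) F} {i l : J}
    (h : ∀ T : (Fin k → F) →ₗ[F] Fin k → F, ∃ T', mvLin g ∘ₗ op i LinearMap.id T = op l LinearMap.id T' ∘ₗ mvLin g)
    {y : Fin k → F} (hy : y ≠ 0) : ∃ e, e ≠ 0 ∧ (Ln i y).map (mvLin g) = Ln l e := by
  haveI : NeZero k := ⟨by omega⟩
  obtain ⟨q, hq⟩ : ∃ q, f y q = 1 := by
    obtain ⟨z, hz⟩ : ∃ z, f y z ≠ 0 := by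
      by_contra hh; push Not at hh; exact hy (hf.nondeg y hh)
    exact ⟨(f y z)⁻¹ • z, by rw [hf.smul_right', inv_mul_cancel₀ hz]⟩
  obtain ⟨T', hT'⟩ := h (av hf y q)
  have hrange : ∀ z, op i LinearMap.id (av hf y q) z ∈ Ln i y := fun z => by
    have : (LinearMap.range (op i LinearMap.id (av hf y q))) ≤ Ln i y := by
      rintro _ ⟨z, rfl⟩
      refine mem_Ln_of_cr hy fun φ hφ => ?_
      refine LinearMap.congr_fun (f := (cr i φ).comp (op i LinearMap.id (av hf y q))) (g := 0)
        (ext_ins i fun v w => ?_) z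
      rw [LinearMap.comp_apply, op_ins, cr_ins, av_apply, dotProduct_smul, hφ, smul_zero, zero_smul,
        LinearMap.zero_apply]
    exact this ⟨z, rfl⟩
  obtain ⟨u, hu⟩ : ∃ u, T' u ≠ 0 := by
    by_contra h0
    push Not at h0
    have e0 : T' = 0 := LinearMap.ext h0
    have := LinearMap.congr_fun hT' (ins i y (Pi.single (fun _ => 0) 1))
    rw [LinearMap.comp_apply, op_ins, e0, op_zero_right, LinearMap.zero_comp, LinearMap.zero_apply, av_apply, hq,
      one_smul, LinearMap.id_apply] at this
    exact Pi.single_ne_zero_iff.2 (one_ne_zero (α := F))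
      (ins_injective i hy ((mv_inj g (this.trans (mv_zero g).symm)).trans (map_zero _).symm))
  refine ⟨T' u, hu, (Submodule.eq_of_le_of_finrank_le (fun z hz => ?_) (by
    rw [finrank_map_gl, finrank_Ln _ hy, finrank_Ln _ hu, card_rest_same l i hk])).symm⟩
  obtain ⟨w, rfl⟩ := mem_Ln_ins hz
  refine mem_map_gl.2 ⟨op i LinearMap.id (av hf y q) (mv g⁻¹ (ins l u w)), hrange _, ?_⟩
  have := LinearMap.congr_fun hT' (mv g⁻¹ (ins l u w))
  rw [LinearMap.comp_apply, LinearMap.comp_apply, show mvLin g (mv g⁻¹ (ins l u w)) = ins l u w from mv_mv_inv g _,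
    op_ins, LinearMap.id_apply] at this
  exact this

/-- Such a map is a pure tensor of two maps, once it carries one line to a line. -/
theorem split_of_slot (hk : 0 < k) {g : GL (J → Fin k) F} {i l : J}
    (h : ∀ T : (Fin k → F) →ₗ[F] Fin k → F, ∃ T', mvLin g ∘ₗ op i LinearMap.id T = op l LinearMap.id T' ∘ₗ mvLin g) :
    ∃ (A : (Fin k → F) →ₗ[F] Fin k → F) (R : (Rest i k → F) ≃ₗ[F] (Rest l k → F)),
      Function.Injective A ∧ ∀ y u, mv g (ins i y u) = ins l (A y) (R u) := by
  haveI : NeZero k := ⟨by omega⟩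
  obtain ⟨c, hc⟩ : ∃ c : Fin k → F, c ≠ 0 := ⟨Pi.single 0 1, Pi.single_ne_zero_iff.2 one_ne_zero⟩
  obtain ⟨c', hc', hmap⟩ := lines_of_slot hf hk h hc
  obtain ⟨φ, hφ⟩ := exists_dot_one hc'
  set R₀ : (Rest i k → F) →ₗ[F] Rest l k → F := cr l φ ∘ₗ mvLin g ∘ₗ ins i c
  have hR : ∀ u, mv g (ins i c u) = ins l c' (R₀ u) := fun u => by
    obtain ⟨w, hw⟩ := mem_Ln_ins (hmap ▸ mem_map_gl.2 ⟨_, ins_mem i c u, rfl⟩ : mv g (ins i c u) ∈ Ln l c')
    show _ = ins l c' (cr l φ (mv g (ins i c u)))
    rw [← hw, cr_ins, hφ, one_smul]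
  have hinj : Function.Injective R₀ := fun a b e => ins_injective i hc (mv_inj g (by rw [hR, hR, e]))
  set R : (Rest i k → F) ≃ₗ[F] (Rest l k → F) := LinearEquiv.ofInjectiveOfFinrankEq R₀ hinj (by
    rw [Module.finrank_fintype_fun_eq_card, Module.finrank_fintype_fun_eq_card, card_rest_same i l hk])
  obtain ⟨q, hq⟩ : ∃ q, f c q = 1 := by
    obtain ⟨z, hz⟩ : ∃ z, f c z ≠ 0 := by
      by_contra hh; push Not at hh; exact hc (hf.nondeg c hh)
    exact ⟨(f c z)⁻¹ • z, by rw [hf.smul_right', inv_mul_cancel₀ hz]⟩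
  choose T' hT' using fun y : Fin k → F => h (av hf y q)
  have hAy : ∀ y u, mv g (ins i y u) = ins l (T' y c') (R u) := fun y u => by
    have := LinearMap.congr_fun (hT' y) (ins i c u)
    rw [LinearMap.comp_apply, LinearMap.comp_apply, op_ins, av_apply, hq, one_smul, LinearMap.id_apply,
      show mvLin g (ins i c u) = ins l c' (R₀ u) from hR u, op_ins, LinearMap.id_apply] at this
    exact this
  set u₀ : Rest i k → F := Pi.single (fun _ => 0) 1
  have hu₀ : u₀ ≠ 0 := Pi.single_ne_zero_iff.2 one_ne_zero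
  have hRu : R u₀ ≠ 0 := fun e => hu₀ (R.injective (e.trans (map_zero R).symm))
  refine ⟨{ toFun := fun y => T' y c'
            map_add' := fun a b => ins_vec_inj hRu (by
              rw [← hAy, ins_add_vec, mv_add, hAy, hAy, ins_add_vec])
            map_smul' := fun r a => ins_vec_inj hRu (by
              rw [← hAy, ins_smul_vec, mv_smul, hAy, RingHom.id_apply, ins_smul_vec]) }, R, fun a b e => ?_, hAy⟩
  refine ins_vec_inj hu₀ (mv_inj g ?_)
  rw [hAy, hAy, show T' a c' = T' b c' from e]

end Cfsg.Agent.OrthWreath
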