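/-
Members centralising all the roots along one isotropic line.
-/
import Cfsg.Agent.Lib.OrthWreath.Slots

set_option autoImplicit false
set_option linter.unusedSectionVars false

namespace Cfsg.Agent.OrthWreath

open scoped Matrix
open Matrix Cfsg.Agent.Transvec Cfsg.Agent.TensorMax Cfsg.Agent.WreathMax Cfsg.Agent.FormWreath
open Cfsg.Agent.UWreath (Has)

variable {F : Type*} [Field F] [Finite F] {k : ℕ} {J : Type} [Fintype J] [DecidableEq J]
variable {f : (Fin k → F) → (Fin k → F) → F} {κ : F}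

local notation "σ₁" => RingEquiv.refl F

/-- The invertible map of an injective one. -/
theorem exists_gl_of_injective {ι : Type} [Fintype ι] [DecidableEq ι] (L : (ι → F) →ₗ[F] ι → F)
    (hL : Function.Injective L) : ∃ g : GL ι F, ∀ x, mv g x = L x := by
  have hu : IsUnit (LinearMap.toMatrix' L) := by
    rw [← Matrix.mulVec_injective_iff_isUnit]
    intro u v h
    exact hL (by simpa [LinearMap.toMatrix'_mulVec] using h)
  obtain ⟨g, hg⟩ := hu
  exact ⟨g, fun x => by
    show (g : Matrix ι ι F) *ᵥ x = L x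
    rw [hg, LinearMap.toMatrix'_mulVec]⟩

theorem ins_zero_vec (i : J) (u : Rest i k → F) : ins i (0 : Fin k → F) u = 0 := by
  simp [ins_apply, ten_zero_right]

/-- A root member on the orthogonal of its line. -/
theorem mv_eA_line (hf : Sym f) (h2 : (2 : F) ≠ 0) (i : J) {c w : Fin k → F} (hc : f c c = 0) (hw : f w c = 0)
    {y : (J → Fin k) → F} (hy : cr i (frow f c) y = 0) :
    mv (fac i (eA hf c w)) y = y - ins i c (cr i (frow f w) y) := by
  have hw' : f (-w) c = 0 := by rw [hf.neg_left, hw, neg_zero]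
  refine eq_of_frow hf i fun b => ?_
  have e1 : cr i (frow f b) (mv (fac i (eA hf c w)) y) = cr i (frow f (mv (eA hf c (-w)) b)) y :=
    cr_fac i _ (fun v => by
      rw [hf.frow_dot, hf.frow_dot]
      conv_lhs => rw [← eA_isom hf h2 hc hw' (mv (eA hf c w) v) b]
      rw [← mv_mul, eA_mul hf h2 hc hw' hw, neg_add_cancel, eA_zero hf h2 hc, mv_one]) _
  rw [e1, map_sub, cr_ins' hf, mv_eA hf h2 hc hw', Elin_apply, Aop_Aop hf hc hw' hw', Aop_neg,
    LinearMap.neg_apply, Aop_apply, Cop_apply, hf.comm' c b]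
  simp only [cr, hf.frow_add, hf.frow_smul, RingEquiv.refl_apply, sub_eq_add_neg, ctr_add_vec, ctr_smul_vec,
    neg_add, neg_neg, ← neg_smul, LinearMap.comp_apply, LinearMap.add_apply, LinearMap.smul_apply, smul_smul] at hy ⊢
  rw [hy, smul_zero, smul_zero, add_zero, add_zero]

/-- On the line of c the map b, on its orthogonal b and a multiple of c given by w. -/
def P1 (f : (Fin k → F) → (Fin k → F) → F) (i : J) (c : Fin k → F) (s : GL (J → Fin k) F) (b : GL (Rest i k) F)
    (w : Fin k → F) : Prop :=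
  (∀ u, mv s (ins i c u) = ins i c (mv b u)) ∧
    ∀ z, f z c = 0 → ∀ u, mv s (ins i z u) = ins i z (mv b u) - f z w • ins i c (mv b u)

theorem P1.mul (hf : Sym f) {i : J} {c : Fin k → F} {s s' : GL (J → Fin k) F} {b b' : GL (Rest i k) F}
    {w w' : Fin k → F} (h : P1 f i c s b w) (h' : P1 f i c s' b' w') : P1 f i c (s * s') (b * b') (w + w') := by
  refine ⟨fun u => by rw [mv_mul, h'.1, h.1, mv_mul], fun z hz u => ?_⟩
  rw [mv_mul, h'.2 z hz, mv_sub, mv_smul, h.1, h.2 z hz, mv_mul, hf.add_right]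
  module

theorem P1.inv (hf : Sym f) {i : J} {c : Fin k → F} {s : GL (J → Fin k) F} {b : GL (Rest i k) F}
    {w : Fin k → F} (h : P1 f i c s b w) : P1 f i c s⁻¹ b⁻¹ (-w) := by
  have h1 : ∀ u, mv s⁻¹ (ins i c u) = ins i c (mv b⁻¹ u) := fun u => by
    rw [mv_eq_iff, inv_inv, h.1, mv_mv_inv]
  refine ⟨h1, fun z hz u => ?_⟩
  rw [mv_eq_iff, inv_inv, mv_sub, mv_smul, h.2 z hz, h.1, mv_mv_inv, hf.neg_right]
  module

theorem P1.uniq (hk : 0 < k) (hf : Sym f) {i : J} {c : Fin k → F} (hc0 : c ≠ 0) {s : GL (J → Fin k) F}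
    {b b' : GL (Rest i k) F} {w w' : Fin k → F} (h : P1 f i c s b w) (h' : P1 f i c s b' w') :
    b = b' ∧ ∀ z, f z c = 0 → f z w = f z w' := by
  haveI : NeZero k := ⟨by omega⟩
  have hb : b = b' := ext_mv fun u => ins_injective i hc0 (by rw [← h.1, ← h'.1])
  subst hb
  refine ⟨rfl, fun z hz => ?_⟩
  set u₀ : Rest i k → F := Pi.single (fun _ => 0) 1
  have e := h.2 z hz (mv b⁻¹ u₀)
  rw [h'.2 z hz, mv_mv_inv] at e
  have e' : (f z w - f z w') • ins i c u₀ = 0 := by linear_combination (norm := module) e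
  rcases smul_eq_zero.1 e' with e2 | e2
  · exact sub_eq_zero.1 e2
  · exact absurd (ins_injective i hc0 (e2.trans (map_zero _).symm)) (Pi.single_ne_zero_iff.2 one_ne_zero)

variable {Q : ((J → Fin k) → F) → F} {X : Subgroup (GL (J → Fin k) F)}

namespace Ctx

variable (C : Ctx f Q κ X)
include C

/-- Isometries preserving a line preserve its orthogonal. -/
theorem cr_map {g : GL (J → Fin k) F} (hg : g ∈ isometryGroup F Q) {i l : J} {c c' : Fin k → F}
    (hL : (Ln i c).map (mvLin g) = Ln l c') {z : Fin k → F} (hz : f z c = 0) (u : Rest i k → F) :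
    cr l (frow f c') (mv g (ins i z u)) = 0 := by
  refine (Bt_sym C.hf).nondeg _ fun w => ?_
  rw [← Bt_ins C.hf]
  obtain ⟨y, hy, he⟩ := mem_map_gl.1 (hL.symm ▸ ins_mem l c' w : ins l c' w ∈ (Ln i c).map (mvLin g))
  obtain ⟨u', rfl⟩ := mem_Ln_ins hy
  rw [← he, C.pres hg, Bt_ins_ins C.hf, hz, zero_mul]

variable (hJ : 2 ≤ Fintype.card J) (hX : ¬ Geo.omegaGL Q ≤ X)
include hJ hX

/-- A member carrying a line to a line carries its roots to roots. -/
theorem conj_root {g : GL (J → Fin k) F} (hg : g ∈ X) {i l : J} {c c' : Fin k → F} (hc : f c c = 0)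
    (hc'0 : c' ≠ 0) (hc' : f c' c' = 0) (hL : (Ln i c).map (mvLin g) = Ln l c') {w : Fin k → F} (hw : f w c = 0) :
    ∃ w', f w' c' = 0 ∧ g * fac i (eA C.hf c w) * g⁻¹ = fac l (eA C.hf c' w') := by
  have hf := C.hf
  have hLi : (Ln l c').map (mvLin g⁻¹) = Ln i c := by rw [← hL, map_gl_inv]
  refine C.qrad hJ hX l hc'0 hc' (X.mul_mem (X.mul_mem hg (C.root i c w hc hw)) (X.inv_mem hg)) (fun u => ?_)
    fun v hv u => ?_
  · obtain ⟨w₀, hw₀⟩ := mem_Ln_ins (hLi ▸ mem_map_gl.2 ⟨_, ins_mem l c' u, rfl⟩ : mv g⁻¹ (ins l c' u) ∈ Ln i c)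
    rw [mv_mul, mv_mul, ← hw₀, mv_fac_ins, eA_fix_perp hf C.two hc hw hc, show f c w = 0 by rw [hf.comm', hw],
      zero_smul, sub_zero, hw₀, mv_mv_inv]
  · have h0 := C.cr_map (C.iso (X.inv_mem hg)) hLi hv u
    rw [mv_mul, mv_mul, mv_eA_line hf C.two i hc hw h0, mv_sub, mv_mv_inv, sub_sub_cancel_left]
    exact (Ln l c').neg_mem (hL ▸ mem_map_gl.2 ⟨_, ins_mem i c _, rfl⟩)

/-- A member centralising the roots along the line of c has a scalar middle part. -/
theorem exists_P1 {s : GL (J → Fin k) F} (hs : s ∈ X) {i : J} {c : Fin k → F} (hc0 : c ≠ 0) (hc : f c c = 0)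
    (hcomm : ∀ w, f w c = 0 → s * fac i (eA C.hf c w) = fac i (eA C.hf c w) * s) :
    ∃ b w, f w c = 0 ∧ (∀ x y, Bt σ₁ f (mv b x) (mv b y) = Bt σ₁ f x y) ∧ P1 f i c s b w := by
  classical
  have hf := C.hf
  have h2 := C.two
  haveI : NeZero k := ⟨by have := C.hk; omega⟩
  obtain ⟨d, hd, hcd⟩ := C.toSl.exists_pair hc0 hc
  obtain ⟨x, hxc, hxd, hx⟩ := C.toSl.exists_W_aniso hc hd hcd
  have hdc : f d c = 1 := by rw [hf.comm', hcd]
  have hopc : ∀ z, mv s (op i LinearMap.id (Cop hf c) z) = op i LinearMap.id (Cop hf c) (mv s z) := by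
    intro z
    have hw' : f (-x) c = 0 := by rw [hf.neg_left, hxc, neg_zero]
    have e : op (k := k) i LinearMap.id (Cop hf c) =
        (-(f x x)⁻¹) • (mvLin (fac i (eA hf c x)) + mvLin (fac i (eA hf c (-x))) - (2 : F) • LinearMap.id) := by
      refine ext_ins i fun v u => ?_
      show _ = (-(f x x)⁻¹) • (mv (fac i (eA hf c x)) (ins i v u) + mv (fac i (eA hf c (-x))) (ins i v u) -
        (2 : F) • ins i v u)
      rw [op_ins, mv_fac_ins, mv_fac_ins, mv_eA hf h2 hc hxc, mv_eA hf h2 hc hw', Elin_apply, Elin_apply,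
        Aop_Aop hf hc hxc hxc, Aop_Aop hf hc hw' hw', Aop_neg, LinearMap.neg_apply, hf.neg_left, hf.neg_right,
        LinearMap.id_apply]
      simp only [ins_add_vec, ins_smul_vec, ← neg_one_smul F (Aop hf c x v)]
      match_scalars <;> field_simp <;> ring
    rw [e]
    simp only [LinearMap.smul_apply, LinearMap.sub_apply, LinearMap.add_apply, LinearMap.id_apply]
    show mv s ((-(f x x)⁻¹) • (mv (fac i (eA hf c x)) z + mv (fac i (eA hf c (-x))) z - (2 : F) • z)) =
      (-(f x x)⁻¹) • (mv (fac i (eA hf c x)) (mv s z) + mv (fac i (eA hf c (-x))) (mv s z) - (2 : F) • mv s z)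
    rw [mv_smul, mv_sub, mv_add, mv_smul, ← mv_mul, ← mv_mul, hcomm x hxc, hcomm _ hw', mv_mul, mv_mul]
  set α : (Rest i k → F) →ₗ[F] Rest i k → F := cr i (frow f d) ∘ₗ mvLin s ∘ₗ ins i c with hα
  have hsc : ∀ u, mv s (ins i c u) = ins i c (α u) := fun u => by
    have e1 : ins i c u = op i LinearMap.id (Cop hf c) (ins i d u) := by
      rw [op_ins, Cop_apply, hdc, one_smul, LinearMap.id_apply]
    have e2 : ∀ y, op i LinearMap.id (Cop hf c) y = ins i c (cr i (frow f c) y) := fun y => by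
      refine LinearMap.congr_fun (f := op i LinearMap.id (Cop hf c)) (g := (ins i c).comp (cr i (frow f c)))
        (ext_ins i fun v u => ?_) y
      rw [op_ins, LinearMap.comp_apply, cr_ins' hf, map_smul, Cop_apply, ins_smul_vec, LinearMap.id_apply]
    show _ = ins i c (cr i (frow f d) (mv s (ins i c u)))
    rw [e1, hopc, e2, cr_ins' hf, hcd, one_smul]
  have hinj : Function.Injective α := fun a a' e => ins_injective i hc0 (mv_inj s (by rw [hsc, hsc, e]))
  obtain ⟨b, hb⟩ := exists_gl_of_injective α hinj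
  have hb1 : ∀ u, mv s (ins i c u) = ins i c (mv b u) := fun u => by rw [hb, hsc]
  have hmap : (Ln i c).map (mvLin s) = Ln i c := Submodule.eq_of_le_of_finrank_le (fun z hz => by
    obtain ⟨y, hy, rfl⟩ := mem_map_gl.1 hz
    obtain ⟨u, rfl⟩ := mem_Ln_ins hy
    rw [hb1]; exact ins_mem i c _) (by rw [finrank_map_gl])
  have hmid : ∀ z, f z c = 0 → ∀ u, mv s (ins i z u) - ins i z (mv b u) ∈ Ln i c := by
    intro z hz u
    refine mem_Ln_of_cr hc0 fun φ hφ => ?_
    obtain ⟨w, rfl⟩ := hf.frow_surj (fun _ => rfl) φ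
    rw [hf.frow_dot, hf.comm'] at hφ
    have e := congrArg (fun g => mv g (ins i z u)) (hcomm w hφ)
    simp only [mv_mul] at e
    rw [mv_fac_ins, eA_fix_perp hf h2 hc hφ hz, mv_eA_line hf h2 i hc hφ (C.cr_map (C.iso hs) hmap hz u),
      ins_sub_vec, ins_smul_vec, mv_sub, mv_smul, hb1, sub_right_inj, ← map_smul] at e
    rw [map_sub, cr_ins' hf, ins_injective i hc0 e.symm, sub_self]
  have hbiso : ∀ u v, Bt σ₁ f (mv b u) (mv b v) = Bt σ₁ f u v := fun u v => by
    obtain ⟨m, hm⟩ := mem_Ln_ins (hmid x hxc u)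
    obtain ⟨m', hm'⟩ := mem_Ln_ins (hmid x hxc v)
    have e := C.pres (C.iso hs) (ins i x u) (ins i x v)
    rw [eq_sub_iff_add_eq] at hm hm'
    rw [← hm, ← hm', (Bt_sym hf).add_left, (Bt_sym hf).add_right, (Bt_sym hf).add_right, Bt_ins_ins hf,
      Bt_ins_ins hf, Bt_ins_ins hf, Bt_ins_ins hf, Bt_ins_ins hf, hc, hxc, hf.comm' c x, hxc] at e
    exact mul_left_cancel₀ hx (by linear_combination e)
  -- the middle part
  set N : (Fin k → F) →ₗ[F] (Rest i k → F) →ₗ[F] Rest i k → F :=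
    { toFun := fun z => cr i (frow f d) ∘ₗ mvLin s ∘ₗ ins i z ∘ₗ mvLin b⁻¹ - f z d • LinearMap.id
      map_add' := fun a a' => LinearMap.ext fun u => by
        simp [ins_add_vec, hf.add_left, add_smul, Matrix.mulVec_add]
        abel
      map_smul' := fun r a => LinearMap.ext fun u => by
        simp [ins_smul_vec, hf.smul_left, smul_sub, smul_smul, Matrix.mulVec_smul] } with hN
  have hN' : ∀ z, f z c = 0 → ∀ u, mv s (ins i z (mv b⁻¹ u)) = ins i z u + ins i c (N z u) := by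
    intro z hz u
    obtain ⟨m, hm⟩ := mem_Ln_ins (hmid z hz (mv b⁻¹ u))
    rw [mv_mv_inv] at hm
    have : N z u = m := by
      show cr i (frow f d) (mv s (ins i z (mv b⁻¹ u))) - f z d • u = m
      rw [← cr_ins' hf i d z u, ← map_sub, ← hm, cr_ins' hf, hcd, one_smul]
    rw [this, hm, add_sub_cancel]
  set Sc : Submodule F ((Rest i k → F) →ₗ[F] Rest i k → F) := Submodule.span F {LinearMap.id}
  have key : ∀ (T : GL (Fin k) F) (a : F), fac i T ∈ X → mv T c = a • c → ∀ y, f y c = 0 → f y y ≠ 0 →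
      mv T y = y → a ≠ 1 → N y ∈ Sc := by
    intro T a hT hTc y hy hyy hTy ha
    set τ := fac (J := J) i T
    have hT' : mv T⁻¹ y = y := by rw [mv_eq_iff, inv_inv, hTy]
    have hTc' : mv T⁻¹ c = a⁻¹ • c := by
      have ha0 : a ≠ 0 := fun e => hc0 (mv_inj T (by rw [hTc, e, zero_smul, mv_zero]))
      rw [mv_eq_iff, inv_inv, mv_smul, hTc, smul_smul, inv_mul_cancel₀ ha0, one_smul]
    have hgp : ∀ z, f z c = 0 → f (mv T⁻¹ z) c = 0 := fun z hz => by
      have hTi := C.pres (C.iso hT)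
      have h1 : ∀ u, Bt σ₁ f (ins i (mv T⁻¹ z) u) (ins i c u) = 0 := fun u => by
        rw [← hTi, mv_fac_ins, mv_fac_ins, mv_mv_inv, hTc, ins_smul_vec, (Bt_sym hf).smul_right', Bt_ins_ins hf,
          hz, zero_mul, mul_zero]
      obtain ⟨u, hu⟩ : ∃ u : Rest i k → F, Bt σ₁ f u u ≠ 0 := by
        obtain ⟨e, he⟩ := C.toSl.exists_aniso
        exact ⟨pten fun _ => e, by
          rw [Bt_pten hf]; exact Finset.prod_ne_zero_iff.2 fun _ _ => he ▸ C.hκ⟩
      have := h1 u
      rw [Bt_ins_ins hf] at this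
      exact (mul_eq_zero.1 this).resolve_right hu
    have ha0 : a ≠ 0 := fun e => hc0 (mv_inj T (by rw [hTc, e, zero_smul, mv_zero]))
    have hs' : ∀ u, mv (τ * s * τ⁻¹) (ins i c u) = ins i c (mv b u) := fun u => by
      rw [mv_mul, mv_mul, fac_inv, mv_fac_ins, hTc', ins_smul_vec, mv_smul, hb1, ← ins_smul_vec, mv_fac_ins,
        mv_smul, hTc, smul_smul, inv_mul_cancel₀ ha0, one_smul]
    have hs'z : ∀ z, f z c = 0 → ∀ u, mv (τ * s * τ⁻¹) (ins i z (mv b⁻¹ u)) =
        ins i z u + a • ins i c (N (mv T⁻¹ z) u) := fun z hz u => by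
      rw [mv_mul, mv_mul, fac_inv, mv_fac_ins, hN' _ (hgp z hz), mv_add, mv_fac_ins, mv_fac_ins, mv_mv_inv, hTc,
        ins_smul_vec]
    have hh : τ * s * τ⁻¹ * s⁻¹ ∈ X := X.mul_mem (X.mul_mem (X.mul_mem hT hs) (X.inv_mem hT)) (X.inv_mem hs)
    have hsi : ∀ u, mv s⁻¹ (ins i c u) = ins i c (mv b⁻¹ u) := fun u => by
      rw [mv_eq_iff, inv_inv, hb1, mv_mv_inv]
    have hsz : ∀ z, f z c = 0 → ∀ u, mv (τ * s * τ⁻¹ * s⁻¹) (ins i z u) =
        ins i z u + ins i c (a • N (mv T⁻¹ z) u - N z u) := fun z hz u => by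
      have e : mv s⁻¹ (ins i z u) = ins i z (mv b⁻¹ u) - ins i c (mv b⁻¹ (N z u)) := by
        rw [mv_eq_iff, inv_inv, mv_sub, hN' z hz, hb1, mv_mv_inv, add_sub_cancel_right]
      rw [mv_mul, e, mv_sub, hs'z z hz, hs', mv_mv_inv, map_sub, map_smul]
      abel
    obtain ⟨w, hwc, hw⟩ := C.qrad hJ hX i hc0 hc hh (fun u => by rw [mv_mul, hsi, hs', mv_mv_inv])
      (fun z hz u => by rw [hsz z hz, add_sub_cancel_left]; exact ins_mem i c _)
    refine Submodule.mem_span_singleton.2 ⟨-f y w / (a - 1), ?_⟩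
    refine LinearMap.ext fun u => ins_injective i hc0 ?_
    have e := hsz y hy u
    rw [hw, mv_fac_ins, eA_fix_perp hf h2 hc hwc hy, hT', ins_sub_vec, ins_smul_vec, sub_eq_add_neg,
      add_right_inj, map_sub, map_smul] at e
    have ha1 : a - 1 ≠ 0 := sub_ne_zero.2 ha
    refine smul_right_injective _ ha1 ?_
    show (a - 1) • _ = (a - 1) • _
    rw [LinearMap.smul_apply, LinearMap.id_apply, map_smul, smul_smul, mul_div_cancel₀ _ ha1]
    linear_combination (norm := module) e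
  have hall : ∀ z, f z c = 0 → N z ∈ Sc := by
    intro z hz
    by_cases h5 : 5 ≤ k
    · have := C.toSl.good_span h5 hc0 hc (Sc.mkQ ∘ₗ N) (fun y hyc hy => by
        simp only [LinearMap.comp_apply, Submodule.mkQ_apply, Submodule.Quotient.mk_eq_zero]
        have hy0 : f y y ≠ 0 := hy ▸ C.hκ
        refine key (mr hf y) (-1) (C.mir i y hy) ?_ y hyc hy0 (mr_self hf hy0) fun e => h2 (by
          linear_combination -e)
        rw [mr_perp hf hy0 (show f c y = 0 by rw [hf.comm', hyc]), neg_one_smul]) hz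
      simpa only [LinearMap.comp_apply, Submodule.mkQ_apply, Submodule.Quotient.mk_eq_zero] using this
    · have h3 : k = 3 := by
        obtain ⟨m, hm⟩ := C.odd
        have := C.hk
        omega
      obtain ⟨t, ht0, ht1⟩ := C.toSl.exists_sq_ne_one (C.hq.resolve_right h5)
      obtain ⟨T, hT, hTc, hTx⟩ := C.exists_torus hc0 hc hxc hx ht0
      have hNc : N c ∈ Sc := by
        have : N c = 0 := LinearMap.ext fun u => by
          show cr i (frow f d) (mv s (ins i c (mv b⁻¹ u))) - f c d • u = 0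
          rw [hb1, mv_mv_inv, cr_ins' hf, sub_self]
        rw [this]; exact Sc.zero_mem
      rw [C.toSl.decomp3 hc hd hcd h3 hxc hxd hx z]
      simp only [hz, zero_smul, add_zero, map_add, map_smul]
      exact Sc.add_mem (Sc.smul_mem _ hNc) (Sc.smul_mem _ (key T (t * t) (hT.2 i) hTc x hxc hx hTx ht1))
  set u₁ : Rest i k → F := Pi.single (fun _ => 0) 1 with hu₁
  set φ : (Fin k → F) →ₗ[F] F :=
    { toFun := fun v => N (v - f v c • d) u₁ (fun _ => 0)
      map_add' := fun a a' => by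
        simp only [hf.add_left, add_smul, map_add, map_sub, LinearMap.add_apply, LinearMap.sub_apply,
          Pi.add_apply, Pi.sub_apply]
        ring
      map_smul' := fun r a => by
        simp only [hf.smul_left, mul_smul, map_sub, map_smul, LinearMap.smul_apply, LinearMap.sub_apply,
          Pi.smul_apply, Pi.sub_apply, smul_eq_mul, RingHom.id_apply]
        ring }
  have hNφ : ∀ v, f v c = 0 → N v = φ v • LinearMap.id := fun v hv => by
    obtain ⟨r, hr⟩ := Submodule.mem_span_singleton.1 (hall v hv)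
    have : φ v = r := by
      show N (v - f v c • d) u₁ (fun _ => 0) = r
      rw [hv, zero_smul, sub_zero, ← hr, LinearMap.smul_apply, LinearMap.id_apply, Pi.smul_apply, hu₁,
        Pi.single_eq_same, smul_eq_mul, mul_one]
    rw [this, hr]
  obtain ⟨w₀, hw₀⟩ : ∃ w₀, ∀ v, f v w₀ = φ v := by
    obtain ⟨w₀, hw⟩ := hf.frow_surj (fun _ => rfl) fun a => φ (Pi.single a 1)
    refine ⟨w₀, fun v => ?_⟩
    rw [← hf.frow_dot, hw, dotProduct]
    conv_rhs => rw [← Finset.univ_sum_single v, map_sum]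
    refine Finset.sum_congr rfl fun a _ => ?_
    rw [show (Pi.single a (v a) : Fin k → F) = v a • Pi.single a 1 by
      rw [← Pi.single_smul, smul_eq_mul, mul_one], map_smul, smul_eq_mul, mul_comm]
  refine ⟨b, -w₀, ?_, hbiso, hb1, fun z hz u => ?_⟩
  · rw [hf.neg_left, hf.comm', hw₀]
    show -N (c - f c c • d) u₁ (fun _ => 0) = 0
    rw [hc, zero_smul, sub_zero]
    show -(cr i (frow f d) (mv s (ins i c (mv b⁻¹ u₁))) - f c d • u₁) (fun _ => 0) = 0
    rw [hb1, mv_mv_inv, cr_ins' hf, sub_self, Pi.zero_apply, neg_zero]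
  · have := hN' z hz (mv b u)
    rw [mv_inv_mv, hNφ z hz, LinearMap.smul_apply, LinearMap.id_apply, map_smul] at this
    rw [this, hf.neg_right, hw₀]
    module

end Ctx

end Cfsg.Agent.OrthWreath
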