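/-
Members of the form (1 + C ⊗ K) (1 ⊗ b) along one isotropic line are pure.
-/
import Cfsg.Agent.Lib.OrthWreath.Mid

set_option autoImplicit false
set_option linter.unusedSectionVars false

namespace Cfsg.Agent.OrthWreath

open scoped Matrix
open Matrix Cfsg.Agent.Transvec Cfsg.Agent.TensorMax Cfsg.Agent.WreathMax Cfsg.Agent.FormWreath
open Cfsg.Agent.UWreath (Loc loc_pten loc_comp loc_id Has loc_conj_fac loc_congr)

variable {F : Type*} [Field F] [Finite F] {k : ℕ} {J : Type} [Fintype J] [DecidableEq J]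
variable {f : (Fin k → F) → (Fin k → F) → F} {κ : F}

local notation "σ₁" => RingEquiv.refl F

/-- Proper groups over the monomial part are monomial for all smaller index types. -/
def Ind (f : (Fin k → F) → (Fin k → F) → F) (κ : F) (J : Type) [Fintype J] : Prop :=
  ∀ (J' : Type) [Fintype J'] [DecidableEq J'], Fintype.card J' < Fintype.card J →
    ∀ (Q' : ((J' → Fin k) → F) → F) (X' : Subgroup (GL (J' → Fin k) F)),
      Base f Q' κ → Ctx f Q' κ X' → ¬ Geo.omegaGL Q' ≤ X' → ∀ g ∈ X', Mono g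

variable {Q : ((J → Fin k) → F) → F} {X : Subgroup (GL (J → Fin k) F)}

theorem Base.rest_mono (B : Base f Q κ) (IH : Ind f κ J) (i : J) {X' : Subgroup (GL (Rest i k) F)}
    (le : X' ≤ Geo.omegaGL (qf (Bt (J := {j // j ≠ i}) σ₁ f)))
    (hmono : ∀ g ∈ Geo.omegaGL (qf (Bt (J := {j // j ≠ i}) σ₁ f)), Mono g → g ∈ X')
    (hne : 2 ≤ Fintype.card {j // j ≠ i} → ¬ Geo.omegaGL (qf (Bt (J := {j // j ≠ i}) σ₁ f)) ≤ X')
    {g : GL (Rest i k) F} (hg : g ∈ X') : Mono g := by
  have hcard : Fintype.card {j // j ≠ i} + 1 = Fintype.card J := by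
    rw [Fintype.card_subtype_compl, Fintype.card_subtype_eq]
    have := Fintype.card_pos_iff.2 ⟨i⟩
    omega
  by_cases h2 : 2 ≤ Fintype.card {j // j ≠ i}
  · exact IH _ (by omega) _ X' (B.rest i h2) ((B.rest i h2).ctx le hmono) (hne h2) g hg
  · have := B.hJ
    exact mono_of_card_one (by omega) g

/-! ### An element of the commutator subgroup that is not monomial -/

/-- The displacement C ⊗ A on two slots. -/
noncomputable def rhoLin (hf : Sym f) (j m : J) (c x : Fin k → F) : ((J → Fin k) → F) →ₗ[F] (J → Fin k) → F :=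
  op j LinearMap.id (Cop hf c) ∘ₗ op m LinearMap.id (Aop hf c x)

theorem rhoLin_pten (hf : Sym f) {j m : J} (hjm : j ≠ m) (c x : Fin k → F) (y : J → Fin k → F) :
    rhoLin hf j m c x (pten y) =
      pten (Function.update (Function.update y m (Aop hf c x (y m))) j (Cop hf c (y j))) := by
  rw [rhoLin, LinearMap.comp_apply, op_pten, op_pten, Function.update_of_ne hjm]

theorem rhoLin_sq (hf : Sym f) {j m : J} (hjm : j ≠ m) {c : Fin k → F} (hc : f c c = 0) (x : Fin k → F) :
    rhoLin hf j m c x ∘ₗ rhoLin hf j m c x = 0 := eq_of_pten fun y => by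
  rw [LinearMap.comp_apply, rhoLin_pten hf hjm, rhoLin_pten hf hjm, LinearMap.zero_apply,
    Function.update_self, Cop_Cop hf hc]
  funext a
  rw [pten_upd_apply, Pi.zero_apply, zero_mul, Pi.zero_apply]

/-- The member with that displacement. -/
noncomputable def rho (hf : Sym f) {j m : J} (hjm : j ≠ m) {c : Fin k → F} (hc : f c c = 0) (x : Fin k → F) :
    GL (J → Fin k) F :=
  sh (rhoLin hf j m c x) fun y => LinearMap.congr_fun (rhoLin_sq hf hjm hc x) y

theorem mv_rho (hf : Sym f) {j m : J} (hjm : j ≠ m) {c : Fin k → F} (hc : f c c = 0) (x : Fin k → F)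
    (y : (J → Fin k) → F) : mv (rho hf hjm hc x) y = y + rhoLin hf j m c x y :=
  mv_sh _ _ y

theorem rho_pres (hf : Sym f) {j m : J} (hjm : j ≠ m) {c : Fin k → F} (hc : f c c = 0) (x : Fin k → F)
    (u v : (J → Fin k) → F) :
    Bt σ₁ f (mv (rho hf hjm hc x) u) (mv (rho hf hjm hc x) v) = Bt σ₁ f u v := by
  have hB : Sym (Bt (J := J) σ₁ f) := Bt_sym hf
  refine pres_of_pten' hf (fun a b => ?_) u v
  rw [mv_rho, mv_rho, hB.add_left, hB.add_right, hB.add_right, rhoLin_pten hf hjm, rhoLin_pten hf hjm,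
    Bt_pten hf, Bt_pten hf, Bt_pten hf, Bt_pten hf]
  rw [Finset.prod_eq_zero (f := fun l => f ((Function.update (Function.update a m (Aop hf c x (a m))) j
      (Cop hf c (a j))) l) ((Function.update (Function.update b m (Aop hf c x (b m))) j (Cop hf c (b j))) l))
    (Finset.mem_univ j) (by
      rw [Function.update_self, Function.update_self, Cop_apply, Cop_apply, hf.smul_left, hf.smul_right', hc,
        mul_zero, mul_zero])]
  have hm : m ∈ Finset.univ.erase j := Finset.mem_erase.2 ⟨Ne.symm hjm, Finset.mem_univ m⟩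
  simp only [← Finset.mul_prod_erase Finset.univ _ (Finset.mem_univ j), ← Finset.mul_prod_erase _ _ hm,
    Function.update_self, Function.update_of_ne (Ne.symm hjm)]
  rw [Aop_adj hf, Cop_apply, Cop_apply, hf.smul_left, hf.smul_right']
  have e : ∀ l ∈ (Finset.univ.erase j).erase m, ∀ (y : J → Fin k → F) (p q : Fin k → F),
      Function.update (Function.update y m p) j q l = y l := fun l hl y p q => by
    obtain ⟨h1, h2⟩ := Finset.mem_erase.1 hl
    rw [Function.update_of_ne (Finset.ne_of_mem_erase h2), Function.update_of_ne h1]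
  have ea : ∀ p q : Fin k → F, ∏ l ∈ (Finset.univ.erase j).erase m, f (Function.update (Function.update a m p) j q l) (b l) =
      ∏ l ∈ (Finset.univ.erase j).erase m, f (a l) (b l) := fun p q =>
    Finset.prod_congr rfl fun l hl => by rw [e l hl a]
  have eb : ∀ p q : Fin k → F, ∏ l ∈ (Finset.univ.erase j).erase m, f (a l) (Function.update (Function.update b m p) j q l) =
      ∏ l ∈ (Finset.univ.erase j).erase m, f (a l) (b l) := fun p q =>
    Finset.prod_congr rfl fun l hl => by rw [e l hl b]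
  rw [ea, eb, hf.comm' (a j) c, hf.comm' (b j) c]
  ring

theorem rho_pow (hf : Sym f) {j m : J} (hjm : j ≠ m) {c : Fin k → F} (hc : f c c = 0) (x : Fin k → F) (p : ℕ)
    [CharP F p] : rho hf hjm hc x ^ p = 1 := by
  refine ext_mv fun y => ?_
  rw [rho, sh_pow, CharP.cast_eq_zero, zero_smul, add_zero, mv_one]

theorem rho_omega (B : Base f Q κ) {j m : J} (hjm : j ≠ m) {c : Fin k → F} (hc : f c c = 0) (x : Fin k → F) :
    rho B.hf hjm hc x ∈ Geo.omegaGL Q := by
  haveI : Fintype F := Fintype.ofFinite F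
  obtain ⟨p, hp⟩ := CharP.exists F
  haveI := hp
  have hpp : p.Prime := CharP.char_is_prime F p
  exact OrthTensor.omega_of_odd B.hQ B.two (by have := B.card_ge; omega) (B.mem_iso (rho_pres B.hf hjm hc x))
    ((hpp.odd_of_ne_two fun e => B.two (by subst e; exact CharP.cast_eq_zero F 2)).of_dvd_nat
      (orderOf_dvd_of_pow_eq_one (rho_pow B.hf hjm hc x p)))

theorem rho_fac_comm (hf : Sym f) {j m : J} (hjm : j ≠ m) {c : Fin k → F} (hc : f c c = 0) (x : Fin k → F)
    {l : J} {T : GL (Fin k) F} (hj : l = j → mvLin T ∘ₗ Cop hf c = Cop hf c ∘ₗ mvLin T)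
    (hm : l = m → mvLin T ∘ₗ Aop hf c x = Aop hf c x ∘ₗ mvLin T) :
    fac l T * rho hf hjm hc x = rho hf hjm hc x * fac l T := by
  have e : mvLin (fac l T) ∘ₗ rhoLin hf j m c x = rhoLin hf j m c x ∘ₗ mvLin (fac l T) := eq_of_pten fun y => by
    show mv (fac l T) (rhoLin hf j m c x (pten y)) = rhoLin hf j m c x (mv (fac l T) (pten y))
    rw [rhoLin_pten hf hjm, mv_fac, mv_fac, rhoLin_pten hf hjm]
    refine congrArg pten (funext fun a => ?_)
    by_cases ha : a = j
    · subst ha
      by_cases hl : l = a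
      · subst hl
        simp only [Function.update_self]
        exact LinearMap.congr_fun (hj rfl) _
      · simp [Function.update_of_ne (Ne.symm hl)]
    by_cases ha' : a = m
    · subst ha'
      by_cases hl : l = a
      · subst hl
        simp only [Function.update_self, Function.update_of_ne ha]
        exact LinearMap.congr_fun (hm rfl) _
      · simp [Function.update_of_ne (Ne.symm hl), Function.update_of_ne ha]
    by_cases hl : l = a
    · subst hl
      simp [Function.update_of_ne ha, Function.update_of_ne ha']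
    · simp [Function.update_of_ne (Ne.symm hl), Function.update_of_ne ha, Function.update_of_ne ha']
  refine ext_mv fun y => ?_
  rw [mv_mul, mv_mul, mv_rho, mv_rho, mv_add]
  exact congrArg _ (LinearMap.congr_fun e y)

theorem eA_Cop (hf : Sym f) (h2 : (2 : F) ≠ 0) {c w : Fin k → F} (hc : f c c = 0) (hw : f w c = 0) :
    mvLin (eA hf c w) ∘ₗ Cop hf c = Cop hf c ∘ₗ mvLin (eA hf c w) :=
  LinearMap.ext fun v => by
    show mv (eA hf c w) (Cop hf c v) = Cop hf c (mv (eA hf c w) v)
    rw [mv_eA hf h2 hc hw, mv_eA hf h2 hc hw, Elin_apply, Elin_apply, Aop_Cop hf hc hw, map_zero, smul_zero,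
      add_zero, add_zero, map_add, map_add, map_smul, Cop_Aop hf hc hw, Cop_Aop hf hc hw, smul_zero, add_zero,
      add_zero]

theorem eA_Aop (hf : Sym f) (h2 : (2 : F) ≠ 0) {c w : Fin k → F} (hc : f c c = 0) (hw : f w c = 0) :
    mvLin (eA hf c w) ∘ₗ Aop hf c w = Aop hf c w ∘ₗ mvLin (eA hf c w) :=
  LinearMap.ext fun v => by
    show mv (eA hf c w) (Aop hf c w v) = Aop hf c w (mv (eA hf c w) v)
    rw [mv_eA hf h2 hc hw, mv_eA hf h2 hc hw, Elin_apply, Elin_apply, map_add, map_add, map_smul]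

/-! ### Lifts -/

/-- The member is (1 + C ⊗ K) (1 ⊗ b). -/
def Lift (hf : Sym f) (i : J) (c : Fin k → F) (Z : GL (J → Fin k) F) (b : GL (Rest i k) F)
    (K : (Rest i k → F) →ₗ[F] Rest i k → F) : Prop :=
  mvLin Z = (LinearMap.id + op i K (Cop hf c)) ∘ₗ mvLin (up i b)

theorem op_neg_self (i : J) (K : (Rest i k → F) →ₗ[F] Rest i k → F) (T : (Fin k → F) →ₗ[F] Fin k → F) :
    op i (-K) T = -op i K T := op_neg_left i K T

theorem Lift.ins {hf : Sym f} {i : J} {c : Fin k → F} {Z : GL (J → Fin k) F} {b : GL (Rest i k) F} {K}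
    (h : Lift hf i c Z b K) (v : Fin k → F) (u : Rest i k → F) :
    mv Z (ins i v u) = FormWreath.ins i v (mv b u) + FormWreath.ins i (Cop hf c v) (K (mv b u)) := by
  have := LinearMap.congr_fun h (FormWreath.ins i v u)
  rw [LinearMap.comp_apply, mvLin_up, op_ins, LinearMap.id_apply, LinearMap.add_apply, LinearMap.id_apply,
    op_ins] at this
  exact this

theorem lift_of_ins {hf : Sym f} {i : J} {c : Fin k → F} {Z : GL (J → Fin k) F} {b : GL (Rest i k) F}
    {K : (Rest i k → F) →ₗ[F] Rest i k → F}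
    (h : ∀ v u, mv Z (ins i v u) = FormWreath.ins i v (mv b u) + FormWreath.ins i (Cop hf c v) (K (mv b u))) :
    Lift hf i c Z b K := ext_ins i fun v u => by
  rw [LinearMap.comp_apply, mvLin_up, op_ins, LinearMap.id_apply, LinearMap.add_apply, LinearMap.id_apply,
    op_ins]
  exact h v u

theorem Lift.mul {hf : Sym f} {i : J} {c : Fin k → F} (hc : f c c = 0) {Z Z' : GL (J → Fin k) F}
    {b b' : GL (Rest i k) F} {K K'} (h : Lift hf i c Z b K) (h' : Lift hf i c Z' b' K') :
    Lift hf i c (Z * Z') (b * b') (K + cj b K') := lift_of_ins fun v u => by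
  rw [mv_mul, h'.ins, mv_add, h.ins, h.ins, Cop_Cop hf hc, ins_zero_vec, add_zero,
    LinearMap.add_apply, map_add, cj_apply, mv_mul, mv_inv_mv]
  abel

theorem Lift.inv {hf : Sym f} {i : J} {c : Fin k → F} (hc : f c c = 0) {Z : GL (J → Fin k) F}
    {b : GL (Rest i k) F} {K} (h : Lift hf i c Z b K) : Lift hf i c Z⁻¹ b⁻¹ (-cj b⁻¹ K) := lift_of_ins fun v u => by
  rw [mv_eq_iff, inv_inv, mv_add, h.ins, h.ins, Cop_Cop hf hc, ins_zero_vec, add_zero,
    LinearMap.neg_apply, cj_apply, inv_inv, mv_mv_inv, mv_neg, mv_mv_inv, map_neg]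
  abel

theorem lift_one (hf : Sym f) (i : J) (c : Fin k → F) : Lift hf i c 1 1 0 := by
  rw [Lift, map_one, op_zero_left, add_zero, LinearMap.id_comp]

theorem lift_up (hf : Sym f) (i : J) (c : Fin k → F) (b : GL (Rest i k) F) : Lift hf i c (up i b) b 0 := by
  rw [Lift, op_zero_left, add_zero, LinearMap.id_comp]

theorem Lift.eq_up {hf : Sym f} {i : J} {c : Fin k → F} {Z : GL (J → Fin k) F} {b : GL (Rest i k) F}
    (h : Lift hf i c Z b 0) : Z = up i b :=
  ext_mv fun y => by
    have := LinearMap.congr_fun h y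
    rw [op_zero_left, add_zero, LinearMap.id_comp] at this
    exact this

theorem Lift.conj_self {hf : Sym f} {i : J} {c c' : Fin k → F} {Z : GL (J → Fin k) F} {b : GL (Rest i k) F} {K}
    (h : Lift hf i c Z b K) {T : GL (Fin k) F} (hT : ∀ x y, f (mv T x) (mv T y) = f x y) {a : F}
    (hTc : mv T c = a • c') : Lift hf i c' (fac i T * Z * (fac i T)⁻¹) b ((a * a) • K) := lift_of_ins fun v u => by
  rw [mv_mul, mv_mul, fac_inv, mv_fac_ins, h.ins, mv_add, mv_fac_ins, mv_fac_ins, mv_mv_inv, ← cj_apply,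
    cj_Cop hf hT, hTc, Cop_smul, LinearMap.smul_apply, LinearMap.smul_apply, ins_smul_vec, map_smul]

theorem Lift.conj_other {hf : Sym f} {i : J} {c : Fin k → F} {Z : GL (J → Fin k) F} {b : GL (Rest i k) F} {K}
    (h : Lift hf i c Z b K) (β : GL (Rest i k) F) :
    Lift hf i c (up i β * Z * (up i β)⁻¹) (β * b * β⁻¹) (cj β K) := lift_of_ins fun v u => by
  rw [mv_mul, mv_mul, ← map_inv, mv_up_ins, h.ins, mv_add, mv_up_ins, mv_up_ins, cj_apply, mv_mul, mv_mul,
    mv_inv_mv]

/-- A member acting as b on the line and its orthogonal. -/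
theorem exists_lift {X : Subgroup (GL (J → Fin k) F)} (C : Ctx f Q κ X) {i : J} {c : Fin k → F} (hc0 : c ≠ 0)
    (hc : f c c = 0) {s : GL (J → Fin k) F} (hs : s ∈ X) {b : GL (Rest i k) F} {w : Fin k → F}
    (hb : ∀ x y, Bt σ₁ f (mv b x) (mv b y) = Bt σ₁ f x y) (h : P1 f i c s b w)
    (hw : ∀ z, f z c = 0 → f z w = 0) : ∃ K, Lift C.hf i c s b K := by
  have hf := C.hf
  obtain ⟨d, hd, hcd⟩ := C.toSl.exists_pair hc0 hc
  have hdc : f d c = 1 := by rw [hf.comm', hcd]
  have hz : ∀ z, f z c = 0 → ∀ u, mv s (ins i z u) = ins i z (mv b u) := fun z hz u => by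
    rw [h.2 z hz, hw z hz, zero_smul, sub_zero]
  set M := cr i (frow f d) ∘ₗ mvLin s ∘ₗ ins i d
  have hdd : ∀ u, mv s (ins i d u) = ins i d (mv b u) + ins i c (M u) := by
    intro u
    have hD : mv s (ins i d u) - ins i d (mv b u) ∈ Ln i c := mem_Ln_of_cr hc0 fun φ hφ => by
      obtain ⟨z, rfl⟩ := hf.frow_surj (fun _ => rfl) φ
      rw [hf.frow_dot, hf.comm'] at hφ
      refine (Bt_sym hf).nondeg _ fun v => ?_
      have e := C.pres (C.iso hs) (ins i d u) (ins i z (mv b⁻¹ v))
      rw [hz z hφ, mv_mv_inv, Bt_ins_ins hf, ← hb u, mv_mv_inv] at e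
      rw [← Bt_ins hf, (Bt_sym hf).sub_left, e, Bt_ins_ins hf, sub_self]
    obtain ⟨m, hm⟩ := mem_Ln_ins hD
    have : M u = m := by
      show cr i (frow f d) (mv s (ins i d u)) = m
      rw [← sub_add_cancel (mv s (ins i d u)) (ins i d (mv b u)), ← hm, map_add, cr_ins' hf, cr_ins' hf, hcd, hd,
        one_smul, zero_smul, add_zero]
    rw [this, hm, add_sub_cancel]
  refine ⟨M ∘ₗ mvLin b⁻¹, lift_of_ins fun v u => ?_⟩
  obtain ⟨v', r, hv', rfl⟩ : ∃ v' r, f v' c = 0 ∧ v = v' + r • d :=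
    ⟨v - f v c • d, f v c, by simp [hf.sub_left, hf.smul_left, hdc], by abel⟩
  rw [LinearMap.comp_apply, Cop_apply, hf.add_left,
    hf.smul_left, hv', hdc, zero_add, mul_one, show mvLin b⁻¹ (mv b u) = u from mv_inv_mv b u]
  simp only [ins_add_vec, ins_smul_vec, mv_add, mv_smul, hz v' hv', hdd]
  module

namespace Ctx

variable (C : Ctx f Q κ X) (hJ : 2 ≤ Fintype.card J) (hX : ¬ Geo.omegaGL Q ≤ X)
include C hJ hX

theorem up_rho_not_mem (i : J) {j m : {l // l ≠ i}} (hjm : j ≠ m) {c x : Fin k → F} (hc0 : c ≠ 0) (hc : f c c = 0)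
    (hxc : f x c = 0) (hx : f x x ≠ 0) : up i (rho C.hf hjm hc x) ∉ X := by
  classical
  intro h
  have hf := C.hf
  haveI : NeZero k := ⟨by have := C.hk; omega⟩
  obtain ⟨d, hd, hcd⟩ := C.toSl.exists_pair hc0 hc
  have hjm' : (j : J) ≠ m := fun e => hjm (Subtype.ext e)
  set R : (Rest (j : J) k → F) →ₗ[F] Rest (j : J) k → F :=
    op (⟨(m : J), Ne.symm hjm'⟩ : {l // l ≠ (j : J)}) LinearMap.id (Aop hf c x)
  have e : op (j : J) R (Cop hf c) = op i (rhoLin hf j m c x) LinearMap.id := eq_of_pten fun y => by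
    have h1 : op i (rhoLin hf j m c x) LinearMap.id = op (j : J) LinearMap.id (Cop hf c) ∘ₗ
        op (m : J) LinearMap.id (Aop hf c x) := by
      rw [op_slot j, op_slot m, op_comp, LinearMap.id_comp]
      rfl
    have h2 : op (j : J) R (Cop hf c) = op (j : J) LinearMap.id (Cop hf c) ∘ₗ
        op (m : J) LinearMap.id (Aop hf c x) := by
      rw [op_slot (i := (j : J)) ⟨(m : J), Ne.symm hjm'⟩, op_comp, LinearMap.id_comp, LinearMap.comp_id]
    rw [h1, h2]
  have hH : Has X (op (j : J) R (Cop hf c)) := ⟨_, h, fun y => by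
    rw [e]
    refine LinearMap.congr_fun (f := mvLin (up i (rho hf hjm hc x))) (g := LinearMap.id + _) (ext_ins i fun v u => ?_) y
    show mv _ (ins i v u) = _
    rw [mv_up_ins, mv_rho, map_add, LinearMap.add_apply, LinearMap.id_apply, op_ins, LinearMap.id_apply]⟩
  have h0 := C.nr0 hJ hX (j : J) hc0 hc hH
  have := congrArg (fun R => R (pten fun _ : {l // l ≠ (j : J)} => d)) h0
  simp only [R, op_pten, LinearMap.zero_apply] at this
  refine pten_ne_zero (fun l => ?_) this
  by_cases hl : l = (⟨(m : J), Ne.symm hjm'⟩ : {l // l ≠ (j : J)})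
  · subst hl
    rw [Function.update_self, Aop_apply, hf.comm' d c, hcd]
    intro e0
    have := congrArg (fun v => f v x) e0
    simp only [hf.sub_left, hf.smul_left, hf.comm' c x, hxc, hf.zero_left, mul_zero, sub_zero, one_mul] at this
    exact hx this
  · rw [Function.update_of_ne hl]
    intro e0
    rw [e0, hf.zero_right] at hcd
    exact zero_ne_one hcd

/-- Lifts over the same member coincide. -/
theorem lift_uniq {i : J} {c : Fin k → F} (hc0 : c ≠ 0) (hc : f c c = 0) {Z Z' : GL (J → Fin k) F}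
    (hZ : Z ∈ X) (hZ' : Z' ∈ X) {b : GL (Rest i k) F} {K K'} (h : Lift C.hf i c Z b K)
    (h' : Lift C.hf i c Z' b K') : K = K' := by
  have hl := h.mul hc (h'.inv hc)
  rw [mul_inv_cancel] at hl
  have hH : Has X (op i (K - K') (Cop C.hf c)) := ⟨_, X.mul_mem hZ (X.inv_mem hZ'), fun y => by
    have := LinearMap.congr_fun hl y
    rw [map_one, LinearMap.comp_apply, show mvLin (1 : GL (J → Fin k) F) y = y from mv_one y] at this
    have e : K + cj b (-cj b⁻¹ K') = K - K' := LinearMap.ext fun u => by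
      simp only [LinearMap.add_apply, LinearMap.sub_apply, cj_apply, LinearMap.neg_apply, inv_inv]
      rw [mv_neg, mv_mv_inv, mv_mv_inv, sub_eq_add_neg]
    rw [e] at this
    exact this⟩
  exact sub_eq_zero.1 (C.nr0 hJ hX i hc0 hc hH)

set_option maxHeartbeats 1000000 in
/-- Lifts are pure. -/
theorem lift_K (B : Base f Q κ) (IH : Ind f κ J) (i : J) {c : Fin k → F} (hc0 : c ≠ 0) (hc : f c c = 0)
    {Z : GL (J → Fin k) F} (hZ : Z ∈ X) {b : GL (Rest i k) F}
    (hb : b ∈ Geo.omegaGL (qf (Bt (J := {j // j ≠ i}) σ₁ f))) {K} (h : Lift C.hf i c Z b K) : K = 0 := by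
  classical
  have hf := C.hf
  have h2 := C.two
  obtain ⟨d, hd, hcd⟩ := C.toSl.exists_pair hc0 hc
  have hdc : f d c = 1 := by rw [hf.comm', hcd]
  have hratio : ∀ {c' : Fin k → F} {Z' K'}, Z' ∈ X → f c c' = 0 → Lift hf i c' Z' b K' →
      Has X (op i K' (Cop hf c') - op i K (Cop hf c)) := fun {c' Z' K'} hZ' hcc' h' =>
    ⟨Z' * Z⁻¹, X.mul_mem hZ' (X.inv_mem hZ), fun y => by
      obtain ⟨v, rfl⟩ : ∃ v, y = mv Z v := ⟨mv Z⁻¹ y, (mv_mv_inv Z y).symm⟩
      rw [mv_mul, mv_inv_mv, show mv Z' v = mvLin Z' v from rfl, h', show mv Z v = mvLin Z v from rfl, h]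
      simp only [LinearMap.comp_apply, LinearMap.add_apply, LinearMap.id_apply, LinearMap.sub_apply, map_add]
      set z := mvLin (up i b) v
      have e1 : op i K' (Cop hf c') (op i K (Cop hf c) z) = 0 := by
        rw [← LinearMap.comp_apply, op_comp, show Cop hf c' ∘ₗ Cop hf c = 0 from LinearMap.ext fun u => by
          simp [hf.smul_left, hcc'], op_zero_right, LinearMap.zero_apply]
      have e2 : op i K (Cop hf c) (op i K (Cop hf c) z) = 0 := by
        rw [← LinearMap.comp_apply, op_comp, Cop_sq hf hc, op_zero_right, LinearMap.zero_apply]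
      rw [e1, e2]
      abel⟩
  by_cases h5 : 5 ≤ k
  · obtain ⟨e, e', hec, hed, he, -, -, -, hee'⟩ := C.toSl.exists_W_pair hc hd hcd h5
    have he0 : e ≠ 0 := fun e0 => by rw [e0, hf.zero_left] at hee'; exact zero_ne_one hee'
    have hm : ∀ t : F, ∃ Z' ∈ X, Lift hf i (c + t • e) Z' b K := fun t => by
      have hv : f ((-t) • d) e = 0 := by rw [hf.smul_left, hf.comm', hed, mul_zero]
      refine ⟨_, X.mul_mem (X.mul_mem (C.root i e _ he hv) hZ) (X.inv_mem (C.root i e _ he hv)), ?_⟩
      have := h.conj_self (T := eA hf e ((-t) • d)) (eA_isom hf h2 he hv) (a := 1) (c' := c + t • e) (by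
        rw [mv_eA hf h2 he hv, Elin_apply, Aop_Aop hf he hv hv, Cop_apply, Aop_apply, one_smul,
          show f c e = 0 by rw [hf.comm', hec], hf.smul_right', hcd]
        module)
      rwa [one_mul, one_smul] at this
    obtain ⟨Z₁, hZ₁, h₁⟩ := hm 1
    obtain ⟨Z₂, hZ₂, h₂⟩ := hm (-1)
    have hp : ∀ t : F, f c (c + t • e) = 0 := fun t => by
      rw [hf.add_right, hf.smul_right', hc, hf.comm', hec, mul_zero, add_zero]
    have H := (hratio hZ₁ (hp 1) h₁).add (hratio hZ₂ (hp (-1)) h₂) (ext_ins i fun v u => by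
      simp only [LinearMap.comp_apply, LinearMap.sub_apply, op_ins, Cop_apply, map_sub, LinearMap.zero_apply,
        hf.add_left, hf.add_right, hf.smul_left, hf.smul_right', hc, hec, he, hf.comm' c e]
      simp only [hf.smul_left, hf.smul_right', hf.add_left, hf.add_right, hc, hec, he, hf.comm' c e, mul_zero,
        add_zero, zero_smul, ins_zero_vec, sub_self])
    have e1 : op i K (Cop hf (c + (1 : F) • e)) - op i K (Cop hf c) +
        (op i K (Cop hf (c + (-1 : F) • e)) - op i K (Cop hf c)) = op i ((2 : F) • K) (Cop hf e) := by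
      rw [op_smul_left, ← op_smul_right]
      refine ext_ins i fun v u => ?_
      simp only [LinearMap.sub_apply, LinearMap.add_apply, op_ins, Cop_apply, LinearMap.smul_apply, hf.add_right,
        hf.smul_right', smul_add, ins_add_vec, ins_smul_vec]
      module
    rw [e1] at H
    exact (smul_eq_zero.1 (C.nr0 hJ hX i he0 he H)).resolve_left h2
  have h3 : k = 3 := by
    obtain ⟨m, hm⟩ := C.odd
    have := C.hk
    omega
  have hq : 5 ≤ Nat.card F := C.hq.resolve_right h5
  obtain ⟨x, hxc, hxd, hx⟩ := C.toSl.exists_W_aniso hc hd hcd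
  by_cases hl : ∃ l : F, l ≠ 0 ∧ l ^ 4 ≠ 1
  · obtain ⟨l, hl0, hl4⟩ := hl
    obtain ⟨T, hT, hTc, -⟩ := C.exists_torus hc0 hc hxc hx hl0
    have h' := h.conj_self (T := T) hT.1 hTc
    have H := hratio (X.mul_mem (X.mul_mem (hT.2 i) hZ) (X.inv_mem (hT.2 i))) hc h'
    rw [sub_eq_add_neg, ← op_neg_self, ← op_add_left] at H
    have e : (l * l * (l * l)) • K + -K = (l ^ 4 - 1) • K := by module
    rw [e] at H
    exact (smul_eq_zero.1 (C.nr0 hJ hX i hc0 hc H)).resolve_left (sub_ne_zero.2 hl4)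
  push Not at hl
  haveI : Fintype F := Fintype.ofFinite F
  have hF5 : (5 : F) = 0 := by
    have hcard : Fintype.card F ≤ 5 := by
      have hsub : (Finset.univ : Finset F).erase 0 ⊆ (Polynomial.nthRoots 4 (1 : F)).toFinset := fun a ha => by
        rw [Multiset.mem_toFinset, Polynomial.mem_nthRoots (by norm_num)]
        exact hl a (Finset.ne_of_mem_erase ha)
      have h1 := (Finset.card_le_card hsub).trans ((Multiset.toFinset_card_le _).trans (Polynomial.card_nthRoots 4 _))
      rw [Finset.card_erase_of_mem (Finset.mem_univ _), Finset.card_univ] at h1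
      omega
    have h5' : Fintype.card F = 5 := by rw [Nat.card_eq_fintype_card] at hq; omega
    have := Nat.cast_card_eq_zero F
    rw [h5'] at this
    exact_mod_cast this
  let X2 : Subgroup (GL (Rest i k) F) :=
    { carrier := {b | b ∈ Geo.omegaGL (qf (Bt (J := {j // j ≠ i}) σ₁ f)) ∧ ∃ Z ∈ X, ∃ K, Lift hf i c Z b K}
      one_mem' := ⟨Subgroup.one_mem _, 1, X.one_mem, 0, lift_one hf i c⟩
      mul_mem' := fun {a b} ⟨ha, Z, hZ, K, h⟩ ⟨hb, Z', hZ', K', h'⟩ =>
        ⟨Subgroup.mul_mem _ ha hb, _, X.mul_mem hZ hZ', _, h.mul hc h'⟩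
      inv_mem' := fun {a} ⟨ha, Z, hZ, K, h⟩ => ⟨Subgroup.inv_mem _ ha, _, X.inv_mem hZ, _, h.inv hc⟩ }
  have hbm : Mono b := by
    refine B.rest_mono IH i (X' := X2) (fun g hg => hg.1) (fun g hg hm => ⟨hg, _, C.mono _ (B.up_omega i hg)
      (up_mono i hm), 0, lift_up hf i c g⟩) (fun hrest hle => ?_) ⟨hb, Z, hZ, K, h⟩
    obtain ⟨j, m, hjm⟩ := Fintype.exists_pair_of_one_lt_card (α := {j // j ≠ i}) (by omega)
    obtain ⟨-, Z₀, hZ₀, K₀, h₀⟩ := hle (rho_omega (B.rest i hrest) hjm hc x)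
    set ρ := rho hf hjm hc x
    suffices hK₀ : K₀ = 0 by
      subst hK₀
      exact C.up_rho_not_mem hJ hX i hjm hc0 hc hxc hx (h₀.eq_up ▸ hZ₀)
    -- the lift commutes with the roots of the two slots
    have hcomm : ∀ (l : {j // j ≠ i}) (w : Fin k → F), f w c = 0 →
        fac l (eA hf c w) * ρ = ρ * fac l (eA hf c w) →
        K₀ ∘ₗ op l LinearMap.id (mvLin (eA hf c w)) = op l LinearMap.id (mvLin (eA hf c w)) ∘ₗ K₀ := by
      intro l w hw hlw
      have hup : up i (fac l (eA hf c w)) ∈ X := by rw [up_fac]; exact C.root _ c w hc hw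
      have h' := h₀.conj_other (fac l (eA hf c w))
      rw [hlw, mul_inv_cancel_right] at h'
      have e := C.lift_uniq hJ hX hc0 hc (X.mul_mem (X.mul_mem hup hZ₀) (X.inv_mem hup)) hZ₀ h' h₀
      rw [← mvLin_fac]
      refine LinearMap.ext fun y => ?_
      have := LinearMap.congr_fun e (mv (fac l (eA hf c w)) y)
      rw [cj_apply, mv_inv_mv] at this
      exact this.symm
    have hxc' : f (-x) c = 0 := by rw [hf.neg_left, hxc, neg_zero]
    have hA : Aop hf c x = (2⁻¹ : F) • (mvLin (eA hf c x) - mvLin (eA hf c (-x))) := LinearMap.ext fun v => by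
      show _ = (2⁻¹ : F) • (mv (eA hf c x) v - mv (eA hf c (-x)) v)
      rw [mv_eA hf h2 hc hxc, mv_eA hf h2 hc hxc', Elin_apply, Elin_apply, Aop_neg, LinearMap.neg_apply,
        LinearMap.neg_apply, map_neg, neg_neg]
      match_scalars <;> field_simp <;> ring
    have hC' : Cop hf c = (-(f x x)⁻¹) • (mvLin (eA hf c x) + mvLin (eA hf c (-x)) - (2 : F) • LinearMap.id) :=
      LinearMap.ext fun v => by
        show _ = (-(f x x)⁻¹) • (mv (eA hf c x) v + mv (eA hf c (-x)) v - (2 : F) • v)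
        rw [mv_eA hf h2 hc hxc, mv_eA hf h2 hc hxc', Elin_apply, Elin_apply, Aop_Aop hf hc hxc hxc,
          Aop_Aop hf hc hxc' hxc', Aop_neg, LinearMap.neg_apply, hf.neg_left, hf.neg_right]
        match_scalars <;> field_simp <;> ring
    have hmem : ∀ (l : {j // j ≠ i}) (w : Fin k → F), (w = x ∨ w = -x) →
        K₀ ∘ₗ op l LinearMap.id (mvLin (eA hf c w)) = op l LinearMap.id (mvLin (eA hf c w)) ∘ₗ K₀ := by
      intro l w hw
      have hwc : f w c = 0 := by rcases hw with rfl | rfl <;> assumption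
      refine hcomm l w hwc (rho_fac_comm hf hjm hc x (fun _ => eA_Cop hf h2 hc hwc) fun _ => ?_)
      rcases hw with rfl | rfl
      · exact eA_Aop hf h2 hc hxc
      · rw [show Aop hf c x = -Aop hf c (-x) by rw [Aop_neg, neg_neg], LinearMap.comp_neg, LinearMap.neg_comp,
          eA_Aop hf h2 hc hxc']
    have hidA : ∀ l : {j // j ≠ i}, (LinearMap.id : (Fin k → F) →ₗ[F] _) ∈ Sl.commA K₀ l := fun l => by
      show K₀ ∘ₗ _ = _
      rw [op_one, LinearMap.comp_id, LinearMap.id_comp]
    have hCl : ∀ l : {j // j ≠ i}, Cop hf c ∈ Sl.commA K₀ l := fun l => by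
      rw [hC']
      exact Submodule.smul_mem _ _ (Submodule.sub_mem _ (Submodule.add_mem _ (hmem l x (Or.inl rfl))
        (hmem l _ (Or.inr rfl))) (Submodule.smul_mem _ _ (hidA l)))
    have hAl : ∀ l : {j // j ≠ i}, Aop hf c x ∈ Sl.commA K₀ l := fun l => by
      rw [hA]
      exact Submodule.smul_mem _ _ (Submodule.sub_mem _ (hmem l x (Or.inl rfl)) (hmem l _ (Or.inr rfl)))
    have hKC : K₀ ∘ₗ op j LinearMap.id (Cop hf c) = op j LinearMap.id (Cop hf c) ∘ₗ K₀ := hCl j
    have hKA : K₀ ∘ₗ op m LinearMap.id (Aop hf c x) = op m LinearMap.id (Aop hf c x) ∘ₗ K₀ := hAl m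
    have hKCm : K₀ ∘ₗ op m LinearMap.id (Cop hf c) = op m LinearMap.id (Cop hf c) ∘ₗ K₀ := hCl m
    have hρK : ∀ y, mv ρ (K₀ y) = K₀ (mv ρ y) := fun y => by
      have e : rhoLin hf j m c x ∘ₗ K₀ = K₀ ∘ₗ rhoLin hf j m c x := by
        rw [rhoLin, LinearMap.comp_assoc, ← hKA, ← LinearMap.comp_assoc, ← hKC, LinearMap.comp_assoc]
      rw [mv_rho, mv_rho, map_add]
      exact congrArg _ (LinearMap.congr_fun e y)
    -- the quarter torus
    obtain ⟨hp₁, h1c, h1d, h1w⟩ := mr_swap hf h2 hc hd hcd h2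
    obtain ⟨hp₂, h2c, h2d, h2w⟩ := mr_swap hf h2 hc hd hcd (one_ne_zero : (1 : F) ≠ 0)
    set p₁ := c + (2 / 2 : F) • d
    set p₂ := c + (1 / 2 : F) • d
    set g := mr hf p₂ * mr hf p₁ with hg
    have hgc : mv g c = (2 : F) • c := by
      rw [hg, mv_mul, h1c, mv_smul, h2d, smul_smul]
      congr 1
      field_simp
    have hgd : mv g d = (2⁻¹ : F) • d := by
      rw [hg, mv_mul, h1d, mv_smul, h2c, smul_smul]
      congr 1
      field_simp
    have hgx : mv g x = x := by rw [hg, mv_mul, h1w x hxc hxd, mv_neg, h2w x hxc hxd, neg_neg]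
    have hgf : ∀ u v, f (mv g u) (mv g v) = f u v := fun u v => by
      rw [hg, mv_mul, mv_mul, mr_isom hf (hp₂.symm ▸ one_ne_zero), mr_isom hf (hp₁.symm ▸ h2)]
    have him : i ≠ (m : J) := Ne.symm m.2
    have hτ : fac i g * fac (m : J) g ∈ X := by
      have := X.mul_mem (C.pair i (m : J) p₂ p₂ him rfl (hp₂.symm ▸ one_ne_zero))
        (C.pair i (m : J) p₁ p₁ him rfl (hp₁.symm ▸ h2))
      rwa [mul_assoc, ← mul_assoc (fac (m : J) (mr hf p₂)), ← fac_comm him, mul_assoc, ← mul_assoc, ← fac_mul,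
        ← fac_mul] at this
    have hL := (h₀.conj_other (fac m g)).conj_self (T := g) hgf hgc
    have hZτ : fac i g * (up i (fac m g) * Z₀ * (up i (fac m g))⁻¹) * (fac i g)⁻¹ ∈ X := by
      rw [up_fac, show fac i g * (fac (m : J) g * Z₀ * (fac (m : J) g)⁻¹) * (fac i g)⁻¹ =
        fac i g * fac (m : J) g * Z₀ * (fac i g * fac (m : J) g)⁻¹ by group]
      exact X.mul_mem (X.mul_mem hτ hZ₀) (X.inv_mem hτ)
    have hρρ : ∀ z, mv ρ (mv ρ z) = z + (2 : F) • rhoLin hf j m c x z := fun z => by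
      rw [mv_rho, mv_rho, map_add, ← LinearMap.comp_apply (rhoLin hf j m c x), rhoLin_sq hf hjm hc,
        LinearMap.zero_apply, add_zero, two_smul, add_assoc]
    have hρ2 : fac m g * ρ * (fac m g)⁻¹ = ρ * ρ := by
      refine mul_inv_eq_iff_eq_mul.2 (ext_pten fun y => ?_)
      rw [mv_mul, mv_mul, mv_mul, hρρ, mv_rho, mv_add, rhoLin_pten hf hjm, mv_fac, mv_fac, rhoLin_pten hf hjm]
      simp only [Function.update_self, Function.update_of_ne (Ne.symm hjm), Function.update_of_ne hjm,
        Function.update_idem]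
      congr 1
      have eA' : ∀ u, mv g (Aop hf c x u) = (2 : F) • Aop hf c x (mv g u) := fun u => by
        rw [← mv_inv_mv g u, Aop_conj hf hgf, hgc, hgx, Aop_smul_left, LinearMap.smul_apply, mv_inv_mv]
      rw [Function.update_comm hjm, Function.update_idem, eA']
      rw [Function.update_comm (Ne.symm hjm), ← updL_apply, map_smul, updL_apply, Function.update_comm hjm]
    rw [hρ2] at hL
    have e2K := C.lift_uniq hJ hX hc0 hc hZτ (X.mul_mem hZ₀ hZ₀) hL (h₀.mul hc h₀)
    have hρK' : cj ρ K₀ = K₀ := LinearMap.ext fun y => by rw [cj_apply, hρK, mv_mv_inv]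
    rw [hρK', ← two_smul F K₀] at e2K
    -- the coefficients at the slot m
    have hK : ∀ u, K₀ (ins m d u) = 0 := fun u => by
      have hgi : mv g⁻¹ d = (2 : F) • d := by
        rw [mv_eq_iff, inv_inv, mv_smul, hgd, smul_smul, mul_inv_cancel₀ h2, one_smul]
      have e := LinearMap.congr_fun e2K (ins m d u)
      rw [LinearMap.smul_apply, LinearMap.smul_apply, cj_apply, fac_inv, mv_fac_ins, hgi, ins_smul_vec, map_smul,
        mv_smul, smul_smul] at e
      set y := K₀ (ins m d u)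
      have hcr : ∀ v, ((2 : F) * 2 * 2) • cr m (frow f (mv g⁻¹ v)) y = (2 : F) • cr m (frow f v) y := fun v => by
        have := congrArg (cr m (frow f v)) e
        rw [map_smul, map_smul, cr_fac m g (φ' := frow f (mv g⁻¹ v)) (fun z => by
          rw [hf.frow_dot, hf.frow_dot, ← hgf z, mv_mv_inv])] at this
        exact this
      have hzero : ∀ v (a : F), mv g⁻¹ v = a • v → 2 * 2 * 2 * a - 2 ≠ 0 → cr m (frow f v) y = 0 := by
        intro v a hv ha
        have := hcr v
        rw [hv, hf.frow_smul, RingEquiv.refl_apply,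
          show cr m (a • frow f v) y = a • cr m (frow f v) y by simp [cr, ctr_smul_vec], smul_smul] at this
        refine (smul_eq_zero.1 ?_).resolve_left ha
        rw [sub_smul, this, sub_self]
      have h3F : (3 : F) ≠ 0 := fun e3 => h2 (by linear_combination hF5 - e3)
      have h4F : (4 : F) ≠ 0 := by rw [show (4 : F) = 2 * 2 by norm_num]; exact mul_ne_zero h2 h2
      have zc := hzero c 2⁻¹ (by rw [mv_eq_iff, inv_inv, mv_smul, hgc, smul_smul, inv_mul_cancel₀ h2, one_smul])
        (fun e0 => h2 (by field_simp at e0; linear_combination e0))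
      have zd := hzero d 2 hgi (fun e0 => h4F (by linear_combination e0 - 2 * hF5))
      have zx := hzero x 1 (by rw [one_smul, mv_eq_iff, inv_inv, hgx])
        (fun e0 => h2 (mul_left_cancel₀ h3F (by linear_combination e0)))
      refine eq_of_frow hf m fun v => ?_
      rw [C.toSl.decomp3 hc hd hcd h3 hxc hxd hx v]
      simp only [cr, hf.frow_add, hf.frow_smul, RingEquiv.refl_apply, ctr_add_vec, ctr_smul_vec,
        LinearMap.comp_apply, LinearMap.add_apply, LinearMap.smul_apply, map_zero] at zc zd zx ⊢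
      rw [zc, zd, zx, smul_zero, smul_zero, smul_zero, add_zero, add_zero]
    refine ext_ins m fun v u => ?_
    have hKx : K₀ (ins m x u) = 0 := by
      have e := LinearMap.congr_fun hKA (ins m d u)
      rw [LinearMap.comp_apply, LinearMap.comp_apply, op_ins, hK, map_zero, Aop_apply, hdc,
        show f d x = 0 by rw [hf.comm', hxd], one_smul, zero_smul, sub_zero, LinearMap.id_apply] at e
      exact e
    have hKc : K₀ (ins m c u) = 0 := by
      have e := LinearMap.congr_fun hKCm (ins m d u)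
      rw [LinearMap.comp_apply, LinearMap.comp_apply, op_ins, hK, map_zero, Cop_apply, hdc, one_smul,
        LinearMap.id_apply] at e
      exact e
    rw [C.toSl.decomp3 hc hd hcd h3 hxc hxd hx v]
    simp only [ins_add_vec, ins_smul_vec, map_add, map_smul, hK, hKx, hKc, smul_zero, add_zero,
      LinearMap.zero_apply]
  exact C.lift_uniq hJ hX hc0 hc hZ (C.mono _ (B.up_omega i hb) (up_mono i hbm)) h (lift_up hf i c b)

end Ctx

end Cfsg.Agent.OrthWreath
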