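/-
A group normalised by the root members of one slot, without monomial elements of order p, is monomial.
-/
import Cfsg.Agent.Lib.OrthWreath.Stab
import Cfsg.Agent.S0633
import Cfsg.Agent.S0058

set_option autoImplicit false
set_option linter.unusedSectionVars false

namespace Cfsg.Agent.OrthWreath

open scoped Matrix Pointwise
open Matrix Cfsg.Agent.Transvec Cfsg.Agent.TensorMax Cfsg.Agent.WreathMax Cfsg.Agent.FormWreath
open Cfsg.Agent.UWreath (mono_mul mono_inv)

/-! ### Finite groups -/

/-- An element of prime order normalising a group of order divisible by that prime fixes one of its elements. -/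
theorem exists_fixed_prime {G : Type*} [Group G] [Finite G] {p : ℕ} [hp : Fact p.Prime] {J : Subgroup G} {e : G}
    (he : e ∈ Subgroup.normalizer (J : Set G)) (hep : e ^ p = 1) (hd : p ∣ Nat.card J) :
    ∃ g ∈ J, g ≠ 1 ∧ g ^ p = 1 ∧ g * e = e * g := by
  classical
  set N := Subgroup.normalizer (J : Set G) with hN
  set J₀ := J.subgroupOf N with hJ₀
  haveI : J₀.Normal := Subgroup.normal_in_normalizer
  set e₀ : N := ⟨e, he⟩
  have hA : IsPGroup p (Subgroup.zpowers e₀) := fun x => ⟨1, by
    obtain ⟨n, hn⟩ := Subgroup.mem_zpowers_iff.1 x.2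
    refine Subtype.ext (Subtype.ext ?_)
    simp only [pow_one, SubgroupClass.coe_pow, ← hn, SubgroupClass.coe_zpow, OneMemClass.coe_one, e₀]
    rw [← zpow_natCast, zpow_comm, zpow_natCast, hep, _root_.one_zpow]⟩
  obtain ⟨P, hP⟩ := hA.exists_le_sylow
  obtain ⟨⟨g, hgJ⟩, hg⟩ := exists_prime_orderOf_dvd_card' (G := J₀) p
    (by rwa [Nat.card_congr (Subgroup.subgroupOfEquivOfLe Subgroup.le_normalizer).toEquiv])
  rw [Subgroup.orderOf_mk] at hg
  have hG : IsPGroup p (Subgroup.zpowers g) := IsPGroup.of_card (n := 1) (by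
    rw [Nat.card_zpowers, hg, pow_one])
  obtain ⟨Q, hQ⟩ := hG.exists_le_sylow
  obtain ⟨x, hx⟩ := MulAction.exists_smul_eq N Q P
  have hgP : x * g * x⁻¹ ∈ (P : Subgroup N) := by
    rw [← hx, Sylow.coe_subgroup_smul]
    exact Subgroup.smul_mem_pointwise_smul g (MulAut.conj x) _ (hQ (Subgroup.mem_zpowers g))
  set K := J₀.subgroupOf (P : Subgroup N)
  haveI : K.Normal := Subgroup.normal_comap _
  set g₁ : K := ⟨⟨x * g * x⁻¹, hgP⟩, Subgroup.Normal.conj_mem inferInstance g hgJ x⟩
  have hg₁ : orderOf g₁ = p := by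
    rw [← Subgroup.orderOf_coe, ← Subgroup.orderOf_coe]
    show orderOf (x * g * x⁻¹) = p
    rw [show x * g * x⁻¹ = MulAut.conj x g from rfl, MulEquiv.orderOf_eq, hg]
  have he₀ : e₀ ∈ (P : Subgroup N) := hP (Subgroup.mem_zpowers e₀)
  set A := Subgroup.zpowers (⟨e₀, he₀⟩ : (P : Subgroup N))
  letI : MulAction A K := MulAction.compHom K ((MulAut.conjNormal (H := K)).comp A.subtype)
  have hone : (1 : K) ∈ MulAction.fixedPoints A K := fun a => map_one (MulAut.conjNormal (a : (P : Subgroup N)))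
  obtain ⟨b, hb, hb1⟩ := (P.isPGroup'.to_subgroup A).exists_fixed_point_of_prime_dvd_card_of_fixed_point K
    ((dvd_of_eq hg₁.symm).trans (orderOf_dvd_natCard g₁)) hone
  have hbe : ((b : (P : Subgroup N)) : N).1 * e = e * ((b : (P : Subgroup N)) : N).1 := by
    have h := congrArg (fun z : K => (((z : (P : Subgroup N)) : N) : G)) (hb ⟨⟨e₀, he₀⟩, Subgroup.mem_zpowers _⟩)
    change (((MulAut.conjNormal (⟨e₀, he₀⟩ : (P : Subgroup N)) b : (P : Subgroup N)) : N) : G) = _ at h
    rw [MulAut.conjNormal_apply] at h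
    simp only [Subgroup.coe_mul, Subgroup.coe_inv, e₀] at h
    exact (mul_inv_eq_iff_eq_mul.1 h).symm
  set β : G := ((b : (P : Subgroup N)) : N).1
  obtain ⟨n, hn⟩ := IsPGroup.iff_orderOf.1 P.isPGroup' (b : (P : Subgroup N))
  have hβn : orderOf β = p ^ n := by
    rw [← hn, ← Subgroup.orderOf_coe, ← Subgroup.orderOf_coe]
  have hn0 : n ≠ 0 := fun h0 => hb1 (by
    rw [h0, pow_zero, orderOf_eq_one_iff] at hn
    exact Subtype.ext hn.symm)
  obtain ⟨m, rfl⟩ : ∃ m, n = m + 1 := ⟨n - 1, by omega⟩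
  have hβJ : β ∈ J := Subgroup.mem_subgroupOf.1 (Subgroup.mem_subgroupOf.1 b.2)
  refine ⟨β ^ p ^ m, J.pow_mem hβJ _, fun h1 => ?_, ?_, (Commute.pow_left (show Commute β e from hbe) _).eq⟩
  · have := orderOf_dvd_of_pow_eq_one h1
    rw [hβn, Nat.pow_dvd_pow_iff_le_right hp.out.one_lt] at this
    omega
  · rw [← pow_mul, ← pow_succ, ← hβn, pow_orderOf_eq_one]

/-- Hall and Higman with a quadratic or cubic element of large prime order. -/
theorem comm_of_cube {F : Type*} [Field F] {p : ℕ} [hp : Fact p.Prime] [CharP F p] (h5 : 5 ≤ p) {V : Type*}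
    [AddCommGroup V] [Module F V] [FiniteDimensional F V] [Nontrivial V] (J : Subgroup (V ≃ₗ[F] V)) [Finite J]
    {e : V ≃ₗ[F] V} [Finite ↥(J ⊔ Subgroup.zpowers e)] (he : e ∈ Subgroup.normalizer (J : Set (V ≃ₗ[F] V)))
    (hep : e ^ p = 1) (he1 : e ≠ 1) (hcop : (Nat.card J).Coprime p)
    (hcube : ((e : Module.End F V) - 1) ^ 3 = 0) : ∀ g ∈ J, g * e = e * g := by
  classical
  set G := J ⊔ Subgroup.zpowers e with hG
  have hJG : J ≤ G := le_sup_left
  have heG : e ∈ G := le_sup_right (a := J) (Subgroup.mem_zpowers e)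
  set J₀ := J.subgroupOf G
  set e₀ : G := ⟨e, heG⟩
  haveI hn : J₀.Normal := (Subgroup.normal_subgroupOf_iff_le_normalizer hJG).2
    (sup_le Subgroup.le_normalizer ((Subgroup.zpowers_le).2 he))
  have hcard : Nat.card J₀ = Nat.card J := Nat.card_congr (Subgroup.subgroupOfEquivOfLe hJG).toEquiv
  have htop : J₀ ⊔ Subgroup.zpowers e₀ = ⊤ := by
    refine Subgroup.map_injective G.subtype_injective ?_
    rw [Subgroup.map_sup, MonoidHom.map_zpowers, Subgroup.subgroupOf_map_subtype, inf_eq_left.2 hJG,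
      ← MonoidHom.range_eq_map, Subgroup.range_subtype]
    rfl
  have he₀ : orderOf e₀ = p := by
    rw [← Subgroup.orderOf_coe]
    exact orderOf_eq_prime hep he1
  have hidx : J₀.index ∣ p := by
    rw [← Subgroup.relIndex_top_right, ← htop, sup_comm, Subgroup.relIndex_sup_right]
    calc J₀.relIndex (Subgroup.zpowers e₀) ∣ Nat.card (Subgroup.zpowers e₀) := Subgroup.relIndex_dvd_card _ _
      _ = p := by rw [Nat.card_zpowers, he₀]
  have hN : ∀ N : Subgroup G, N.Normal → IsPGroup p N → N ≠ ⊥ → ∀ g ∈ J, g * e = e * g := by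
    intro N hNn hNp hNb
    have hdisj : J₀ ⊓ N = ⊥ := Subgroup.inf_eq_bot_of_coprime (by
      obtain ⟨n, hn⟩ := IsPGroup.iff_card.1 hNp
      rw [hn, hcard]
      exact hcop.pow_right n)
    have hNcard : Nat.card N = p := by
      have h1 : Nat.card N ∣ p := by
        rw [← Subgroup.relIndex_bot_left, ← hdisj, Subgroup.inf_relIndex_right]
        exact (Subgroup.relIndex_dvd_index_of_normal J₀ N).trans hidx
      rcases (Nat.dvd_prime hp.out).1 h1 with h | h
      · exact absurd (Subgroup.card_eq_one.1 h) hNb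
      · exact h
    have hsylow : ∀ M : Subgroup G, IsPGroup p M → Nat.card M = p → ∀ P : Sylow p G, M ≤ P → M = P := by
      intro M _ hM P hMP
      refine Subgroup.eq_of_le_of_card_ge hMP ?_
      rw [hM]
      obtain ⟨n, hn⟩ := IsPGroup.iff_card.1 P.isPGroup'
      have hdvd : Nat.card (P : Subgroup G) ∣ J₀.index * Nat.card J₀ := by
        rw [Subgroup.index_mul_card]
        exact Subgroup.card_subgroup_dvd_card _
      have h2 : Nat.card (P : Subgroup G) ∣ p :=
        ((Nat.Coprime.dvd_of_dvd_mul_right (by rw [hn, hcard]; exact (hcop.symm.pow_left n)) hdvd)).trans hidx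
      exact Nat.le_of_dvd hp.out.pos h2
    obtain ⟨P, hP⟩ := hNp.exists_le_sylow
    have hA : IsPGroup p (Subgroup.zpowers e₀) := IsPGroup.of_card (n := 1) (by
      rw [Nat.card_zpowers, he₀, pow_one])
    obtain ⟨Q, hQ⟩ := hA.exists_le_sylow
    have hPN := hsylow N hNp hNcard P hP
    have hQA := hsylow _ hA (by rw [Nat.card_zpowers, he₀]) Q hQ
    obtain ⟨x, hx⟩ := MulAction.exists_smul_eq G P Q
    have heN : e₀ ∈ N := by
      have h1 : Subgroup.zpowers e₀ = MulAut.conj x • N := by
        rw [hQA, hPN, ← hx, Sylow.coe_subgroup_smul]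
      have h2 : e₀ ∈ MulAut.conj x • N := h1 ▸ Subgroup.mem_zpowers e₀
      rwa [Subgroup.Normal.conj_smul_eq_self] at h2
    intro g hg
    exact congrArg Subtype.val (Subgroup.commute_of_normal_of_disjoint J₀ N hn hNn (disjoint_iff.2 hdisj)
      (⟨g, hJG hg⟩ : G) e₀ hg heN).eq
  by_cases hO : Cfsg.pCore p G = ⊥
  swap
  · obtain ⟨N, ⟨hNn, hNp⟩, hNb⟩ : ∃ N ∈ {N : Subgroup G | N.Normal ∧ IsPGroup p N}, N ≠ ⊥ := by
      by_contra h
      push Not at h
      exact hO (le_antisymm (sSup_le fun N hN => (h N hN).le) bot_le)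
    exact hN N hNn hNp hNb
  exfalso
  have hsol : Cfsg.IsPSolvable p G := by
    obtain ⟨m, -, hm⟩ : ∃ m ≤ 1, J₀.index = p ^ m := (Nat.dvd_prime_pow hp.out).1 (by rwa [pow_one])
    refine ⟨2, ![⊥, J₀, ⊤], rfl, rfl, ?_, ?_, ?_⟩
    · refine Fin.monotone_iff_le_succ.2 fun i => ?_
      fin_cases i <;> simp
    · intro i; fin_cases i
      · exact inferInstanceAs (⊥ : Subgroup G).Normal
      · exact hn
      · exact inferInstanceAs (⊤ : Subgroup G).Normal
    · intro i; fin_cases i
      · right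
        show ((⊥ : Subgroup G).relIndex J₀).Coprime p
        rw [Subgroup.relIndex_bot_left, hcard]; exact hcop
      · left
        refine ⟨m, ?_⟩
        show J₀.relIndex ⊤ = p ^ m
        rw [Subgroup.relIndex_top_right, hm]
  obtain ⟨r, hr3, hr⟩ : ∃ r ≤ 3, minpoly F (e : Module.End F V) = (Polynomial.X - 1) ^ r := by
    have hd : minpoly F (e : Module.End F V) ∣ (Polynomial.X - Polynomial.C (1 : F)) ^ 3 := minpoly.dvd _ _ (by
      rw [map_pow, map_sub, Polynomial.aeval_X, Polynomial.aeval_C, map_one, hcube])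
    obtain ⟨r, hr, ha⟩ := (dvd_prime_pow (Polynomial.prime_X_sub_C (1 : F)) 3).1 hd
    refine ⟨r, hr, ?_⟩
    rw [Polynomial.C_1] at ha
    exact Polynomial.eq_of_monic_of_associated (minpoly.monic (Algebra.IsIntegral.isIntegral _))
      (by rw [← Polynomial.C_1]; exact (Polynomial.monic_X_sub_C _).pow r) ha
  have hord : orderOf e = p ^ 1 := by rw [pow_one]; exact orderOf_eq_prime hep he1
  rcases Cfsg.Agent.S0633.result G hsol hO e heG 1 hord r hr with h | ⟨n₀, q, m, h1, h2, -, -, -, -, h3⟩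
  · rw [pow_one] at h; omega
  · obtain rfl : n₀ = 1 := le_antisymm h2 h1
    rw [pow_one, Nat.sub_self, pow_zero, one_mul] at h3
    omega

/-! ### Roots of one slot -/

variable {F : Type*} [Field F] [Finite F] {k : ℕ} {J : Type} [Fintype J] [DecidableEq J]
variable {f : (Fin k → F) → (Fin k → F) → F} {κ : F}

local notation "σ₁" => RingEquiv.refl F

/-- Members as linear automorphisms. -/
noncomputable def leq {ι : Type} [Fintype ι] [DecidableEq ι] : GL ι F →* ((ι → F) ≃ₗ[F] (ι → F)) where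
  toFun g := { mvLin g with invFun := mv g⁻¹, left_inv := mv_inv_mv g, right_inv := mv_mv_inv g }
  map_one' := LinearEquiv.ext fun x => mv_one x
  map_mul' a b := LinearEquiv.ext fun x => mv_mul a b x

theorem leq_injective {ι : Type} [Fintype ι] [DecidableEq ι] :
    Function.Injective (leq (F := F) (ι := ι)) := fun a b h =>
  ext_mv fun x => LinearEquiv.congr_fun h x

/-- The monomial members. -/
def monoSub : Subgroup (GL (J → Fin k) F) where
  carrier := {g | Mono g}
  one_mem' := ⟨1, monoOf_one⟩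
  mul_mem' := fun {a b} ha hb => mono_mul ha hb
  inv_mem' := fun {a} ha => mono_inv ha

theorem fac_one_iff (hk : 0 < k) (l : J) {T : GL (Fin k) F} : fac l T = 1 ↔ T = 1 := by
  refine ⟨fun h => ?_, fun h => by rw [h, fac_one]⟩
  haveI : NeZero k := ⟨by omega⟩
  refine ext_mv fun v => ?_
  have hu : (Pi.single (fun _ => 0) 1 : Rest l k → F) ≠ 0 := Pi.single_ne_zero_iff.2 one_ne_zero
  refine ins_vec_inj hu ?_
  rw [← mv_fac_ins, h, mv_one, mv_one]

theorem eA_ne_one (hf : Sym f) (h2 : (2 : F) ≠ 0) {c w : Fin k → F} (hc0 : c ≠ 0) (hc : f c c = 0)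
    (hwc : f w c = 0) (hw : f w w ≠ 0) : eA hf c w ≠ 1 := fun h => by
  have := eA_fix_perp hf h2 hc hwc hwc
  rw [h, mv_one, eq_comm, sub_eq_self, smul_eq_zero] at this
  exact this.elim hw hc0

theorem eA_dev_cube (hf : Sym f) (h2 : (2 : F) ≠ 0) {c w : Fin k → F} (hc : f c c = 0) (hw : f w c = 0) :
    (mvLin (eA hf c w) - LinearMap.id) ∘ₗ (mvLin (eA hf c w) - LinearMap.id) ∘ₗ
      (mvLin (eA hf c w) - LinearMap.id) = 0 := by
  have hA3 : ∀ x, Aop hf c w (Aop hf c w (Aop hf c w x)) = 0 := fun x => by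
    simp only [Aop_apply, hf.sub_left, hf.smul_left, hf.sub_right, hf.smul_right', hc, hw, hf.comm' c w]
    module
  have hD : ∀ x, (mvLin (eA hf c w) - LinearMap.id : (Fin k → F) →ₗ[F] Fin k → F) x = Aop hf c w x + (2⁻¹ : F) • Aop hf c w (Aop hf c w x) :=
    fun x => by
      show mv (eA hf c w) x - x = _
      rw [mv_eA hf h2 hc hw, Elin_apply]
      abel
  refine LinearMap.ext fun x => ?_
  rw [LinearMap.comp_apply, LinearMap.comp_apply, LinearMap.zero_apply, hD, hD, hD]
  simp only [map_add, map_smul, hA3, smul_zero, add_zero, map_zero]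

variable {Q : ((J → Fin k) → F) → F} {X : Subgroup (GL (J → Fin k) F)}

namespace Ctx

variable (C : Ctx f Q κ X) (hJ : 2 ≤ Fintype.card J) (hX : ¬ Geo.omegaGL Q ≤ X) (B : Base f Q κ) (IH : Ind f κ J)
include C hJ hX B IH

set_option maxHeartbeats 1000000 in
/-- A group of members normalised by the roots of a slot, with no monomial element of order p, is monomial. -/
theorem gp (G : Subgroup (GL (J → Fin k) F)) (hG : G ≤ X) (l : J)
    (hnorm : ∀ c w : Fin k → F, f c c = 0 → f w c = 0 → ∀ g ∈ G,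
      fac l (eA C.hf c w) * g * (fac l (eA C.hf c w))⁻¹ ∈ G)
    (p : ℕ) [CharP F p] (hH : ∀ g ∈ G, Mono g → g ^ p = 1 → g = 1) : ∀ g ∈ G, Mono g := by
  classical
  have hf := C.hf
  have h2 := C.two
  have hk : 0 < k := by have := C.hk; omega
  haveI : Fintype F := Fintype.ofFinite F
  haveI : Fact p.Prime := ⟨CharP.char_is_prime F p⟩
  have hpp : p.Prime := Fact.out
  have hp2 : p ≠ 2 := fun e => h2 (by subst e; exact CharP.cast_eq_zero F 2)
  have hroot : ∀ (c w : Fin k → F), f c c = 0 → f w c = 0 → fac l (eA hf c w) ^ p = 1 := fun c w hc hw => by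
    have e1 : ∀ n : ℕ, fac l (eA hf c w) ^ n = fac l (eA hf c w ^ n) := fun n => by
      induction n with
      | zero => rw [pow_zero, pow_zero, fac_one]
      | succ n ih => rw [pow_succ, pow_succ, ih, fac_mul]
    rw [e1, eA_pow_char hf h2 p hc hw, fac_one]
  have hnormal : ∀ (c w : Fin k → F), f c c = 0 → f w c = 0 →
      fac l (eA hf c w) ∈ Subgroup.normalizer (G : Set (GL (J → Fin k) F)) := fun c w hc hw => by
    refine Subgroup.mem_normalizer_iff.2 fun g => ⟨hnorm c w hc hw g, fun h => ?_⟩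
    have h1 := hnorm c (-w) hc (by rw [hf.neg_left, hw, neg_zero]) _ h
    rw [← eA_inv hf h2 hc hw, ← fac_inv, inv_inv] at h1
    convert h1 using 1
    group
  obtain ⟨c, hc0, hc⟩ := C.toSl.exists_isotropic
  obtain ⟨d, hd, hcd⟩ := C.toSl.exists_pair hc0 hc
  obtain ⟨x, hxc, -, hx⟩ := C.toSl.exists_W_aniso hc hd hcd
  have hcent : ∀ g ∈ G, ∀ (c w : Fin k → F), c ≠ 0 → f c c = 0 → f w c = 0 → f w w ≠ 0 →
      g * fac l (eA hf c w) = fac l (eA hf c w) * g → Mono g := fun g hg c w h0 h1 h3 h4 h5 =>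
    C.root_cent_mono hJ hX B IH (hG hg) h0 h1 h3 h4 h5
  have hcop : (Nat.card G).Coprime p := by
    refine Nat.Coprime.symm ((Nat.Prime.coprime_iff_not_dvd hpp).2 fun hd' => ?_)
    obtain ⟨g, hg, hg1, hgp, hge⟩ := exists_fixed_prime (hnormal c x hc hxc) (hroot c x hc hxc) hd'
    exact hg1 (hH g hg (hcent g hg c x hc0 hc hxc hx hge) hgp)
  by_cases hp3 : p = 3
  swap
  · have h5 : 5 ≤ p := by
      have := hpp.two_le
      by_contra hlt
      have : p = 4 := by omega
      subst this
      exact absurd hpp (by norm_num)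
    haveI : NeZero k := ⟨by omega⟩
    set e := leq (fac (J := J) l (eA hf c x))
    haveI : Finite (((J → Fin k) → F) ≃ₗ[F] ((J → Fin k) → F)) :=
      Finite.of_injective (fun g : ((J → Fin k) → F) ≃ₗ[F] ((J → Fin k) → F) => (g : ((J → Fin k) → F) → _))
        DFunLike.coe_injective
    have hcom := comm_of_cube (p := p) h5 (G.map leq) (e := e) (by
        refine Subgroup.le_normalizer_map leq ⟨_, hnormal c x hc hxc, rfl⟩)
      (by rw [← map_pow, hroot c x hc hxc, map_one])
      (fun h => eA_ne_one hf h2 hc0 hc hxc hx ((fac_one_iff hk l).1 (leq_injective (h.trans (map_one leq).symm))))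
      (by rwa [Nat.card_congr (G.equivMapOfInjective leq leq_injective).toEquiv.symm]) (by
        have h1 : (e : Module.End F ((J → Fin k) → F)) - 1 = op l LinearMap.id (mvLin (eA hf c x) - LinearMap.id) :=
          ext_ins l fun v u => by
            show mv (fac l (eA hf c x)) (ins l v u) - ins l v u = _
            rw [mv_fac_ins, op_ins, LinearMap.id_apply, LinearMap.sub_apply, ins_sub_vec]
            rfl
        have h3 : ((e : Module.End F ((J → Fin k) → F)) - 1) ∘ₗ ((e : Module.End F ((J → Fin k) → F)) - 1) ∘ₗ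
            ((e : Module.End F ((J → Fin k) → F)) - 1) = 0 := by
          rw [h1, op_comp, op_comp, eA_dev_cube hf h2 hc hxc, op_zero_right]
        rw [← h3, pow_succ, pow_two]
        rfl)
    intro g hg
    refine hcent g hg c x hc0 hc hxc hx (leq_injective ?_)
    rw [map_mul, map_mul]
    exact hcom _ ⟨g, hg, rfl⟩
  subst hp3
  -- a space of anisotropic middle vectors
  obtain ⟨U, hUc, hUa, hU3⟩ : ∃ U : Submodule F (Fin k → F), (∀ u ∈ U, f u c = 0) ∧
      (∀ u ∈ U, u ≠ 0 → f u u ≠ 0) ∧ 3 < Nat.card U := by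
    by_cases hq : 5 ≤ Nat.card F
    · have hx0 : x ≠ 0 := fun e => hx (by rw [e, hf.zero_left])
      refine ⟨Submodule.span F {x}, fun u hu => ?_, fun u hu hu0 => ?_, ?_⟩
      · obtain ⟨a, rfl⟩ := Submodule.mem_span_singleton.1 hu
        rw [hf.smul_left, hxc, mul_zero]
      · obtain ⟨a, rfl⟩ := Submodule.mem_span_singleton.1 hu
        have ha : a ≠ 0 := fun e => hu0 (by rw [e, zero_smul])
        rw [hf.smul_left, hf.smul_right']
        exact mul_ne_zero ha (mul_ne_zero ha hx)
      · have := Nat.card_le_card_of_injective (fun a : F => (⟨a • x, Submodule.smul_mem _ _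
          (Submodule.mem_span_singleton_self x)⟩ : Submodule.span F {x}))
          (fun a b h => smul_left_injective F hx0 (congrArg Subtype.val h))
        omega
    have h5 : 5 ≤ k := C.hq.resolve_left hq
    have hF : ∀ a : F, a = 0 ∨ a * a = 1 := by
      have h3 : Nat.card F = 3 := by
        obtain ⟨n, -, hn⟩ := FiniteField.card F 3
        rw [← Nat.card_eq_fintype_card] at hn
        by_contra hne
        have h1 : 2 ≤ (n : ℕ) := by
          rcases Nat.lt_or_ge (n : ℕ) 2 with h | h
          · have := n.pos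
            rw [show (n : ℕ) = 1 by omega, pow_one] at hn
            exact absurd hn hne
          · exact h
        have := Nat.pow_le_pow_right (by norm_num : 1 ≤ 3) h1
        omega
      intro a
      by_cases ha : a = 0
      · exact Or.inl ha
      · right
        have := FiniteField.pow_card_sub_one_eq_one a ha
        rw [← Nat.card_eq_fintype_card, h3] at this
        rw [← pow_two]
        exact this
    obtain ⟨w, hwc, hwd, hw⟩ := C.toSl.exists_W_value hc hd hcd h5 κ
    obtain ⟨w', hw'c, -, hw'w, hw'⟩ := C.toSl.exists_W_perp hc hd hcd h5 hwc hwd (hw ▸ C.hκ) κ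
    refine ⟨Submodule.span F {w, w'}, fun u hu => ?_, fun u hu hu0 => ?_, ?_⟩
    · obtain ⟨a, b, rfl⟩ := Submodule.mem_span_pair.1 hu
      rw [hf.add_left, hf.smul_left, hf.smul_left, hwc, hw'c, mul_zero, mul_zero, add_zero]
    · obtain ⟨a, b, rfl⟩ := Submodule.mem_span_pair.1 hu
      have h3 : (3 : F) = 0 := by
        have := CharP.cast_eq_zero F 3
        exact_mod_cast this
      simp only [hf.add_left, hf.add_right, hf.smul_left, hf.smul_right', hw, hw', hw'w, hf.comm' w w',
        mul_zero, add_zero, zero_add, ← mul_assoc, ← add_mul]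
      refine mul_ne_zero ?_ C.hκ
      rcases hF a with ha | ha <;> rcases hF b with hb | hb
      · exact absurd (by rw [ha, hb, zero_smul, zero_smul, add_zero]) hu0
      · rw [ha, hb, zero_mul, zero_add]; exact one_ne_zero
      · rw [hb, ha, zero_mul, add_zero]; exact one_ne_zero
      · rw [ha, hb]; intro e; exact one_ne_zero (by linear_combination h3 - e)
    · have hinj : Function.Injective fun a : F × F => (⟨a.1 • w + a.2 • w', Submodule.mem_span_pair.2 ⟨_, _, rfl⟩⟩ :
          Submodule.span F {w, w'}) := fun a b h => by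
        have h1 := congrArg Subtype.val h
        have e1 := congrArg (fun v => f v w) h1
        have e2 := congrArg (fun v => f v w') h1
        simp only [hf.add_left, hf.smul_left, hw, hw', hw'w, hf.comm' w w', mul_zero, add_zero, zero_add] at e1 e2
        exact Prod.ext (mul_right_cancel₀ C.hκ e1) (mul_right_cancel₀ C.hκ e2)
      have := Nat.card_le_card_of_injective _ hinj
      rw [Nat.card_prod] at this
      have h2' := Finite.one_lt_card (α := F)
      nlinarith
  let φ : Multiplicative U →* GL (J → Fin k) F :=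
    { toFun := fun u => fac l (eA hf c ((Multiplicative.toAdd u : U) : Fin k → F))
      map_one' := by
        show fac l (eA hf c (0 : Fin k → F)) = 1
        rw [eA_zero hf h2 hc, fac_one]
      map_mul' := fun u v => by
        show fac l (eA hf c (_ + _)) = _
        rw [← fac_mul, eA_mul hf h2 hc (hUc _ u.toAdd.2) (hUc _ v.toAdd.2)] }
  have hφ : ∀ u : Multiplicative U, φ u = 1 → u = 1 := fun u hu => by
    by_contra hne
    have hu0 : ((Multiplicative.toAdd u : U) : Fin k → F) ≠ 0 := fun e => hne (Subtype.ext e)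
    exact eA_ne_one hf h2 hc0 hc (hUc _ u.toAdd.2) (hUa _ u.toAdd.2 hu0) ((fac_one_iff hk l).1 hu)
  set A := φ.range
  haveI hcomm : IsMulCommutative A := ⟨⟨fun a b => Subtype.ext (by
    obtain ⟨u, hu⟩ := a.2
    obtain ⟨v, hv⟩ := b.2
    show (a : GL (J → Fin k) F) * b = b * a
    rw [← hu, ← hv, ← map_mul, ← map_mul, mul_comm])⟩⟩
  have hexp : ∀ a : A, a ^ 3 = 1 := fun a => Subtype.ext (by
    obtain ⟨u, hu⟩ := a.2
    show (a : GL (J → Fin k) F) ^ 3 = 1
    rw [← hu]
    exact hroot c _ hc (hUc _ u.toAdd.2))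
  have hAcard : 3 < Nat.card A := by
    rw [← Nat.card_congr (MonoidHom.ofInjective (f := φ) ((injective_iff_map_eq_one φ).2 hφ)).toEquiv]
    exact hU3
  have hA : ¬ IsCyclic A := fun hcyc => by
    obtain ⟨a, ha⟩ := hcyc.exists_generator
    have h1 := orderOf_eq_card_of_forall_mem_zpowers ha
    have h3 := Nat.le_of_dvd (by norm_num) (orderOf_dvd_of_pow_eq_one (hexp a))
    omega
  have hAp : IsPGroup 3 A := fun a => ⟨1, by rw [pow_one]; exact hexp a⟩
  have key := Cfsg.Agent.S0058.result A G hA (fun a ⟨u, hu⟩ => hu ▸ hnormal c _ hc (hUc _ u.toAdd.2)) (by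
    obtain ⟨n, hn⟩ := IsPGroup.iff_card.1 hAp
    rw [hn]
    exact hcop.symm.pow_left n)
  intro g hg
  have hle : G ≤ monoSub := by
    rw [← key]
    refine iSup₂_le fun a ⟨⟨u, hu⟩, ha1⟩ z ⟨hzG, hzc⟩ => ?_
    have hu0 : ((Multiplicative.toAdd u : U) : Fin k → F) ≠ 0 := fun e => ha1 (by
      rw [← hu, show u = 1 from Subtype.ext e, map_one])
    refine hcent z hzG c _ hc0 hc (hUc _ u.toAdd.2) (hUa _ u.toAdd.2 hu0) ?_
    have := Subgroup.mem_centralizer_iff.1 hzc a rfl
    rw [← hu] at this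
    exact this.symm
  exact hle hg

end Ctx

end Cfsg.Agent.OrthWreath
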