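/-
Members fixing the line of a vector of value κ pointwise are members of that slot.
-/
import Cfsg.Agent.Lib.OrthWreath.Frame

set_option autoImplicit false
set_option linter.unusedSectionVars false

namespace Cfsg.Agent.OrthWreath

open scoped Matrix
open Matrix Cfsg.Agent.Transvec Cfsg.Agent.TensorMax Cfsg.Agent.WreathMax Cfsg.Agent.FormWreath
open Cfsg.Agent.UWreath (mono_mul mono_inv)

variable {F : Type*} [Field F] [Finite F] {k : ℕ} {J : Type} [Fintype J] [DecidableEq J]
variable {f : (Fin k → F) → (Fin k → F) → F} {κ : F}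

local notation "σ₁" => RingEquiv.refl F

/-! ### One slot -/

theorem mr_not_scalar (S : Sl f κ) {x : Fin k → F} (hx : f x x ≠ 0) (τ : F) :
    ¬ ∀ v, mv (mr S.hf x) v = τ • v := fun h => by
  have hf := S.hf
  have hx0 : x ≠ 0 := fun e => hx (by rw [e, hf.zero_left])
  have h1 := h x
  rw [mr_self hf hx] at h1
  obtain rfl : τ = 1 := smul_left_injective F hx0 (by simpa using h1.symm)
  have hn := (hf.formL x).finrank_range_add_finrank_ker
  have hr := Submodule.finrank_le (hf.formL x).range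
  rw [Module.finrank_fintype_fun_eq_card, Fintype.card_fin] at hn
  rw [Module.finrank_self] at hr
  obtain ⟨v, hv, hv0⟩ := Submodule.exists_mem_ne_zero_of_ne_bot (p := (hf.formL x).ker) fun e => by
    have := S.hk
    rw [e, finrank_bot] at hn
    omega
  rw [LinearMap.mem_ker, SF.formL_apply] at hv
  have h2 := h v
  rw [mr_perp hf hx hv, one_smul] at h2
  refine hv0 ((smul_eq_zero.1 (?_ : (2 : F) • v = 0)).resolve_left S.two)
  linear_combination (norm := module) (-1 : F) • h2

/-- Members of two slots agree only when scalar. -/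
theorem fac_eq_fac (hk : 0 < k) {i j : J} (hji : j ≠ i) {T S : GL (Fin k) F} (h : fac j T = fac i S) :
    ∃ τ : F, ∀ v, mv T v = τ • v := by
  classical
  haveI : NeZero k := ⟨by omega⟩
  set e : Fin k → F := Pi.single 0 1
  have he : e ≠ 0 := Pi.single_ne_zero_iff.2 one_ne_zero
  set z : J → Fin k → F := Function.update (fun _ => e) i (mv S e) with hz
  obtain ⟨μ, -, hμ⟩ := slot_scalar (z := z) (z' := fun _ => e) (i := j) hk (fun a _ => by
      by_cases ha : a = i
      · subst ha; rw [hz, Function.update_self]; exact fun e' => he (mv_inj S (e'.trans (mv_zero S).symm))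
      · rw [hz, Function.update_of_ne ha]; exact he) (M := fun v => mv T v) fun v => by
    have h1 := congrArg (fun g => mv g (pten (Function.update (fun _ => e) j v))) h
    simp only [mv_fac, Function.update_self, Function.update_idem, Function.update_of_ne (Ne.symm hji)] at h1
    rw [h1, Function.update_comm hji]
  exact ⟨μ, hμ⟩

/-- The fixed space of a member of one slot. -/
theorem finrank_fixsp_fac (i : J) (T : GL (Fin k) F) :
    Module.finrank F (fixsp (fac i T)) = Fintype.card (Rest i k) * Module.finrank F (fixsp T) := by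
  set fib : ((J → Fin k) → F) →ₗ[F] Rest i k → Fin k → F :=
    { toFun := fun z r p => push i z (r, p)
      map_add' := fun a b => by funext r p; simp
      map_smul' := fun a b => by funext r p; simp }
  have hins : ∀ v w r, fib (ins i v w) r = w r • v := fun v w r => funext fun p => by
    show push i (ins i v w) (r, p) = _
    rw [ins_apply, LinearEquiv.apply_symm_apply, ten_apply, Pi.smul_apply, smul_eq_mul]
  have hinj : Function.Injective fib := fun a b h => (push i).injective (funext fun rp => congrFun (congrFun h rp.1) rp.2)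
  have hcomm : ∀ z r, fib (mv (fac i T) z) r = mv T (fib z r) := fun z r => by
    refine LinearMap.congr_fun (f := ((LinearMap.proj r).comp fib).comp (mvLin (fac i T)))
      (g := (mvLin T).comp ((LinearMap.proj r).comp fib)) (ext_ins i fun v w => ?_) z
    show fib (mv (fac i T) (ins i v w)) r = mv T (fib (ins i v w) r)
    rw [mv_fac_ins, hins, hins, mv_smul]
  have hmem : ∀ z, z ∈ fixsp (fac i T) ↔ ∀ r, fib z r ∈ fixsp T := fun z => by
    simp only [mem_fixsp, ← hcomm]
    exact ⟨fun h r => by rw [h], fun h => hinj (funext h)⟩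
  let e : fixsp (fac i T) ≃ₗ[F] (Rest i k → fixsp T) :=
    { toFun := fun z r => ⟨fib z r, (hmem z).1 z.2 r⟩
      map_add' := fun a b => funext fun r => Subtype.ext (congrFun (map_add fib (a : (J → Fin k) → F) b) r)
      map_smul' := fun a b => funext fun r => Subtype.ext (congrFun (map_smul fib a (b : (J → Fin k) → F)) r)
      invFun := fun G => ⟨(push i).symm fun rp => (G rp.1 : Fin k → F) rp.2, (hmem _).2 fun r => by
        have : fib ((push i).symm fun rp => (G rp.1 : Fin k → F) rp.2) r = (G r : Fin k → F) := funext fun p => by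
          show push i ((push i).symm _) (r, p) = _
          rw [LinearEquiv.apply_symm_apply]
        rw [this]; exact (G r).2⟩
      left_inv := fun z => Subtype.ext ((push i).injective (by
        show push i ((push i).symm _) = _
        rw [LinearEquiv.apply_symm_apply]; rfl))
      right_inv := fun G => funext fun r => Subtype.ext (funext fun p => by
        show push i ((push i).symm _) (r, p) = _
        rw [LinearEquiv.apply_symm_apply]) }
  rw [e.finrank_eq, Module.finrank_pi_fintype, Finset.sum_const, Finset.card_univ, smul_eq_mul]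

variable {Q : ((J → Fin k) → F) → F} {X : Subgroup (GL (J → Fin k) F)}

namespace Ctx

variable (C : Ctx f Q κ X) (hJ : 2 ≤ Fintype.card J) (hX : ¬ Geo.omegaGL Q ≤ X) (B : Base f Q κ) (IH : Ind f κ J)
include C hJ hX B IH

/-- A mirror conjugate that a mirror of the same slot turns into a map fixing an isotropic line is a mirror. -/
theorem line_of {g : GL (J → Fin k) F} (hg : g ∈ X) {i : J} {y y'' c : Fin k → F} (hy : f y y = κ)
    (hy'' : f y'' y'' = κ) (hc0 : c ≠ 0) (hc : f c c = 0) (hcy : f c y'' = 0)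
    (hs : ∀ u, mv (g * fac i (mr C.hf y) * g⁻¹) (ins i c u) = -ins i c u) :
    ∃ y', (Ln i y).map (mvLin g) = Ln i y' := by
  classical
  have hf := C.hf
  have hk : 0 < k := by have := C.hk; omega
  have hy0 : f y y ≠ 0 := hy ▸ C.hκ
  have hy''0 : f y'' y'' ≠ 0 := hy'' ▸ C.hκ
  set s := g * fac i (mr hf y) * g⁻¹ with hsd
  have hsX : s ∈ X := X.mul_mem (X.mul_mem hg (C.mir i y hy)) (X.inv_mem hg)
  set q := s * fac i (mr hf y'') with hq
  have hqX : q ∈ X := X.mul_mem hsX (C.mir i y'' hy'')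
  have hqc : ∀ u, mv q (ins i c u) = ins i c u := fun u => by
    rw [hq, mv_mul, mv_fac_ins, mr_perp hf hy''0 hcy, show ins i (-c) u = -ins i c u by
      rw [← neg_one_smul F c, ins_smul_vec, neg_one_smul], mv_neg, hs, neg_neg]
  have hqmap : (Ln i c).map (mvLin q) = Ln i c := by
    refine Submodule.eq_of_le_of_finrank_le (fun z hz => ?_) (by rw [finrank_map_gl])
    obtain ⟨z', hz', rfl⟩ := mem_map_gl.1 hz
    obtain ⟨u, rfl⟩ := mem_Ln_ins hz'
    rw [hqc]; exact ins_mem i c u
  obtain ⟨T, hT, -, -⟩ := fix_line_mono C.toSl (C.stab hJ hX B IH hqX hc0 hc hc0 hc hqmap)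
    (C.pres (C.iso hqX)) hc0 hqc
  have hs' : s = fac i (T * mr hf y'') := by
    rw [fac_mul, ← hT, hq, mul_assoc, ← fac_mul, mr_sq hf hy''0, fac_one, mul_one]
  have hs1 : s * s = 1 := by
    rw [hsd, show g * fac i (mr hf y) * g⁻¹ * (g * fac i (mr hf y) * g⁻¹) =
      g * (fac i (mr hf y) * fac i (mr hf y)) * g⁻¹ by group, ← fac_mul, mr_sq hf hy0, fac_one, mul_one,
      mul_inv_cancel]
  obtain ⟨j, y', hy', hj⟩ := C.toSl.trc_fix ⟨i⟩ (C.pres (C.iso hsX)) hs1 (hs' ▸ monoOf_fac i _)
    (by rw [Small, hsd, finrank_fixsp_conj]; exact small_mir C.toSl i hy0)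
  obtain rfl : j = i := by
    by_contra hne
    obtain ⟨τ, hτ⟩ := fac_eq_fac hk hne (hj.symm.trans hs')
    exact mr_not_scalar C.toSl hy' τ hτ
  exact ⟨y', by rw [← fixsp_mir C.toSl j hy0, ← fixsp_conj, ← hsd, hj, fixsp_mir C.toSl j hy']⟩

set_option maxHeartbeats 800000 in
/-- A member fixing one frame line and moving a pair of frame mirrors inside the slot is monomial. -/
theorem split (h5 : 5 ≤ k) {g : GL (J → Fin k) F} (hg : g ∈ X) {i : J} {Y : Fin k → Fin k → F} (hY : Good f κ Y)
    {a₀ a₁ a₂ : Fin k} (h01 : a₁ ≠ a₀) (h02 : a₂ ≠ a₀) (h12 : a₁ ≠ a₂)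
    (hx : (Ln i (Y a₀)).map (mvLin g) = Ln i (Y a₀)) {T : GL (Fin k) F}
    (hTf : ∀ a b, f (mv T a) (mv T b) = f a b) (hTx : mv T (Y a₀) = Y a₀)
    (hT : g * fac i (mr C.hf (Y a₁) * mr C.hf (Y a₂)) * g⁻¹ = fac i T) : Mono g := by
  classical
  have hf := C.hf
  have h2 := C.two
  have hk : 0 < k := by omega
  haveI : NeZero k := ⟨by omega⟩
  obtain ⟨hYo, hYv⟩ := hY
  have hY0 : ∀ a, f (Y a) (Y a) ≠ 0 := fun a => by rw [hYv]; exact C.hκ
  set x := Y a₀ with hxd
  set D := mr hf (Y a₁) * mr hf (Y a₂) with hDd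
  have hDY : ∀ b, mv D (Y b) = if b = a₁ ∨ b = a₂ then -Y b else Y b := fun b => by
    rw [hDd, mv_mul]
    by_cases h1 : b = a₁
    · subst h1
      rw [mr_perp hf (hY0 _) (hYo _ _ h12), mv_neg, mr_self hf (hY0 _), if_pos (Or.inl rfl)]
    by_cases h2' : b = a₂
    · subst h2'
      rw [mr_self hf (hY0 _), mr_perp hf (hY0 _) (hYo _ _ h1), if_pos (Or.inr rfl)]
    · rw [mr_perp hf (hY0 _) (hYo _ _ h2'), mv_neg, mr_perp hf (hY0 _) (hYo _ _ h1), neg_neg,
        if_neg (by tauto)]
  have hDD : D * D = 1 := ext_frame hf hYo hY0 fun b => by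
    rw [mv_mul, mv_one]
    by_cases hb : b = a₁ ∨ b = a₂
    · rw [hDY, if_pos hb, mv_neg, hDY, if_pos hb, neg_neg]
    · rw [hDY, if_neg hb, hDY, if_neg hb]
  have hTT : T * T = 1 := (fac_one_iff hk i).1 (by
    rw [fac_mul, ← hT, show g * fac i D * g⁻¹ * (g * fac i D * g⁻¹) = g * (fac i D * fac i D) * g⁻¹ by group,
      ← fac_mul, hDD, fac_one, mul_one, mul_inv_cancel])
  have hTT' : ∀ v, mv T (mv T v) = v := fun v => by rw [← mv_mul, hTT, mv_one]
  -- dimensions
  have hD2 : Module.finrank F (LinearMap.range (dev D)) = 2 := by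
    have hli : LinearIndependent F ![Y a₁, Y a₂] := by
      rw [LinearIndependent.pair_iff]
      intro s t hst
      have e1 := congrArg (fun v => f v (Y a₁)) hst
      have e2 := congrArg (fun v => f v (Y a₂)) hst
      simp only [hf.add_left, hf.smul_left, hYo _ _ h12, hYo _ _ (Ne.symm h12), hYv, hf.zero_left, mul_zero,
        add_zero, zero_add, mul_eq_zero, C.hκ, or_false] at e1 e2
      exact ⟨e1, e2⟩
    have e : LinearMap.range (dev D) = Submodule.span F (Set.range ![Y a₁, Y a₂]) := by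
      refine le_antisymm ?_ (Submodule.span_le.2 ?_)
      · rintro _ ⟨v, rfl⟩
        have hv : v ∈ Submodule.span F (Set.range Y) := by
          rw [span_of_orth hf hYo hY0]; exact Submodule.mem_top
        induction hv using Submodule.span_induction with
        | mem v hv =>
          obtain ⟨b, rfl⟩ := hv
          rw [dev_apply, hDY]
          by_cases hb : b = a₁ ∨ b = a₂
          · rw [if_pos hb]
            have hbm : Y b ∈ Submodule.span F (Set.range ![Y a₁, Y a₂]) := by
              rcases hb with rfl | rfl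
              · exact Submodule.subset_span ⟨0, rfl⟩
              · exact Submodule.subset_span ⟨1, rfl⟩
            exact Submodule.sub_mem _ (Submodule.neg_mem _ hbm) hbm
          · rw [if_neg hb, sub_self]; exact zero_mem _
        | zero => rw [map_zero]; exact zero_mem _
        | add u v _ _ hu hv => rw [map_add]; exact add_mem hu hv
        | smul r u _ hu => rw [map_smul]; exact Submodule.smul_mem _ r hu
      · rintro _ ⟨r, rfl⟩
        refine ⟨(-(2 : F)⁻¹) • ![Y a₁, Y a₂] r, ?_⟩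
        have hr : mv D (![Y a₁, Y a₂] r) = -![Y a₁, Y a₂] r := by
          fin_cases r <;> simp [hDY]
        rw [map_smul, dev_apply, hr]
        match_scalars
        field_simp
        ring
    rw [e, finrank_span_eq_card hli, Fintype.card_fin]
  have hrankeq : Module.finrank F (fixsp T) = Module.finrank F (fixsp D) := by
    have h1 := finrank_fixsp_conj g (fac i D)
    rw [hT, finrank_fixsp_fac, finrank_fixsp_fac] at h1
    exact Nat.eq_of_mul_eq_mul_left Fintype.card_pos h1
  have hnD := (dev D).finrank_range_add_finrank_ker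
  have hnT := (dev T).finrank_range_add_finrank_ker
  rw [Module.finrank_fintype_fun_eq_card, Fintype.card_fin] at hnD hnT
  have hfix : Module.finrank F (fixsp T) + 2 = k := by
    rw [hrankeq]; show Module.finrank F (LinearMap.ker (dev D)) + 2 = k; omega
  set P := LinearMap.range (dev T) with hP
  have hP2 : Module.finrank F P = 2 := by
    have : Module.finrank F (LinearMap.ker (dev T)) + 2 = k := hfix
    omega
  have hPneg : ∀ v ∈ P, mv T v = -v := by
    rintro _ ⟨v, rfl⟩
    rw [dev_apply, mv_sub, hTT', neg_sub]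
  have hortho : ∀ p ∈ P, ∀ w ∈ fixsp T, f p w = 0 := fun p hp w hw => by
    have := hTf p w
    rw [hPneg p hp, mem_fixsp.1 hw, hf.neg_left] at this
    refine (mul_eq_zero.1 (?_ : (2 : F) * f p w = 0)).resolve_left h2
    linear_combination -this
  have hsplit : ∀ v, ∃ p ∈ P, ∃ w ∈ fixsp T, v = p + w := fun v =>
    ⟨(-(2 : F)⁻¹) • dev T v, P.smul_mem _ ⟨v, rfl⟩, (2 : F)⁻¹ • (v + mv T v),
      mem_fixsp.2 (by rw [mv_smul, mv_add, hTT', add_comm]), by
      rw [dev_apply]
      match_scalars <;> field_simp <;> ring⟩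
  have hPnd : ∀ u ∈ P, (∀ w ∈ P, f w u = 0) → u = 0 := fun u hu h => hf.nondeg u fun v => by
    obtain ⟨p, hp, w, hw, rfl⟩ := hsplit v
    rw [hf.add_right, hf.comm', h p hp, hortho u hu w hw, add_zero]
  have hFnd : ∀ u ∈ fixsp T, (∀ w ∈ fixsp T, f w u = 0) → u = 0 := fun u hu h => hf.nondeg u fun v => by
    obtain ⟨p, hp, w, hw, rfl⟩ := hsplit v
    rw [hf.add_right, hf.comm' u p, hortho p hp u hu, hf.comm', h w hw, add_zero]
  have hxF : x ∈ fixsp T := mem_fixsp.2 hTx
  -- eigenvectors go to eigenvectors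
  have htr : ∀ (w : Fin k → F) (u : Rest i k → F) (σ : F), mv T w = σ • w →
      mv (fac i D) (mv g⁻¹ (ins i w u)) = σ • mv g⁻¹ (ins i w u) := fun w u σ hw => by
    rw [← mv_mul, show fac i D * g⁻¹ = g⁻¹ * fac i T by rw [← hT]; group, mv_mul, mv_fac_ins, hw, ins_smul_vec,
      mv_smul]
  have hneg : ∀ (b : Fin k) (σ : F), σ * σ = 1 →
      (∀ a, mv (mr hf (Y b)) (Y a + σ • mv D (Y a)) = -(Y a + σ • mv D (Y a))) →
      ∀ z, mv (fac i D) z = σ • z → mv (fac i (mr hf (Y b))) z = -z := by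
    intro b σ hσ hb z hz
    have hall : ∀ v, mv (mr hf (Y b)) (v + σ • mv D v) = -(v + σ • mv D v) := fun v => by
      have hv : v ∈ Submodule.span F (Set.range Y) := by
        rw [span_of_orth hf hYo hY0]; exact Submodule.mem_top
      induction hv using Submodule.span_induction with
      | mem v hv => obtain ⟨a, rfl⟩ := hv; exact hb a
      | zero => simp [mv_zero]
      | add u v _ _ hu hv =>
        rw [show u + v + σ • mv D (u + v) = u + σ • mv D u + (v + σ • mv D v) by rw [mv_add]; module, mv_add, hu, hv]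
        abel
      | smul r u _ hu => rw [mv_smul, smul_comm, ← smul_add, mv_smul, hu, smul_neg]
    have hlin : mvLin (fac i (mr hf (Y b))) ∘ₗ (LinearMap.id + σ • mvLin (fac i D)) =
        -(LinearMap.id + σ • mvLin (fac i D)) := ext_ins i fun v u => by
      show mv (fac i (mr hf (Y b))) (ins i v u + σ • mv (fac i D) (ins i v u)) =
        -(ins i v u + σ • mv (fac i D) (ins i v u))
      rw [mv_fac_ins, ← ins_smul_vec, ← ins_add_vec, mv_fac_ins, hall, ← neg_one_smul F (v + σ • mv D v),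
        ins_smul_vec, neg_one_smul]
    have h3 := LinearMap.congr_fun hlin z
    simp only [LinearMap.comp_apply, LinearMap.add_apply, LinearMap.id_apply, LinearMap.smul_apply,
      LinearMap.neg_apply] at h3
    change mv (fac i (mr hf (Y b))) (z + σ • mv (fac i D) z) = -(z + σ • mv (fac i D) z) at h3
    rw [hz, smul_smul, hσ, one_smul, ← two_smul F, mv_smul, ← smul_neg] at h3
    exact smul_right_injective _ h2 h3
  have hsneg : ∀ (b : Fin k) (σ : F), σ * σ = 1 →
      (∀ a, mv (mr hf (Y b)) (Y a + σ • mv D (Y a)) = -(Y a + σ • mv D (Y a))) →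
      ∀ w, mv T w = σ • w → ∀ u, mv (g * fac i (mr hf (Y b)) * g⁻¹) (ins i w u) = -ins i w u := by
    intro b σ hσ hb w hw u
    rw [mv_mul, mv_mul, hneg b σ hσ hb _ (htr w u σ hw), mv_neg, mv_mv_inv]
  -- the lines
  have hlines : ∀ b, ∃ y', (Ln i (Y b)).map (mvLin g) = Ln i y' := by
    intro b
    by_cases hb0 : b = a₀
    · subst hb0; exact ⟨x, hx⟩
    by_cases hb : b = a₁ ∨ b = a₂
    · obtain ⟨c, hc, hc0, hcc⟩ := Transvec.Orth.exists_singular (qf_nondeg hf h2) (X := fixsp T) (by omega)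
      rw [qf, div_eq_zero_iff] at hcc
      obtain ⟨y'', hy''P, hy''⟩ := C.toSl.exists_value hPnd hP2.ge κ
      refine C.line_of hJ hX B IH hg (hYv b) hy'' hc0 (hcc.resolve_right h2)
        (by rw [hf.comm']; exact hortho y'' hy''P c hc) fun u => ?_
      refine hsneg b 1 (one_mul 1) (fun a => ?_) c (by rw [one_smul]; exact mem_fixsp.1 hc) u
      rw [hDY]
      by_cases ha : a = a₁ ∨ a = a₂
      · rw [if_pos ha, one_smul, add_neg_cancel, mv_zero, neg_zero]
      · rw [if_neg ha, one_smul, mv_add, mr_perp hf (hY0 _) (hYo a b (fun e => ha (e ▸ hb))), neg_add]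
    · let N : Submodule F (Fin k → F) :=
        { carrier := {w | ∀ u, mv (g * fac i (mr hf (Y b)) * g⁻¹) (ins i w u) = -ins i w u}
          add_mem' := fun {w w'} hw hw' u => by rw [ins_add_vec, mv_add, hw, hw', neg_add]
          zero_mem' := fun u => by rw [ins_zero_vec, mv_zero, neg_zero]
          smul_mem' := fun r w hw u => by rw [ins_smul_vec, mv_smul, hw, smul_neg] }
      have hxN : x ∈ N := fun u => by
        obtain ⟨u', hu'⟩ := mem_Ln_ins (show mv g⁻¹ (ins i x u) ∈ Ln i x by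
          rw [← map_gl_inv g (Ln i x), hx]
          exact mem_map_gl.2 ⟨_, ins_mem i x u, rfl⟩)
        rw [mv_mul, mv_mul, ← hu', mv_fac_ins, mr_perp hf (hY0 _) (hYo a₀ b (Ne.symm hb0)),
          show ins i (-x) u' = -ins i x u' by rw [← neg_one_smul F x, ins_smul_vec, neg_one_smul], mv_neg, hu',
          mv_mv_inv]
      have hPN : P ≤ N := fun w hw u => by
        refine hsneg b (-1) (by ring) (fun a => ?_) w (by rw [hPneg w hw, neg_one_smul]) u
        rw [hDY, neg_one_smul]
        by_cases ha : a = a₁ ∨ a = a₂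
        · rw [if_pos ha, neg_neg, mv_add, mr_perp hf (hY0 _) (hYo a b (fun e => hb (e ▸ ha))), neg_add]
        · rw [if_neg ha, add_neg_cancel, mv_zero, neg_zero]
      have hxP : x ∉ P := fun h => by
        have h1 := hPneg x h
        rw [hTx] at h1
        refine hY0 a₀ ?_
        show f x x = 0
        have h2' : f x x = -f x x := (congrArg (fun z => f z x) h1).trans (hf.neg_left _ _)
        exact (mul_eq_zero.1 (by linear_combination h2' : (2 : F) * f x x = 0)).resolve_left h2
      obtain ⟨c, hc, hc0, hcc⟩ := Transvec.Orth.exists_singular (qf_nondeg hf h2)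
        (X := P ⊔ Submodule.span F {x}) (by
          have := Submodule.finrank_lt_finrank_of_lt (lt_of_le_of_ne (le_sup_left (b := Submodule.span F {x}))
            fun e => hxP (e.symm.le (Submodule.mem_sup_right (Submodule.mem_span_singleton_self x))))
          omega)
      rw [qf, div_eq_zero_iff] at hcc
      obtain ⟨y'', hy''m, hy''⟩ := C.toSl.exists_value (perp_nondeg hf hFnd hxF (hY0 a₀)) (by
        have := finrank_perp_ge hf (fixsp T) x
        omega) κ
      obtain ⟨hy''F, hy''x⟩ := Submodule.mem_inf.1 hy''m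
      rw [LinearMap.mem_ker, SF.formL_apply] at hy''x
      have hcy : f c y'' = 0 := by
        obtain ⟨p, hp, q, hq, rfl⟩ := Submodule.mem_sup.1 hc
        obtain ⟨r, rfl⟩ := Submodule.mem_span_singleton.1 hq
        rw [hf.add_left, hortho p hp y'' hy''F, hf.smul_left, hf.comm', hy''x, mul_zero, add_zero]
      have hcN : c ∈ N := (sup_le hPN ((Submodule.span_singleton_le_iff_mem _ _).2 hxN)) hc
      exact C.line_of hJ hX B IH hg (hYv b) hy'' hc0 (hcc.resolve_right h2) hcy hcN
  choose Y' hY' using hlines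
  exact C.frame_mono hJ hX B IH hg hYo hY0 hY'

/-- A monomial conjugate of a mirror acting like a given mirror on a line is that mirror. -/
theorem mirror_id {i : J} {x : Fin k → F} (hx : f x x = κ) {l : J} (hl : l ≠ i) {a : Fin k → F} (ha : f a a = κ)
    {u : GL (J → Fin k) F} (huX : u ∈ X) (hum : Mono u) (hu1 : u * u = 1) (hus : Small u)
    (hact : ∀ w, mv u (ins i x w) = ins i x (mv (fac (⟨l, hl⟩ : {j // j ≠ i}) (mr C.hf a)) w)) :
    u = fac l (mr C.hf a) := by
  classical
  have hf := C.hf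
  have hk : 0 < k := by have := C.hk; omega
  have ha0 : f a a ≠ 0 := ha ▸ C.hκ
  have hx0 : x ≠ 0 := fun e => C.hκ (by rw [← hx, e, hf.zero_left])
  set b := fac l (mr hf a) with hb
  have hbb : b * b = 1 := by rw [hb, ← fac_mul, mr_sq hf ha0, fac_one]
  have hqX : u * b ∈ X := X.mul_mem huX (C.mir l a ha)
  have hq : ∀ w, mv (u * b) (ins i x w) = ins i x w := fun w => by
    rw [hb, mv_mul, mv_fac_other hl, hact, ← mv_mul, ← fac_mul, mr_sq hf ha0, fac_one, mv_one]
  obtain ⟨T, hT, hTx, -⟩ := fix_line_mono C.toSl (mono_mul hum ⟨1, monoOf_fac l _⟩) (C.pres (C.iso hqX)) hx0 hq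
  have hu : u = fac i T * b := by rw [← hT, mul_assoc, hbb, mul_one]
  obtain ⟨j, y, hy, hj⟩ := C.toSl.trc_fix ⟨i⟩ (C.pres (C.iso huX)) hu1 (by
    rw [hu]; exact (monoOf_fac i T).mul (σ := 1) (τ := 1) (monoOf_fac l _)) hus
  have hTy : fac i T = fac j (mr hf y) * b := by rw [← hj, hT]
  by_cases hji : j = i
  · subst hji
    have hbj : b = fac j ((mr hf y)⁻¹ * T) := by rw [fac_mul, hTy, ← fac_inv, inv_mul_cancel_left]
    obtain ⟨τ, hτ⟩ := fac_eq_fac hk hl hbj
    exact absurd hτ (mr_not_scalar C.toSl ha0 τ)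
  have hrest : ∀ w, mv (fac (⟨j, hji⟩ : {j // j ≠ i}) (mr hf y)) (mv (fac (⟨l, hl⟩ : {j // j ≠ i}) (mr hf a)) w) = w :=
    fun w => ins_injective i hx0 (by
      rw [← mv_fac_other hji, ← mv_fac_other hl, ← mv_mul, ← hTy, mv_fac_ins, hTx])
  have hfac : fac (⟨j, hji⟩ : {j // j ≠ i}) (mr hf y) = fac (⟨l, hl⟩ : {j // j ≠ i}) (mr hf a) := ext_mv fun w => by
    conv_lhs => rw [show w = mv (fac (⟨l, hl⟩ : {j // j ≠ i}) (mr hf a))
      (mv (fac (⟨l, hl⟩ : {j // j ≠ i}) (mr hf a)) w) by rw [← mv_mul, ← fac_mul, mr_sq hf ha0, fac_one, mv_one],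
      hrest]
  rw [hj, ← up_fac i ⟨j, hji⟩, hfac, up_fac]

set_option maxHeartbeats 800000 in
/-- A member fixing a frame line pointwise commutes with the mirrors of the other slots. -/
theorem ker_comm (h5 : 5 ≤ k) {v : GL (J → Fin k) F} (hv : v ∈ X) {i : J} {Y : Fin k → Fin k → F} (hY : Good f κ Y)
    (a₀ : Fin k) (hfix : ∀ w, mv v (ins i (Y a₀) w) = ins i (Y a₀) w) {l : J} (hl : l ≠ i) {a : Fin k → F}
    (ha : f a a = κ) : v * fac l (mr C.hf a) = fac l (mr C.hf a) * v := by
  classical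
  have hf := C.hf
  have hk : 0 < k := by omega
  have hY0 : ∀ b, f (Y b) (Y b) ≠ 0 := fun b => by rw [hY.2]; exact C.hκ
  have ha0 : f a a ≠ 0 := ha ▸ C.hκ
  set x := Y a₀
  have hx0 : x ≠ 0 := fun e => hY0 a₀ (by rw [show Y a₀ = x from rfl, e, hf.zero_left])
  obtain ⟨a₁, a₂, a₃, h10, h20, h30, h12, h13, h23⟩ :
      ∃ a₁ a₂ a₃ : Fin k, a₁ ≠ a₀ ∧ a₂ ≠ a₀ ∧ a₃ ≠ a₀ ∧ a₁ ≠ a₂ ∧ a₁ ≠ a₃ ∧ a₂ ≠ a₃ := by
    have h : 2 < (Finset.univ.erase a₀).card := by
      rw [Finset.card_erase_of_mem (Finset.mem_univ _), Finset.card_univ, Fintype.card_fin]; omega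
    obtain ⟨p, hp, q, hq, r, hr, hpq, hpr, hqr⟩ := Finset.two_lt_card.1 h
    exact ⟨p, q, r, Finset.ne_of_mem_erase hp, Finset.ne_of_mem_erase hq, Finset.ne_of_mem_erase hr, hpq, hpr, hqr⟩
  set b := fac l (mr hf a) with hb
  set β : GL (Rest i k) F := fac (⟨l, hl⟩ : {j // j ≠ i}) (mr hf a) with hβ
  have hββ : β * β = 1 := by rw [hβ, ← fac_mul, mr_sq hf ha0, fac_one]
  have hbb : b * b = 1 := by rw [hb, ← fac_mul, mr_sq hf ha0, fac_one]
  have hbX : b ∈ X := C.mir l a ha
  set s := v * b * v⁻¹ with hs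
  have hsX : s ∈ X := X.mul_mem (X.mul_mem hv hbX) (X.inv_mem hv)
  have hss : s * s = 1 := by
    rw [hs, show v * b * v⁻¹ * (v * b * v⁻¹) = v * (b * b) * v⁻¹ by group, hbb, mul_one, mul_inv_cancel]
  have hsact : ∀ w, mv s (ins i x w) = ins i x (mv β w) := fun w => by
    rw [hs, mv_mul, mv_mul, show mv v⁻¹ (ins i x w) = ins i x w by rw [mv_eq_iff, inv_inv, hfix], hb,
      mv_fac_other hl, hfix]
  have hmapx : ∀ {u : GL (J → Fin k) F} {γ : GL (Rest i k) F}, (∀ w, mv u (ins i x w) = ins i x (mv γ w)) →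
      (Ln i x).map (mvLin u) = Ln i x := fun {u γ} h => by
    refine Submodule.eq_of_le_of_finrank_le (fun z hz => ?_) (by rw [finrank_map_gl])
    obtain ⟨z', hz', rfl⟩ := mem_map_gl.1 hz
    obtain ⟨w, rfl⟩ := mem_Ln_ins hz'
    rw [h]; exact ins_mem i x _
  have hsm : Small s := by rw [Small, hs, finrank_fixsp_conj]; exact small_mir C.toSl l ha0
  have key : ∀ p q : Fin k, p ≠ a₀ → q ≠ a₀ → p ≠ q →
      s * (fac i (mr hf (Y p) * mr hf (Y q)) * b) = fac i (mr hf (Y p) * mr hf (Y q)) * b * s := by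
    intro p q hp hq hpq
    set D := mr hf (Y p) * mr hf (Y q) with hD
    set t := fac (J := J) i D with ht
    have htX : t ∈ X := by rw [ht, hD, fac_mul]; exact X.mul_mem (C.mir i _ (hY.2 p)) (C.mir i _ (hY.2 q))
    have hDx : mv D x = x := by
      rw [hD, mv_mul, mr_perp hf (hY0 _) (hY.1 _ _ (Ne.symm hq)), mv_neg,
        mr_perp hf (hY0 _) (hY.1 _ _ (Ne.symm hp)), neg_neg]
    have hDD : D * D = 1 := by
      refine ext_frame hf hY.1 hY0 fun c => ?_
      rw [mv_mul, mv_one, hD, mv_mul, mv_mul]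
      by_cases h1 : c = q
      · subst h1
        simp only [mr_self hf (hY0 _), mr_perp hf (hY0 _) (hY.1 _ _ (Ne.symm hpq)), mv_neg, neg_neg]
      by_cases h2 : c = p
      · subst h2
        simp only [mr_self hf (hY0 _), mr_perp hf (hY0 _) (hY.1 _ _ hpq), mv_neg, neg_neg]
      · simp only [mr_perp hf (hY0 _) (hY.1 _ _ h1), mr_perp hf (hY0 _) (hY.1 _ _ h2), mv_neg, neg_neg]
    have htt : t * t = 1 := by rw [ht, ← fac_mul, hDD, fac_one]
    have htact : ∀ w, mv t (ins i x w) = ins i x w := fun w => by rw [ht, mv_fac_ins, hDx]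
    set τ := t * s with hτ
    have hτX : τ ∈ X := X.mul_mem htX hsX
    have hτpow : ∀ (n : ℕ) w, mv (τ ^ n) (ins i x w) = ins i x (mv (β ^ n) w) := fun n => by
      induction n with
      | zero => intro w; rw [pow_zero, pow_zero, mv_one, mv_one]
      | succ n ih => intro w; rw [pow_succ, pow_succ, mv_mul, hτ, mv_mul, hsact, htact, ← hτ, ih, mv_mul]
    have hβodd : ∀ m : ℕ, β ^ (2 * m + 1) = β := fun m => by rw [pow_succ, pow_mul, pow_two, hββ, one_pow, one_mul]
    have hβev : ∀ m : ℕ, β ^ (2 * m) = 1 := fun m => by rw [pow_mul, pow_two, hββ, one_pow]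
    have hconj : ∀ m : ℕ, t * τ ^ m = (τ ^ m)⁻¹ * t := fun m => by
      induction m with
      | zero => simp
      | succ m ih =>
        rw [pow_succ, ← mul_assoc, ih, ← pow_succ, pow_succ', _root_.mul_inv_rev, mul_assoc, mul_assoc]
        congr 1
        rw [hτ, _root_.mul_inv_rev, ← mul_assoc, htt, one_mul, inv_eq_of_mul_eq_one_right hss,
          inv_eq_of_mul_eq_one_right htt, mul_assoc, htt, mul_one]
    -- the order is even
    obtain ⟨r, hr⟩ : ∃ r, orderOf τ = 2 * r := by
      rcases Nat.even_or_odd (orderOf τ) with ⟨r, hr⟩ | ⟨r, hr⟩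
      · exact ⟨r, by omega⟩
      exfalso
      have hβ1 : β = 1 := by
        refine ext_mv fun w => ins_injective i hx0 ?_
        rw [← hβodd r, ← hr, ← hτpow, pow_orderOf_eq_one, mv_one, mv_one]
      exact mr_not_scalar C.toSl ha0 1 (fun u => by
        rw [(fac_one_iff hk _).1 hβ1, mv_one, one_smul])
    have hrpos : 0 < r := by have := orderOf_pos τ; omega
    have hwm : Mono (τ ^ r) := by
      refine C.split hJ hX B IH h5 (X.pow_mem hτX r) hY hp hq hpq (hmapx (hτpow r)) (T := D)
        (fun c d => ?_) hDx ?_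
      · rw [hD, mv_mul, mv_mul, mr_isom hf (hY0 _), mr_isom hf (hY0 _)]
      · show τ ^ r * t * (τ ^ r)⁻¹ = t
        rw [mul_inv_eq_iff_eq_mul, hconj]
        congr 1
        rw [eq_inv_iff_mul_eq_one, ← pow_add, ← two_mul, ← hr, pow_orderOf_eq_one]
    have hchain : ∀ j, 0 < j → Mono (τ ^ j) → ∃ m, Mono (τ ^ (2 * m + 1)) := by
      intro j
      induction j using Nat.strong_induction_on with
      | _ j ih =>
        intro hj hm
        rcases Nat.even_or_odd j with ⟨m, rfl⟩ | ⟨m, rfl⟩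
        swap
        · exact ⟨m, hm⟩
        have hcj : t * τ ^ (m + m) = (τ ^ m)⁻¹ * t * τ ^ m := by
          rw [pow_add, ← mul_assoc, hconj]
        have hact : ∀ w, mv (t * τ ^ (m + m)) (ins i x w) = ins i x w := fun w => by
          rw [mv_mul, hτpow, ← two_mul, hβev, mv_one, htact]
        have hcX : t * τ ^ (m + m) ∈ X := X.mul_mem htX (X.pow_mem hτX _)
        obtain ⟨T, hT, hTx, hTf⟩ := fix_line_mono C.toSl (mono_mul ⟨1, monoOf_fac i D⟩ hm)
          (C.pres (C.iso hcX)) hx0 hact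
        have hgm := C.split hJ hX B IH h5 (X.inv_mem (X.pow_mem hτX m)) hY hp hq hpq (T := T) (by
          conv_lhs => rw [← hmapx (hτpow m), map_gl_inv]) hTf hTx (by
          rw [inv_inv, ← ht, ← hcj]; exact hT)
        exact ih m (by omega) (by omega) (by simpa using mono_inv hgm)
    obtain ⟨m, hm⟩ := hchain r hrpos hwm
    have hσ : t * τ ^ (2 * m + 1) = (τ ^ m)⁻¹ * s * τ ^ m := by
      rw [show 2 * m + 1 = m + (1 + m) by ring, pow_add, ← mul_assoc, hconj, pow_add, pow_one, hτ]
      simp only [mul_assoc]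
      rw [← mul_assoc t t, htt, one_mul]
    have hσb : t * τ ^ (2 * m + 1) = b := by
      refine C.mirror_id hJ hX B IH (x := x) (hY.2 a₀) hl ha (X.mul_mem htX (X.pow_mem hτX _))
        (mono_mul ⟨1, monoOf_fac i D⟩ hm) ?_ ?_ fun w => by rw [mv_mul, hτpow, hβodd, mv_fac_ins, hDx]
      · rw [hσ, show (τ ^ m)⁻¹ * s * τ ^ m * ((τ ^ m)⁻¹ * s * τ ^ m) = (τ ^ m)⁻¹ * (s * s) * τ ^ m by group, hss,
          mul_one, inv_mul_cancel]
      · rw [hσ, Small]
        have := finrank_fixsp_conj (τ ^ m)⁻¹ s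
        rw [inv_inv] at this
        rw [this]
        exact hsm
    have hτj : τ ^ (2 * m + 1) = t * b := by rw [← hσb, ← mul_assoc, htt, one_mul]
    have htb : t * b = b * t := by rw [ht, hb]; exact fac_comm (Ne.symm hl) _ _
    have hinv : (τ ^ (2 * m + 1))⁻¹ = τ ^ (2 * m + 1) := by
      refine inv_eq_of_mul_eq_one_right ?_
      rw [hτj, mul_assoc, ← mul_assoc b, ← htb, mul_assoc, hbb, mul_one, htt]
    have hsτ : s * τ ^ (2 * m + 1) = (τ ^ (2 * m + 1))⁻¹ * s := by
      have e : ∀ n : ℕ, s * τ ^ n = (τ ^ n)⁻¹ * s := fun n => by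
        have hst : s = t * τ := by rw [hτ, ← mul_assoc, htt, one_mul]
        have h1 := hconj 1
        rw [pow_one] at h1
        rw [hst, mul_assoc, ← pow_succ', hconj, pow_succ', _root_.mul_inv_rev, mul_assoc, ← h1]
      exact e _
    show s * (t * b) = t * b * s
    rw [← hτj, hsτ, hinv]
  have h12' := key a₁ a₂ h10 h20 h12
  have h23' := key a₂ a₃ h20 h30 h23
  set D13 := mr hf (Y a₁) * mr hf (Y a₃) with hD13
  have hprod : fac i (mr hf (Y a₁) * mr hf (Y a₂)) * b * (fac i (mr hf (Y a₂) * mr hf (Y a₃)) * b) =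
      fac (J := J) i D13 := by
    rw [hb, fac_comm (Ne.symm hl) (mr hf (Y a₂) * mr hf (Y a₃)) (mr hf a), ← mul_assoc,
      mul_assoc (fac i (mr hf (Y a₁) * mr hf (Y a₂))), ← hb, hbb, mul_one, ← fac_mul, hD13]
    congr 1
    rw [mul_assoc, ← mul_assoc (mr hf (Y a₂)), mr_sq hf (hY0 _), one_mul]
  have h13' : s * fac i D13 = fac i D13 * s := by
    rw [← hprod]
    exact ((show Commute s _ from h12').mul_right (show Commute s _ from h23')).eq
  have hD13x : mv D13 x = x := by
    rw [hD13, mv_mul, mr_perp hf (hY0 _) (hY.1 _ _ (Ne.symm h30)), mv_neg,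
      mr_perp hf (hY0 _) (hY.1 _ _ (Ne.symm h10)), neg_neg]
  have hsmono : Mono s := C.split hJ hX B IH h5 hsX hY h10 h30 h13 (hmapx hsact) (T := D13)
    (fun c d => by rw [hD13, mv_mul, mv_mul, mr_isom hf (hY0 _), mr_isom hf (hY0 _)]) hD13x (by
      rw [← hD13, h13', mul_inv_cancel_right])
  have := C.mirror_id hJ hX B IH (x := x) (hY.2 a₀) hl ha hsX hsmono hss hsm hsact
  rw [hs, mul_inv_eq_iff_eq_mul] at this
  exact this

/-- A member fixing the line of a vector of value κ pointwise is a member of that slot. -/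
theorem ker_fac {v : GL (J → Fin k) F} (hv : v ∈ X) {i : J} {x : Fin k → F} (hx : f x x = κ)
    (hfix : ∀ w, mv v (ins i x w) = ins i x w) :
    ∃ T : GL (Fin k) F, v = fac i T ∧ mv T x = x ∧ ∀ a b, f (mv T a) (mv T b) = f a b := by
  classical
  have hf := C.hf
  have hk : 0 < k := by have := C.hk; omega
  have hxx : f x x ≠ 0 := hx ▸ C.hκ
  have hx0 : x ≠ 0 := fun e => hxx (by rw [e, hf.zero_left])
  refine fix_line_mono C.toSl ?_ (C.pres (C.iso hv)) hx0 hfix
  by_cases h5 : 5 ≤ k
  · obtain ⟨Y, hY, hYx⟩ := B.exists_good_through hx ⟨0, hk⟩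
    subst hYx
    obtain ⟨T₀, hT₀⟩ := C.toSl.comm_mirrors i (L := mvLin v) fun l z hl hz =>
      LinearMap.ext fun u => by
        show mv v (mv _ u) = mv _ (mv v u)
        rw [← mv_mul, ← mv_mul, C.ker_comm hJ hX B IH h5 hv hY _ hfix hl hz]
    obtain ⟨T, hT⟩ := exists_gl_of_injective T₀ fun a b e => by
      obtain ⟨w, hw⟩ := rest_vec_ne (F := F) hk i
      refine ins_vec_inj hw (mv_inj v ?_)
      show mvLin v (ins i a w) = mvLin v (ins i b w)
      rw [hT₀, op_ins, op_ins, e]
    exact ⟨1, (show v = fac i T from ext_ins_mv i fun a w => by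
      show mvLin v (ins i a w) = _
      rw [hT₀, op_ins, mv_fac_ins, hT, LinearMap.id_apply]) ▸ monoOf_fac i T⟩
  have h3 : k = 3 := by
    obtain ⟨m, hm⟩ := C.odd
    have := C.hk
    omega
  obtain ⟨p, hp⟩ := CharP.exists F
  haveI := hp
  haveI : Fact p.Prime := ⟨by haveI : Fintype F := Fintype.ofFinite F; exact CharP.char_is_prime F p⟩
  let G : Subgroup (GL (J → Fin k) F) :=
    { carrier := {u | u ∈ X ∧ ∀ w, mv u (ins i x w) = ins i x w}
      one_mem' := ⟨X.one_mem, fun w => mv_one _⟩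
      mul_mem' := fun {a b} ha hb => ⟨X.mul_mem ha.1 hb.1, fun w => by rw [mv_mul, hb.2, ha.2]⟩
      inv_mem' := fun {a} ha => ⟨X.inv_mem ha.1, fun w => by rw [mv_eq_iff, inv_inv, ha.2]⟩ }
  obtain ⟨m, hm⟩ := Fintype.exists_ne_of_one_lt_card (α := J) (by omega) i
  refine C.gp hJ hX B IH G (fun u hu => hu.1) m (fun c w hc hw u hu => ?_) p (fun u hu hum hup => ?_) v ⟨hv, hfix⟩
  · refine ⟨X.mul_mem (X.mul_mem (C.root m c w hc hw) hu.1) (X.inv_mem (C.root m c w hc hw)), fun r => ?_⟩
    rw [mv_mul, mv_mul, fac_inv, mv_fac_other hm, hu.2, mv_fac_other hm, ← mv_mul, ← fac_mul, mul_inv_cancel,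
      fac_one, mv_one]
  · obtain ⟨T, rfl, hTx, hTf⟩ := fix_line_mono C.toSl hum (C.pres (C.iso hu.1)) hx0 hu.2
    haveI : Nonempty (Fin k) := ⟨⟨0, hk⟩⟩
    rw [fac_pow, fac_one_iff hk] at hup
    have hT1 : T = 1 := C.toSl.unipotent_one h3 hTf hxx hTx (n := p) fun z => by
      set M := (T : Matrix (Fin k) (Fin k) F) with hM
      have hd : ∀ n : ℕ, (dev T)^[n] z = ((M - 1) ^ n) *ᵥ z := fun n => by
        induction n with
        | zero => simp
        | succ n ih =>
          rw [Function.iterate_succ_apply', ih, pow_succ', ← Matrix.mulVec_mulVec, dev_apply, Matrix.sub_mulVec,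
            Matrix.one_mulVec]
      rw [hd, sub_pow_char_of_commute p (Commute.one_right M), one_pow, hM,
        show (T : Matrix (Fin k) (Fin k) F) ^ p = 1 by rw [← Units.val_pow_eq_pow_val, hup]; rfl, sub_self,
        Matrix.zero_mulVec]
    rw [hT1, fac_one]

end Ctx

end Cfsg.Agent.OrthWreath
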