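/-
Fusion of mirrors: a member conjugating a mirror of value κ to a monomial element is monomial.
-/
import Cfsg.Agent.Lib.OrthWreath.Ker

set_option autoImplicit false
set_option linter.unusedSectionVars false

namespace Cfsg.Agent.OrthWreath

open scoped Matrix
open Matrix Cfsg.Agent.Transvec Cfsg.Agent.TensorMax Cfsg.Agent.WreathMax Cfsg.Agent.FormWreath
open Cfsg.Agent.UWreath (mono_mul mono_inv)

variable {F : Type*} [Field F] [Finite F] {k : ℕ} {J : Type} [Fintype J] [DecidableEq J]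
variable {f : (Fin k → F) → (Fin k → F) → F} {κ : F}

local notation "σ₁" => RingEquiv.refl F

/-- The multiplier of a similitude of odd dimension is a square. -/
theorem sim_sq {ι : Type} [Fintype ι] [DecidableEq ι] {g : (ι → F) → (ι → F) → F} (hg : Sym g)
    (hodd : Odd (Fintype.card ι)) {T : GL ι F} {l : F} (hl : l ≠ 0)
    (hT : ∀ u v, g (mv T u) (mv T v) = l * g u v) : ∃ ν : F, ν ≠ 0 ∧ l = ν * ν := by
  let Φ : (ι → F) →ₗ[F] ι → F :=
    { toFun := fun c a => g (Pi.single a 1) c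
      map_add' := fun a b => funext fun i => hg.add_right _ a b
      map_smul' := fun r a => funext fun i => by simp [hg.smul_right'] }
  have hΦ : ∀ u v, u ⬝ᵥ Φ v = g u v := fun u v => by
    show ∑ a, u a * g (Pi.single a 1) v = _
    conv_rhs => rw [← Finset.univ_sum_single u]
    rw [show g (∑ a, Pi.single a (u a)) v = ∑ a, g (Pi.single a (u a)) v from map_sum (hg.formL v) _ _]
    refine Finset.sum_congr rfl fun a _ => ?_
    rw [← hg.smul_left, ← Pi.single_smul, smul_eq_mul, mul_one]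
  set G := LinearMap.toMatrix' Φ
  have hG : ∀ u v, u ⬝ᵥ G *ᵥ v = g u v := fun u v => by rw [LinearMap.toMatrix'_mulVec, hΦ]
  have e : (T : Matrix ι ι F)ᵀ * G * (T : Matrix ι ι F) = l • G := by
    refine Matrix.toLin'.injective (LinearMap.ext fun v => dotProduct_eq _ _ fun w => ?_)
    rw [dotProduct_comm, dotProduct_comm _ w, Matrix.toLin'_apply, Matrix.toLin'_apply, ← Matrix.mulVec_mulVec,
      ← Matrix.mulVec_mulVec, Matrix.dotProduct_mulVec, Matrix.vecMul_transpose, Matrix.smul_mulVec,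
      dotProduct_smul, smul_eq_mul, hG, hG]
    exact hT w v
  have hG0 : G.det ≠ 0 := fun h0 => by
    obtain ⟨v, hv, hv0⟩ := Matrix.exists_mulVec_eq_zero_iff.2 h0
    exact hv (hg.nondeg v fun y => by rw [hg.comm', ← hG, hv0, dotProduct_zero])
  have hd := congrArg Matrix.det e
  rw [Matrix.det_mul, Matrix.det_mul, Matrix.det_transpose, Matrix.det_smul] at hd
  set D := (T : Matrix ι ι F).det
  have h1 : l ^ Fintype.card ι = D ^ 2 := mul_right_cancel₀ hG0 (by linear_combination -hd)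
  obtain ⟨m, hm⟩ := hodd
  have hD : D ≠ 0 := fun e0 => by
    rw [e0, zero_pow two_ne_zero] at h1
    exact hl ((pow_eq_zero_iff (by omega)).1 h1)
  refine ⟨D / l ^ m, div_ne_zero hD (pow_ne_zero _ hl), ?_⟩
  field_simp
  rw [hm] at h1
  linear_combination h1

/-- The slots other than two given ones correspond, with their forms. -/
theorem exists_rest_iso (i l : J) : ∃ E : (Rest l k → F) ≃ₗ[F] (Rest i k → F),
    ∀ u v, Bt σ₁ f (E u) (E v) = Bt σ₁ f u v := by
  classical
  let e : {j // j ≠ l} ≃ {j // j ≠ i} := Fintype.equivOfCardEq (by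
    rw [Fintype.card_subtype_compl, Fintype.card_subtype_compl, Fintype.card_subtype_eq, Fintype.card_subtype_eq])
  let E : Rest i k ≃ Rest l k := Equiv.arrowCongr e.symm (Equiv.refl _)
  refine ⟨LinearEquiv.funCongrLeft F F E, fun u v => ?_⟩
  simp only [Bt]
  refine Fintype.sum_equiv E _ _ fun a => Fintype.sum_equiv E _ _ fun b => ?_
  have hprod : ∏ j, Geo.gramMatrix f (a j) (b j) = ∏ j, Geo.gramMatrix f (E a j) (E b j) :=
    (Fintype.prod_equiv e _ _ fun j => by simp [E]).symm
  rw [hprod]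
  rfl

/-- A linear map with an eigenvalue on x other than one on an orthogonal u does not commute with everything. -/
theorem exists_noncomm (S : Sl f κ) {A : GL (Fin k) F} {x u : Fin k → F} {ε ε' : F} (hx0 : x ≠ 0) (hxu : f x u = 0)
    (hu : f u u ≠ 0) (hAx : mv A x = ε • x) (hAu : mv A u = ε' • u) (hne : ε ≠ ε') :
    ∃ T : GL (Fin k) F, A * T ≠ T * A := by
  have hf := S.hf
  obtain ⟨T, hT⟩ := exists_gl_of_injective (LinearMap.id + (hf.formL u).smulRight x) fun a b h => by
    simp only [LinearMap.add_apply, LinearMap.id_apply, LinearMap.smulRight_apply, SF.formL_apply] at h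
    have h1 := congrArg (fun z => f z u) h
    simp only [hf.add_left, hf.smul_left, hxu, mul_zero, add_zero] at h1
    rw [h1] at h
    exact add_right_cancel h
  refine ⟨T, fun h => ?_⟩
  have h2 := congrArg (fun g => mv g u) h
  simp only [mv_mul, hT, hAu, LinearMap.add_apply, LinearMap.id_apply, LinearMap.smulRight_apply, SF.formL_apply,
    mv_add, mv_smul, hAx, hf.smul_left] at h2
  have h3 : (f u u * (ε - ε')) • x = 0 := by linear_combination (norm := module) h2
  exact (smul_eq_zero.1 h3).elim (fun h => (mul_eq_zero.1 h).elim hu fun h => hne (sub_eq_zero.1 h)) hx0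

theorem fac_inj (hk : 0 < k) (i : J) {A B : GL (Fin k) F} (h : fac i A = fac i B) : A = B := by
  have : fac i (A * B⁻¹) = 1 := by rw [fac_mul, h, ← fac_mul, mul_inv_cancel, fac_one]
  exact mul_inv_eq_one.1 ((fac_one_iff hk i).1 this)

namespace Sl

variable (S : Sl f κ)
include S

theorem plane_apply {y y' : Fin k → F} (hy : f y y = κ) (hy' : f y' y' = κ) (hyy : f y y' = 0) (w : Fin k → F) :
    mv (mr S.hf y * mr S.hf y') w = w - (2 * f w y / κ) • y - (2 * f w y' / κ) • y' := by
  have hκ := S.hκ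
  have hy0 : f y y ≠ 0 := by rw [hy]; exact hκ
  have hy'0 : f y' y' ≠ 0 := by rw [hy']; exact hκ
  rw [mv_mul, mv_mr S.hf hy'0 w, mv_sub, mv_smul, mr_perp S.hf hy0 (by rw [S.hf.comm', hyy]),
    mv_mr S.hf hy0 w, hy, hy']
  module

theorem mr_noncentral {x : Fin k → F} (hx : f x x ≠ 0) : ∃ T : GL (Fin k) F, mr S.hf x * T ≠ T * mr S.hf x := by
  have hf := S.hf
  have hQf := qf_nondeg hf S.two
  have hn : Transvec.Orth.Nondeg (qf f) (⊤ ⊓ LinearMap.ker (hf.formL x)) := fun u hu h =>
    perp_nondeg hf (fun u _ h => hf.nondeg u fun y => by rw [hf.comm']; exact h y Submodule.mem_top)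
      Submodule.mem_top hx u hu fun w hw => by rw [← pol_qf hf S.two]; exact h w hw
  obtain ⟨u, hu, huq⟩ := Transvec.Orth.exists_anisotropic hQf hn fun h => by
    have := finrank_perp_ge hf ⊤ x
    rw [h, finrank_bot, finrank_top, Module.finrank_fintype_fun_eq_card, Fintype.card_fin] at this
    have := S.hk
    omega
  rw [Submodule.mem_inf, LinearMap.mem_ker, SF.formL_apply] at hu
  refine exists_noncomm S (x := x) (u := u) (ε := 1) (ε' := -1) (fun e => hx (by rw [e, hf.zero_left]))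
    (by rw [hf.comm', hu.2]) (fun e => huq (by rw [qf, e, zero_div])) (by rw [mr_self hf hx, one_smul])
    (by rw [mr_perp hf hx hu.2, neg_one_smul]) fun e => S.two (by linear_combination e)

theorem plane_noncentral {y y' : Fin k → F} (hy : f y y = κ) (hy' : f y' y' = κ) (hyy : f y y' = 0) :
    ∃ T : GL (Fin k) F, mr S.hf y * mr S.hf y' * T ≠ T * (mr S.hf y * mr S.hf y') := by
  have hf := S.hf
  have hκ := S.hκ
  have hQf := qf_nondeg hf S.two
  have hnd1 := perp_nondeg hf (P := ⊤) (x := y)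
    (fun u _ h => hf.nondeg u fun z => by rw [hf.comm']; exact h z Submodule.mem_top) Submodule.mem_top (hy ▸ hκ)
  have hy'm : y' ∈ ⊤ ⊓ LinearMap.ker (hf.formL y) := Submodule.mem_inf.2 ⟨Submodule.mem_top, by
    rw [LinearMap.mem_ker, SF.formL_apply, hf.comm', hyy]⟩
  have hn : Transvec.Orth.Nondeg (qf f) (⊤ ⊓ LinearMap.ker (hf.formL y) ⊓ LinearMap.ker (hf.formL y')) :=
    fun u hu h => perp_nondeg hf hnd1 hy'm (hy' ▸ hκ) u hu fun w hw => by
      rw [← pol_qf hf S.two]; exact h w hw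
  obtain ⟨u, hu, huq⟩ := Transvec.Orth.exists_anisotropic hQf hn fun h => by
    have h1 := finrank_perp_ge hf ⊤ y
    have h2 := finrank_perp_ge hf (⊤ ⊓ LinearMap.ker (hf.formL y)) y'
    rw [h, finrank_bot] at h2
    rw [finrank_top, Module.finrank_fintype_fun_eq_card, Fintype.card_fin] at h1
    have := S.hk
    omega
  rw [Submodule.mem_inf, Submodule.mem_inf, LinearMap.mem_ker, LinearMap.mem_ker, SF.formL_apply,
    SF.formL_apply] at hu
  refine exists_noncomm S (x := y) (u := u) (ε := -1) (ε' := 1)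
    (fun e => hκ (by rw [← hy, e, hf.zero_left])) (by rw [hf.comm', hu.1.2])
    (fun e => huq (by rw [qf, e, zero_div])) ?_ ?_ fun e => S.two (by linear_combination -e)
  · rw [S.plane_apply hy hy' hyy, hy, hyy]
    match_scalars <;> field_simp <;> ring
  · rw [S.plane_apply hy hy' hyy, hu.1.2, hu.2, one_smul]
    module

end Sl

variable {Q : ((J → Fin k) → F) → F} {X : Subgroup (GL (J → Fin k) F)}

namespace Ctx

variable (C : Ctx f Q κ X) (hJ : 2 ≤ Fintype.card J) (hX : ¬ Geo.omegaGL Q ≤ X) (B : Base f Q κ) (IH : Ind f κ J)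
include C hJ hX B IH

omit hJ hX B IH in
/-- The image line of a line has the same value, up to squares. -/
theorem line_good {g : GL (J → Fin k) F} (hg : g ∈ isometryGroup F Q) {i l : J} {x x' : Fin k → F}
    (hx : f x x ≠ 0) (hx' : f x' x' ≠ 0) (hmap : (Ln i x).map (mvLin g) = Ln l x') :
    ∃ s : F, s ≠ 0 ∧ f (s • x') (s • x') = f x x := by
  have hf := C.hf
  have hk : 0 < k := by have := C.hk; omega
  have hx0 : x ≠ 0 := fun e => hx (by rw [e, hf.zero_left])
  have hx'0 : x' ≠ 0 := fun e => hx' (by rw [e, hf.zero_left])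
  obtain ⟨φ, hφ⟩ := exists_dot_one hx'0
  set R₀ : (Rest i k → F) →ₗ[F] Rest l k → F := cr l φ ∘ₗ mvLin g ∘ₗ ins i x
  have hR₀ : ∀ w, mv g (ins i x w) = ins l x' (R₀ w) := fun w => by
    obtain ⟨w', hw'⟩ := mem_Ln_ins (hmap ▸ mem_map_gl.2 ⟨_, ins_mem i x w, rfl⟩ : mv g (ins i x w) ∈ Ln l x')
    show _ = ins l x' (cr l φ (mv g (ins i x w)))
    rw [← hw', cr_ins, hφ, one_smul]
  obtain ⟨E, hE⟩ := exists_rest_iso (F := F) (k := k) (f := f) i l
  obtain ⟨T, hT⟩ := exists_gl_of_injective (E.toLinearMap ∘ₗ R₀) fun a b e =>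
    ins_injective i hx0 (mv_inj g (by rw [hR₀, hR₀, E.injective e]))
  have hsim : ∀ u v, Bt σ₁ f (mv T u) (mv T v) = f x x / f x' x' * Bt σ₁ f u v := fun u v => by
    rw [hT, hT]
    show Bt σ₁ f (E (R₀ u)) (E (R₀ v)) = _
    rw [hE]
    have := C.pres hg (ins i x u) (ins i x v)
    rw [hR₀, hR₀, Bt_ins_ins hf, Bt_ins_ins hf] at this
    rw [div_mul_eq_mul_div, eq_div_iff hx', ← this, mul_comm]
  obtain ⟨ν, hν, hνl⟩ := sim_sq (Bt_sym hf) (by rw [Fintype.card_fun, Fintype.card_fin]; exact C.odd.pow)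
    (div_ne_zero hx hx') hsim
  exact ⟨ν, hν, by rw [hf.smul_left, hf.smul_right', ← mul_assoc, ← hνl, div_mul_cancel₀ _ hx']⟩

/-- Conjugating a mirror of value κ to a mirror of value κ. -/
theorem gm {g : GL (J → Fin k) F} (hg : g ∈ X) {i l : J} {x x' : Fin k → F} (hx : f x x = κ) (hx' : f x' x' = κ)
    (h : g * fac i (mr C.hf x) * g⁻¹ = fac l (mr C.hf x')) : Mono g := by
  classical
  have hf := C.hf
  have hk3 := C.hk
  have hk : 0 < k := by omega
  have hx0 : f x x ≠ 0 := hx ▸ C.hκ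
  have hx'0 : f x' x' ≠ 0 := hx' ▸ C.hκ
  have hmap : (Ln i x).map (mvLin g) = Ln l x' := by
    rw [← fixsp_mir C.toSl i hx0, ← fixsp_conj, h, fixsp_mir C.toSl l hx'0]
  set a₀ : Fin k := ⟨0, hk⟩
  obtain ⟨Y, hY, hYx⟩ := B.exists_good_through hx a₀
  obtain ⟨Y', hY', hY'x⟩ := B.exists_good_through hx' a₀
  have hY0 : ∀ b, f (Y b) (Y b) ≠ 0 := fun b => by rw [hY.2]; exact C.hκ
  set a₁ : Fin k := ⟨1, by omega⟩
  have ha₁ : a₁ ≠ a₀ := fun e => by simp [a₁, a₀] at e
  have hlines : ∀ b, ∃ y', (Ln i (Y b)).map (mvLin g) = Ln l y' := by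
    intro b
    by_cases hb : b = a₀
    · subst hb; exact ⟨x', by rw [hYx]; exact hmap⟩
    set s := g * fac i (mr hf (Y b)) * g⁻¹ with hsd
    have hsX : s ∈ X := X.mul_mem (X.mul_mem hg (C.mir i _ (hY.2 b))) (X.inv_mem hg)
    have hy''0 : f (Y' a₁) (Y' a₁) ≠ 0 := by rw [hY'.2]; exact C.hκ
    set q := s * fac l (mr hf (Y' a₁))
    have hqX : q ∈ X := X.mul_mem hsX (C.mir l _ (hY'.2 a₁))
    have hqx : ∀ u, mv q (ins l x' u) = ins l x' u := fun u => by
      have hneg : ∀ (j : J) (z : Fin k → F) r, ins j (-z) r = -ins j z r := fun j z r => by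
        rw [← neg_one_smul F z, ins_smul_vec, neg_one_smul]
      rw [mv_mul, mv_fac_ins, mr_perp hf hy''0 (by rw [← hY'x]; exact hY'.1 _ _ (Ne.symm ha₁)), hneg, mv_neg]
      obtain ⟨w, hw⟩ := mem_Ln_ins (show mv g⁻¹ (ins l x' u) ∈ Ln i x by
        rw [← map_gl_inv g (Ln i x), hmap]
        exact mem_map_gl.2 ⟨_, ins_mem l x' u, rfl⟩)
      rw [hsd, mv_mul, mv_mul, ← hw, mv_fac_ins, mr_perp hf (hY0 b) (by rw [← hYx]; exact hY.1 _ _ (Ne.symm hb)),
        hneg, mv_neg, hw, mv_mv_inv, neg_neg]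
    obtain ⟨T, hT, -, -⟩ := C.ker_fac hJ hX B IH hqX hx' hqx
    have hs' : s = fac l (T * mr hf (Y' a₁)) := by
      rw [fac_mul, ← hT, mul_assoc, ← fac_mul, mr_sq hf hy''0, fac_one, mul_one]
    have hs1 : s * s = 1 := by
      rw [hsd, show g * fac i (mr hf (Y b)) * g⁻¹ * (g * fac i (mr hf (Y b)) * g⁻¹) =
        g * (fac i (mr hf (Y b)) * fac i (mr hf (Y b))) * g⁻¹ by group, ← fac_mul, mr_sq hf (hY0 b), fac_one,
        mul_one, mul_inv_cancel]
    obtain ⟨j, y', hy', hj⟩ := C.toSl.trc_fix ⟨i⟩ (C.pres (C.iso hsX)) hs1 (hs' ▸ monoOf_fac l _)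
      (by rw [Small, hsd, finrank_fixsp_conj]; exact small_mir C.toSl i (hY0 b))
    obtain rfl : j = l := by
      by_contra hne
      obtain ⟨τ, hτ⟩ := fac_eq_fac hk hne (hj.symm.trans hs')
      exact mr_not_scalar C.toSl hy' τ hτ
    exact ⟨y', by rw [← fixsp_mir C.toSl i (hY0 b), ← fixsp_conj, ← hsd, hj, fixsp_mir C.toSl j hy']⟩
  choose Y₁ hY₁ using hlines
  exact C.frame_mono hJ hX B IH hg hY.1 hY0 hY₁

/-- A member conjugating a mirror of value κ to a monomial element is monomial, the image such a mirror. -/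
theorem fus {g : GL (J → Fin k) F} (hg : g ∈ X) {i : J} {x : Fin k → F} (hx : f x x = κ)
    (hm : Mono (g * fac i (mr C.hf x) * g⁻¹)) :
    Mono g ∧ ∃ (j : J) (z : Fin k → F), f z z = κ ∧ g * fac i (mr C.hf x) * g⁻¹ = fac j (mr C.hf z) := by
  have hf := C.hf
  have hx0 : f x x ≠ 0 := hx ▸ C.hκ
  obtain ⟨j, y, hy, hj⟩ := B.trc (C.iso hg) i hx0 hm fun a b c w c' w' _ hc hw hc' hw' _ hcomm => by
    refine C.gm hJ hX B IH (X.mul_mem (X.mul_mem (X.inv_mem hg) (X.mul_mem (C.root a c w hc hw)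
      (C.root b c' w' hc' hw'))) hg) (i := i) (l := i) hx hx ?_
    rw [mul_inv_eq_iff_eq_mul]
    calc g⁻¹ * (fac a (eA hf c w) * fac b (eA hf c' w')) * g * fac i (mr hf x)
        = g⁻¹ * (fac a (eA hf c w) * fac b (eA hf c' w') * (g * fac i (mr hf x) * g⁻¹)) * g := by group
      _ = g⁻¹ * (g * fac i (mr hf x) * g⁻¹ * (fac a (eA hf c w) * fac b (eA hf c' w'))) * g := by rw [hcomm]
      _ = fac i (mr hf x) * (g⁻¹ * (fac a (eA hf c w) * fac b (eA hf c' w')) * g) := by group
  have hmap : (Ln i x).map (mvLin g) = Ln j y := by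
    rw [← fixsp_mir C.toSl i hx0, ← fixsp_conj, hj, fixsp_mir C.toSl j hy]
  obtain ⟨s, hs, hsy⟩ := C.line_good (C.iso hg) hx0 hy hmap
  have hj' : g * fac i (mr hf x) * g⁻¹ = fac j (mr hf (s • y)) := by rw [mr_smul hf hy hs]; exact hj
  exact ⟨C.gm hJ hX B IH hg hx (hsy.trans hx) hj', j, _, hsy.trans hx, hj'⟩

/-- Members centralising the product of two orthogonal mirrors of one slot are monomial. -/
theorem plane_cent {g : GL (J → Fin k) F} (hg : g ∈ X) {i : J} {y y' : Fin k → F} (hy : f y y = κ)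
    (hy' : f y' y' = κ) (hyy : f y y' = 0)
    (hcomm : g * fac i (mr C.hf y * mr C.hf y') = fac i (mr C.hf y * mr C.hf y') * g) : Mono g := by
  classical
  have hf := C.hf
  have h2 := C.two
  have hκ := C.hκ
  have hy0 : f y y ≠ 0 := hy ▸ hκ
  have hk : 0 < k := by have := C.hk; omega
  by_cases h5 : 5 ≤ k
  · obtain ⟨c, hc, hc0, hcc⟩ := Transvec.Orth.exists_singular (qf_nondeg hf h2)
      (X := ⊤ ⊓ LinearMap.ker (hf.formL y) ⊓ LinearMap.ker (hf.formL y')) (by
        have h1 := finrank_perp_ge hf ⊤ y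
        have h3 := finrank_perp_ge hf (⊤ ⊓ LinearMap.ker (hf.formL y)) y'
        rw [finrank_top, Module.finrank_fintype_fun_eq_card, Fintype.card_fin] at h1
        omega)
    rw [Submodule.mem_inf, Submodule.mem_inf, LinearMap.mem_ker, LinearMap.mem_ker, SF.formL_apply,
      SF.formL_apply] at hc
    rw [qf, div_eq_zero_iff] at hcc
    have hcc' := hcc.resolve_right h2
    set m := fac (J := J) i (mr hf y) with hm
    set D := mr hf y * mr hf y' with hD
    have hlin : mvLin m ∘ₗ (LinearMap.id + mvLin (fac (J := J) i D)) =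
        -(LinearMap.id + mvLin (fac (J := J) i D)) := ext_ins i fun v u => by
      show mv m (ins i v u + mv (fac i D) (ins i v u)) = -(ins i v u + mv (fac i D) (ins i v u))
      rw [mv_fac_ins, ← ins_add_vec, hm, mv_fac_ins, mr_perp hf hy0,
        ← neg_one_smul F (v + mv D v), ins_smul_vec, neg_one_smul]
      rw [hf.add_left, hD, C.toSl.plane_apply hy hy' hyy, hf.sub_left, hf.sub_left, hf.smul_left, hf.smul_left, hy,
        hf.comm' y' y, hyy]
      field_simp
      ring
    set q := g * m * g⁻¹ * m with hq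
    have hqX : q ∈ X := X.mul_mem (X.mul_mem (X.mul_mem hg (C.mir i y hy)) (X.inv_mem hg)) (C.mir i y hy)
    have hzfix : ∀ u, mv (fac i D) (ins i c u) = ins i c u := fun u => by
      rw [mv_fac_ins, hD, C.toSl.plane_apply hy hy' hyy, hc.1.2, hc.2]
      simp
    have hqc : ∀ u, mv q (ins i c u) = ins i c u := fun u => by
      have hv : mv (fac i D) (mv g⁻¹ (ins i c u)) = mv g⁻¹ (ins i c u) := by
        conv_rhs => rw [← hzfix]
        rw [← mv_mul, ← mv_mul]
        congr 1
        rw [eq_inv_mul_iff_mul_eq, ← mul_assoc, hcomm, mul_inv_cancel_right]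
      have h3 := LinearMap.congr_fun hlin (mv g⁻¹ (ins i c u))
      simp only [LinearMap.comp_apply, LinearMap.add_apply, LinearMap.id_apply, LinearMap.neg_apply] at h3
      change mv m (mv g⁻¹ (ins i c u) + mv (fac i D) (mv g⁻¹ (ins i c u))) =
        -(mv g⁻¹ (ins i c u) + mv (fac i D) (mv g⁻¹ (ins i c u))) at h3
      rw [hv, ← two_smul F, mv_smul, ← smul_neg] at h3
      have h4 := smul_right_injective _ h2 h3
      rw [hq, mv_mul, hm, mv_fac_ins, mr_perp hf hy0 hc.1.2,
        ← neg_one_smul F c, ins_smul_vec, neg_one_smul, mv_neg, ← hm, mv_mul, mv_mul, h4, mv_neg, neg_neg, mv_mv_inv]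
    have hqmap : (Ln i c).map (mvLin q) = Ln i c := by
      refine Submodule.eq_of_le_of_finrank_le (fun z hz => ?_) (by rw [finrank_map_gl])
      obtain ⟨z', hz', rfl⟩ := mem_map_gl.1 hz
      obtain ⟨u, rfl⟩ := mem_Ln_ins hz'
      rw [hqc]; exact ins_mem i c u
    have hqm := C.stab hJ hX B IH hqX hc0 hcc' hc0 hcc' hqmap
    refine (C.fus hJ hX B IH hg (i := i) hy ?_).1
    rw [show g * fac i (mr hf y) * g⁻¹ = q * m by
      rw [hq, mul_assoc _ m m, hm, ← fac_mul, mr_sq hf hy0, fac_one, mul_one]]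
    exact mono_mul hqm ⟨1, monoOf_fac i _⟩
  have h3 : k = 3 := by
    obtain ⟨m, hm⟩ := C.odd
    have := C.hk
    omega
  subst h3
  obtain ⟨Y, hY, hYy⟩ := B.exists_good_through hy 0
  have hY0 : ∀ b, f (Y b) (Y b) ≠ 0 := fun b => by rw [hY.2]; exact hκ
  set α := f y' (Y 1) / κ with hα
  set β := f y' (Y 2) / κ with hβ
  have hexp : y' = α • Y 1 + β • Y 2 := sub_eq_zero.1 (hf.nondeg _ fun v => by
    have hv : v ∈ Submodule.span F (Set.range Y) := by
      rw [span_of_orth hf hY.1 hY0]; exact Submodule.mem_top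
    induction hv using Submodule.span_induction with
    | mem v hv =>
      obtain ⟨b, rfl⟩ := hv
      rw [hf.sub_left, hf.add_left, hf.smul_left, hf.smul_left]
      fin_cases b
      · show f y' (Y 0) - (α * f (Y 1) (Y 0) + β * f (Y 2) (Y 0)) = 0
        rw [hY.1 1 0 (by decide), hY.1 2 0 (by decide), hYy, hf.comm', hyy]
        ring
      · simp [hY.1, hY.2, hα, hκ]
      · simp [hY.1, hY.2, hβ, hκ]
    | zero => exact hf.zero_right _
    | add u w _ _ hu hw => rw [hf.add_right, hu, hw, add_zero]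
    | smul r u _ hu => rw [hf.smul_right', hu, mul_zero])
  have hval : α * α + β * β = 1 := by
    have := hy'
    rw [hexp] at this
    simp only [hf.add_left, hf.add_right, hf.smul_left, hf.smul_right', hY.2, hY.1 1 2 (by decide),
      hY.1 2 1 (by decide)] at this
    exact mul_right_cancel₀ hκ (by linear_combination this)
  set r := -β • Y 1 + α • Y 2 with hrd
  have hr : f r r = κ := by
    simp only [hrd, hf.add_left, hf.add_right, hf.smul_left, hf.smul_right', hY.2, hY.1 1 2 (by decide),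
      hY.1 2 1 (by decide)]
    linear_combination κ * hval
  have hry : f r y = 0 := by
    rw [hrd, ← hYy, hf.add_left, hf.smul_left, hf.smul_left, hY.1 1 0 (by decide), hY.1 2 0 (by decide)]
    ring
  have hry' : f r y' = 0 := by
    rw [hrd, hexp]
    simp only [hf.add_left, hf.add_right, hf.smul_left, hf.smul_right', hY.2, hY.1 1 2 (by decide),
      hY.1 2 1 (by decide)]
    ring
  have hy'0 : f y' y' ≠ 0 := hy' ▸ hκ
  have hr0 : f r r ≠ 0 := hr ▸ hκ
  have he : mr hf y * mr hf y' = mr hf r := by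
    refine ext_frame hf (y := ![y, y', r]) ?_ ?_ ?_
    · have e1 : f y r = 0 := by rw [hf.comm', hry]
      have e2 : f y' r = 0 := by rw [hf.comm', hry']
      have e3 : f y' y = 0 := by rw [hf.comm', hyy]
      intro a b hab
      fin_cases a <;> fin_cases b <;>
        first | exact absurd rfl hab | exact hyy | exact e1 | exact e2 | exact e3 | exact hry | exact hry'
    · intro a
      fin_cases a <;> simp [hy0, hy'0, hr0]
    · intro a
      rw [C.toSl.plane_apply hy hy' hyy]
      fin_cases a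
      · simp only [Fin.zero_eta, Matrix.cons_val_zero]
        rw [mr_perp hf hr0 (by rw [hf.comm', hry]), hy, hyy]
        match_scalars <;> field_simp <;> ring
      · simp only [Fin.mk_one, Matrix.cons_val_one, Matrix.cons_val_zero, Matrix.head_cons]
        rw [mr_perp hf hr0 (by rw [hf.comm', hry']), hy', hf.comm' y' y, hyy]
        match_scalars <;> field_simp <;> ring
      · show r - (2 * f r y / κ) • y - (2 * f r y' / κ) • y' = mv (mr hf r) r
        rw [mr_self hf hr0, hry, hry']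
        simp
  refine (C.fus hJ hX B IH hg (i := i) hr ?_).1
  rw [← he, hcomm, mul_inv_cancel_right]
  exact ⟨1, monoOf_fac i _⟩

end Ctx

end Cfsg.Agent.OrthWreath
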