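/-
Centralisers of short products of mirrors of value κ are monomial.
-/
import Cfsg.Agent.Lib.OrthWreath.Fus

set_option autoImplicit false
set_option linter.unusedSectionVars false

namespace Cfsg.Agent.OrthWreath

open scoped Matrix
open Matrix Cfsg.Agent.Transvec Cfsg.Agent.TensorMax Cfsg.Agent.WreathMax Cfsg.Agent.FormWreath
open Cfsg.Agent.UWreath (mono_mul mono_inv)

/-! ### Two involutions -/

section Dihedral

variable {G : Type*} [Group G] [Finite G] {t s : G} (ht : t * t = 1) (hs : s * s = 1)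
include ht hs

theorem dih_flip (n : ℕ) : t * (t * s) ^ n = ((t * s) ^ n)⁻¹ * t := by
  induction n with
  | zero => simp
  | succ n ih =>
    rw [pow_succ, ← mul_assoc, ih, ← pow_succ, pow_succ', _root_.mul_inv_rev, mul_assoc, mul_assoc]
    congr 1
    rw [_root_.mul_inv_rev, inv_eq_of_mul_eq_one_right hs, inv_eq_of_mul_eq_one_right ht, ← mul_assoc, ht, one_mul,
      mul_assoc, ht, mul_one]

theorem dih_even (m : ℕ) : t * (t * s) ^ (2 * m) = ((t * s) ^ m)⁻¹ * t * (t * s) ^ m := by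
  rw [two_mul, pow_add, ← mul_assoc, dih_flip ht hs]

theorem dih_succ (m : ℕ) : t * (t * s) ^ (2 * m + 1) = ((t * s) ^ m)⁻¹ * s * (t * s) ^ m := by
  rw [show 2 * m + 1 = m + (1 + m) by ring, pow_add, ← mul_assoc, dih_flip ht hs, pow_add, pow_one]
  simp only [mul_assoc]
  rw [← mul_assoc t t, ht, one_mul]

theorem dih_odd {m : ℕ} (h : orderOf (t * s) = 2 * m + 1) : s = (t * s) ^ m * t * ((t * s) ^ m)⁻¹ := by
  have h1 := dih_succ ht hs m
  rw [← h, pow_orderOf_eq_one, mul_one] at h1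
  calc s = (t * s) ^ m * (((t * s) ^ m)⁻¹ * s * (t * s) ^ m) * ((t * s) ^ m)⁻¹ := by group
    _ = _ := by rw [← h1]

theorem dih_mid {r : ℕ} (h : orderOf (t * s) = 2 * r) :
    t * (t * s) ^ r = (t * s) ^ r * t ∧ s * (t * s) ^ r = (t * s) ^ r * s ∧ (t * s) ^ r ≠ 1 := by
  have hw : ((t * s) ^ r)⁻¹ = (t * s) ^ r := inv_eq_of_mul_eq_one_right (by
    rw [← pow_add, ← two_mul, ← h, pow_orderOf_eq_one])
  have h1 : t * (t * s) ^ r = (t * s) ^ r * t := by rw [dih_flip ht hs, hw]
  refine ⟨h1, ?_, fun e => ?_⟩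
  · have e : s = t * (t * s) := by rw [← mul_assoc, ht, one_mul]
    calc s * (t * s) ^ r = t * ((t * s) * (t * s) ^ r) := by rw [← mul_assoc t, ← e]
      _ = t * (t * s) ^ r * (t * s) := by rw [← pow_succ', pow_succ, mul_assoc]
      _ = (t * s) ^ r * (t * (t * s)) := by rw [h1, mul_assoc]
      _ = (t * s) ^ r * s := by rw [← e]
  · have := orderOf_dvd_of_pow_eq_one e
    rw [h] at this
    have hpos := orderOf_pos (t * s)
    rw [h] at hpos
    exact absurd (Nat.le_of_dvd (by omega) this) (by omega)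

end Dihedral

variable {F : Type*} [Field F] [Finite F] {k : ℕ} {J : Type} [Fintype J] [DecidableEq J]
variable {f : (Fin k → F) → (Fin k → F) → F} {κ : F}

local notation "σ₁" => RingEquiv.refl F

/-! ### Mirrors and slots -/

theorem central_of_comm (hk : 0 < k) {a : J} {A : GL (Fin k) F} {R : GL (J → Fin k) F}
    (hR : ∀ T, R * fac a T = fac a T * R) (hP : ∀ T, fac a A * R * fac a T = fac a T * (fac a A * R))
    (T : GL (Fin k) F) : A * T = T * A := by
  have h := hP T
  rw [mul_assoc, hR, ← mul_assoc, ← mul_assoc, ← fac_mul, ← fac_mul] at h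
  exact fac_inj hk a (mul_right_cancel h)

namespace Sl

variable (S : Sl f κ)
include S

theorem slot_eq {j i : J} {z : Fin k → F} (hz : f z z ≠ 0) {T : GL (Fin k) F} (h : fac j (mr S.hf z) = fac i T) :
    j = i := by
  by_contra hne
  obtain ⟨τ, hτ⟩ := fac_eq_fac (by have := S.hk; omega) hne h
  exact mr_not_scalar S hz τ hτ

theorem mr_cases {x z : Fin k → F} (hx : f x x = κ) (hz : f z z = κ)
    (hc : mr S.hf x * mr S.hf z = mr S.hf z * mr S.hf x) : mr S.hf x = mr S.hf z ∨ f x z = 0 := by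
  by_cases h : f x z = 0
  · exact Or.inr h
  · exact Or.inl (S.mr_not_comm hx hz h hc)

theorem mr_comm {x z : Fin k → F} (hx : f x x = κ) (hz : f z z = κ) (hxz : f x z = 0) :
    mr S.hf x * mr S.hf z = mr S.hf z * mr S.hf x := by
  have hf := S.hf
  have hx0 : f x x ≠ 0 := hx ▸ S.hκ
  have hz0 : f z z ≠ 0 := hz ▸ S.hκ
  have h := mr_conj hf (mr_isom hf hx0) hz0
  rw [mr_perp hf hx0 (by rw [hf.comm', hxz]), ← neg_one_smul F z, mr_smul hf hz0 (neg_ne_zero.2 one_ne_zero),
    mul_inv_eq_iff_eq_mul] at h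
  exact h

/-- The mirrors of a commuting pair of slot mirrors. -/
theorem fac_cases {i : J} {x z : Fin k → F} (hx : f x x = κ) (hz : f z z = κ)
    (hc : fac i (mr S.hf x) * fac i (mr S.hf z) = fac i (mr S.hf z) * fac i (mr S.hf x)) :
    mr S.hf x = mr S.hf z ∨ f x z = 0 := by
  rw [← fac_mul, ← fac_mul] at hc
  exact S.mr_cases hx hz (fac_inj (by have := S.hk; omega) i hc)

/-- A pair of mirrors is no member of one slot. -/
theorem pair_ne {a c j : J} (hac : a ≠ c) {x y : Fin k → F} (hx : f x x ≠ 0) (hy : f y y ≠ 0) (M : GL (Fin k) F) :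
    fac a (mr S.hf x) * fac c (mr S.hf y) ≠ fac j M := fun h => by
  have hk : 0 < k := by have := S.hk; omega
  by_cases hj : j = a
  · obtain ⟨T, hT⟩ := S.mr_noncentral hy
    refine hT (central_of_comm hk (a := c) (R := fac a (mr S.hf x)) (fun T => fac_comm hac _ _) (fun T => ?_) T)
    rw [fac_comm hac.symm, h]
    exact fac_comm (hj ▸ hac) _ _
  · obtain ⟨T, hT⟩ := S.mr_noncentral hx
    refine hT (central_of_comm hk (a := a) (R := fac c (mr S.hf y)) (fun T => fac_comm hac.symm _ _) (fun T => ?_) T)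
    rw [h]
    exact fac_comm hj _ _

end Sl

variable {Q : ((J → Fin k) → F) → F} {X : Subgroup (GL (J → Fin k) F)}

namespace Ctx

variable (C : Ctx f Q κ X) (hJ : 2 ≤ Fintype.card J) (hX : ¬ Geo.omegaGL Q ≤ X) (B : Base f Q κ) (IH : Ind f κ J)
include C hJ hX B IH

/-- A monomial member permuting a pair of mirrors. -/
theorem pair_perm {a c : J} (hac : a ≠ c) {x y : Fin k → F} (hx : f x x = κ) (hy : f y y = κ)
    {u : GL (J → Fin k) F} (hu : u ∈ X) (hum : Mono u)
    (hq : u * (fac a (mr C.hf x) * fac c (mr C.hf y)) = fac a (mr C.hf x) * fac c (mr C.hf y) * u) :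
    (u * fac a (mr C.hf x) * u⁻¹ = fac a (mr C.hf x) ∧ u * fac c (mr C.hf y) * u⁻¹ = fac c (mr C.hf y)) ∨
      (u * fac a (mr C.hf x) * u⁻¹ = fac c (mr C.hf y) ∧ u * fac c (mr C.hf y) * u⁻¹ = fac a (mr C.hf x)) := by
  classical
  have hf := C.hf
  have hk : 0 < k := by have := C.hk; omega
  have hx0 : f x x ≠ 0 := hx ▸ C.hκ
  have hy0 : f y y ≠ 0 := hy ▸ C.hκ
  set A := fac (J := J) a (mr hf x)
  set Cy := fac (J := J) c (mr hf y)
  have hAA : A * A = 1 := by rw [← fac_mul, mr_sq hf hx0, fac_one]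
  have hCC : Cy * Cy = 1 := by rw [← fac_mul, mr_sq hf hy0, fac_one]
  have hAC : A * Cy = Cy * A := fac_comm hac _ _
  have hprod : u * A * u⁻¹ * (u * Cy * u⁻¹) = A * Cy := by
    calc u * A * u⁻¹ * (u * Cy * u⁻¹) = u * (A * Cy) * u⁻¹ := by group
      _ = A * Cy := by rw [hq, mul_inv_cancel_right]
  obtain ⟨-, j, z, hz, hjz⟩ := C.fus hJ hX B IH hu hx (mono_mul (mono_mul hum ⟨1, monoOf_fac a _⟩) (mono_inv hum))
  obtain ⟨-, j', z', hz', hjz'⟩ := C.fus hJ hX B IH hu hy (mono_mul (mono_mul hum ⟨1, monoOf_fac c _⟩) (mono_inv hum))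
  have hz0 : f z z ≠ 0 := hz ▸ C.hκ
  have hz'0 : f z' z' ≠ 0 := hz' ▸ C.hκ
  by_cases hjj : j = j'
  · subst hjj
    exfalso
    refine C.toSl.pair_ne hac hx0 hy0 (mr hf z * mr hf z') (j := j) ?_
    show A * Cy = _
    rw [← hprod, hjz, hjz', fac_mul]
  have key : ∀ (p p' : J), p ≠ p' → ∀ (P P' : Fin k → F), f P P = κ → f P' P' = κ →
      A * Cy = fac p (mr hf P) * fac p' (mr hf P') → p = a → fac p (mr hf P) = A ∧ fac p' (mr hf P') = Cy := by
    intro p p' hpp P P' hP hP' h hpa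
    subst hpa
    have hP0 : f P P ≠ 0 := hP ▸ C.hκ
    have h1 : fac p (mr hf P * mr hf x) = fac p' (mr hf P') * Cy := by
      calc fac p (mr hf P * mr hf x) = fac p (mr hf P) * (A * Cy) * Cy := by
            rw [fac_mul, mul_assoc _ (A * Cy), mul_assoc A, hCC, mul_one]
        _ = fac p (mr hf P) * (fac p (mr hf P) * fac p' (mr hf P')) * Cy := by rw [h]
        _ = fac p' (mr hf P') * Cy := by
            rw [← mul_assoc (fac p (mr hf P)), ← fac_mul, mr_sq hf hP0, fac_one, one_mul]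
    have hcen : ∀ T, mr hf P * mr hf x * T = T * (mr hf P * mr hf x) := fun T => by
      refine fac_inj hk p ?_
      rw [fac_mul, fac_mul _ T, h1, mul_assoc, show Cy * fac p T = fac p T * Cy from fac_comm hac.symm _ _,
        ← mul_assoc, ← mul_assoc, show fac p' (mr hf P') * fac p T = fac p T * fac p' (mr hf P') from
          fac_comm hpp.symm _ _]
    have hPx : mr hf P = mr hf x := by
      have hcomm : mr hf P * mr hf x = mr hf x * mr hf P := by
        have := hcen (mr hf P)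
        rw [mul_assoc] at this
        have h3 := mul_left_cancel this
        exact h3.symm
      rcases C.toSl.mr_cases hP hx hcomm with e | e
      · exact e
      · obtain ⟨T, hT⟩ := C.toSl.plane_noncentral hP hx e
        exact absurd (hcen T) hT
    refine ⟨by rw [hPx], ?_⟩
    rw [hPx] at h
    exact (mul_left_cancel h).symm
  have hzz : A * Cy = fac j (mr hf z) * fac j' (mr hf z') := by rw [← hprod, hjz, hjz']
  by_cases hja : j = a
  · obtain ⟨e1, e2⟩ := key j j' hjj z z' hz hz' hzz hja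
    exact Or.inl ⟨hjz.trans e1, hjz'.trans e2⟩
  · have hj'a : j' = a := by
      by_contra hj'a
      obtain ⟨T, hT⟩ := C.toSl.mr_noncentral hx0
      refine hT (central_of_comm hk (a := a) (R := Cy) (fun T => fac_comm hac.symm _ _) (fun T => ?_) T)
      show A * Cy * _ = _ * (A * Cy)
      rw [hzz, mul_assoc, fac_comm hj'a, ← mul_assoc, fac_comm hja, mul_assoc]
    obtain ⟨e1, e2⟩ := key j' j (Ne.symm hjj) z' z hz' hz (by rw [hzz, fac_comm hjj]) hj'a
    exact Or.inr ⟨hjz.trans e2, hjz'.trans e1⟩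

set_option maxHeartbeats 800000 in
/-- The centraliser of a mirror times a member of other slots, given the mixed case. -/
theorem cent_mir {c : J} {z : Fin k → F} (hz : f z z = κ) {w₀ : GL (J → Fin k) F}
    (hw₀ : ∀ T, w₀ * fac c T = fac c T * w₀)
    (hcross : ∀ (z' : Fin k → F) (j : J) (z'' : Fin k → F), f z' z' = κ → f z' z = 0 → j ≠ c → f z'' z'' = κ →
      ∀ s ∈ X, s * (fac c (mr C.hf z) * w₀) = fac c (mr C.hf z) * w₀ * s →
      s * (fac c (mr C.hf z') * fac j (mr C.hf z'')) = fac c (mr C.hf z') * fac j (mr C.hf z'') * s →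
      (∃ g ∈ X, Mono g ∧ g * (fac c (mr C.hf z) * w₀) = fac c (mr C.hf z) * w₀ * g ∧
        g * fac c (mr C.hf z) * g⁻¹ = fac j (mr C.hf z'')) → Mono s)
    {v : GL (J → Fin k) F} (hv : v ∈ X)
    (hvu : v * (fac c (mr C.hf z) * w₀) = fac c (mr C.hf z) * w₀ * v) : Mono v := by
  classical
  have hf := C.hf
  have hk3 := C.hk
  have hk : 0 < k := by omega
  have hz0 : f z z ≠ 0 := hz ▸ C.hκ
  obtain ⟨Y, hY, hYz⟩ := B.exists_good_through hz ⟨0, hk⟩
  set z' := Y ⟨1, by omega⟩ with hz'd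
  have hz' : f z' z' = κ := hY.2 _
  have hzz' : f z' z = 0 := by
    rw [← hYz]; exact hY.1 _ _ fun e => by simp at e
  have hz'0 : f z' z' ≠ 0 := hz' ▸ C.hκ
  set u := fac c (mr hf z) * w₀ with hu
  set b := fac (J := J) c (mr hf z) with hb
  set t := fac (J := J) c (mr hf z') with ht
  have hbb : b * b = 1 := by rw [hb, ← fac_mul, mr_sq hf hz0, fac_one]
  have htt : t * t = 1 := by rw [ht, ← fac_mul, mr_sq hf hz'0, fac_one]
  have hbX : b ∈ X := C.mir c z hz
  have htX : t ∈ X := C.mir c z' hz'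
  have htb : t * b = b * t := by rw [ht, hb, ← fac_mul, ← fac_mul, C.toSl.mr_comm hz' hz hzz']
  have htu : Commute t u := by
    show t * (b * w₀) = b * w₀ * t
    rw [← mul_assoc, htb, mul_assoc, mul_assoc, ht, hw₀]
  have hbu : Commute b u := by
    show b * (b * w₀) = b * w₀ * b
    rw [mul_assoc b w₀ b, hb, hw₀]
  set s := v * b * v⁻¹ with hs
  have hsX : s ∈ X := X.mul_mem (X.mul_mem hv hbX) (X.inv_mem hv)
  have hss : s * s = 1 := by
    rw [hs, show v * b * v⁻¹ * (v * b * v⁻¹) = v * (b * b) * v⁻¹ by group, hbb, mul_one, mul_inv_cancel]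
  have hvc : Commute v u := hvu
  have hsu : Commute s u := (hvc.mul_left hbu).mul_left hvc.inv_left
  have hτu : ∀ m : ℕ, Commute ((t * s) ^ m) u := fun m => (htu.mul_left hsu).pow_left m
  have hτX : ∀ m : ℕ, (t * s) ^ m ∈ X := fun m => X.pow_mem (X.mul_mem htX hsX) m
  refine (C.fus hJ hX B IH hv hz (show Mono s from ?_)).1
  rcases Nat.even_or_odd (orderOf (t * s)) with ⟨r, hr⟩ | ⟨m, hm⟩
  swap
  · -- the two mirrors are not conjugate in the centraliser
    exfalso
    have e := dih_odd htt hss hm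
    set h := v⁻¹ * (t * s) ^ m with hh
    have hhb : h * t * h⁻¹ = b := by
      rw [hh, show v⁻¹ * (t * s) ^ m * t * (v⁻¹ * (t * s) ^ m)⁻¹ = v⁻¹ * ((t * s) ^ m * t * ((t * s) ^ m)⁻¹) * v by
        group, ← e, hs]
      group
    have hhm : Mono h := (C.fus hJ hX B IH (X.mul_mem (X.inv_mem hv) (hτX m)) hz' (i := c) (by
      rw [← ht, hhb]; exact ⟨1, monoOf_fac c _⟩)).1
    have hhu : Commute h u := hvc.inv_left.mul_left (hτu m)
    obtain ⟨σ, hσ⟩ := mono_iff.1 hhm
    obtain ⟨D, hD⟩ := MonoOf.conj_fac hσ c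
    have hσc : σ⁻¹ c = c := by
      have h1 := hD (mr hf z')
      rw [← ht, hhb, hb] at h1
      exact (C.toSl.slot_eq hz0 h1).symm
    obtain ⟨T, hT⟩ := C.toSl.plane_noncentral hz hz' (by rw [hf.comm', hzz'])
    refine hT (central_of_comm hk (a := c) (R := w₀) hw₀ (fun T => ?_) T)
    have hut : u * t = fac c (mr hf z * mr hf z') * w₀ := by
      rw [hu, mul_assoc, ht, hw₀, ← mul_assoc, hb, ← fac_mul]
    have hconj : h * (u * t) * h⁻¹ = w₀ := by
      calc h * (u * t) * h⁻¹ = u * (h * t * h⁻¹) := by rw [← mul_assoc h u, hhu.eq]; group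
        _ = b * w₀ * b := by rw [hhb, hu]
        _ = b * (b * w₀) := by rw [mul_assoc, hb, hw₀]
        _ = w₀ := by rw [← mul_assoc, hbb, one_mul]
    have hT' : h * fac c T * h⁻¹ = fac c (D * T * D⁻¹) := by rw [hD, hσc]
    rw [← hut]
    have e3 : h * (u * t * fac c T) * h⁻¹ = h * (fac c T * (u * t)) * h⁻¹ := by
      calc h * (u * t * fac c T) * h⁻¹ = h * (u * t) * h⁻¹ * (h * fac c T * h⁻¹) := by group
        _ = fac c (D * T * D⁻¹) * w₀ := by rw [hconj, hT', hw₀]
        _ = h * fac c T * h⁻¹ * (h * (u * t) * h⁻¹) := by rw [hconj, hT']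
        _ = h * (fac c T * (u * t)) * h⁻¹ := by group
    exact mul_left_cancel (mul_right_cancel e3)
  obtain ⟨hwt, hws, hw1⟩ := dih_mid htt hss (show orderOf (t * s) = 2 * r by omega)
  set w := (t * s) ^ r with hw
  have hwm : Mono w := (C.fus hJ hX B IH (hτX r) hz' (i := c) (by
    rw [← hw, ← ht, ← hwt, mul_inv_cancel_right]; exact ⟨1, monoOf_fac c _⟩)).1
  have htwm : Mono (t * w) := mono_mul ⟨1, monoOf_fac c _⟩ hwm
  have hfin : ∀ (j : J) (z'' : Fin k → F), f z'' z'' = κ → t * w = fac j (mr hf z'') →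
      (j ≠ c → ∃ g ∈ X, Mono g ∧ g * u = u * g ∧ g * b * g⁻¹ = fac j (mr hf z'')) → Mono s := by
    intro j z'' hz'' e hg
    have hwe : w = t * fac j (mr hf z'') := by rw [← e, ← mul_assoc, htt, one_mul]
    by_cases hjc : j = c
    · subst hjc
      have hcom : fac j (mr hf z') * fac j (mr hf z'') = fac j (mr hf z'') * fac j (mr hf z') := by
        rw [← e, ← ht]
        conv_lhs => rw [hwt]
        rw [mul_assoc]
      rcases C.toSl.fac_cases hz' hz'' hcom with e' | e'
      · exact absurd (by rw [hwe, ← e', ← ht, htt]) hw1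
      · refine C.plane_cent hJ hX B IH hsX (i := j) hz' hz'' e' ?_
        rw [fac_mul, ← ht, ← hwe]
        exact hws
    · refine hcross z' j z'' hz' hzz' hjc hz'' s hsX hsu.eq ?_ (hg hjc)
      rw [← ht, ← hwe]
      exact hws
  rcases Nat.even_or_odd r with ⟨m, hrm⟩ | ⟨m, hrm⟩
  · have e := dih_even htt hss m
    rw [show 2 * m = r by omega, ← hw] at e
    have hinv : (((t * s) ^ m)⁻¹)⁻¹ = (t * s) ^ m := inv_inv _
    obtain ⟨hρ, j, z'', hz'', hj⟩ := C.fus hJ hX B IH (X.inv_mem (hτX m)) hz' (i := c) (by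
      rw [hinv, ← ht, ← e]; exact htwm)
    rw [hinv, ← ht, ← e] at hj
    refine hfin j z'' hz'' hj fun hjc => ?_
    exfalso
    -- the square of a monomial product of two mirrors stays in the slot
    have hρm : Mono (t * (t * s) ^ m) := mono_mul ⟨1, monoOf_fac c _⟩ (by simpa using mono_inv hρ)
    obtain ⟨j', y, hy, hj'⟩ : ∃ (j' : J) (y : Fin k → F), f y y = κ ∧ t * (t * s) ^ m = fac j' (mr hf y) := by
      rcases Nat.even_or_odd m with ⟨l, hl⟩ | ⟨l, hl⟩
      · have e' := dih_even htt hss l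
        rw [show 2 * l = m by omega] at e'
        obtain ⟨-, j', y, hy, hy'⟩ := C.fus hJ hX B IH (X.inv_mem (hτX l)) hz' (i := c) (by
          rw [inv_inv, ← ht, ← e']; exact hρm)
        exact ⟨j', y, hy, by rw [← hy', inv_inv, ← ht, ← e']⟩
      · have e' := dih_succ htt hss l
        rw [← hl] at e'
        have e'' : ((t * s) ^ l)⁻¹ * v * b * (((t * s) ^ l)⁻¹ * v)⁻¹ = t * (t * s) ^ m := by
          rw [e', hs]; group
        obtain ⟨-, j', y, hy, hy'⟩ := C.fus hJ hX B IH (X.mul_mem (X.inv_mem (hτX l)) hv) hz (i := c) (by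
          rw [← hb, e'']; exact hρm)
        exact ⟨j', y, hy, by rw [← hy', ← hb, e'']⟩
    have hy0 : f y y ≠ 0 := hy ▸ C.hκ
    have hτm : (t * s) ^ m = t * fac j' (mr hf y) := by rw [← hj', ← mul_assoc t t, htt, one_mul]
    have hwsq : w = t * fac j' (mr hf y) * (t * fac j' (mr hf y)) := by
      rw [← hτm, hw, ← pow_add, ← hrm]
    by_cases hjc' : j' = c
    · subst hjc'
      refine hjc (C.toSl.slot_eq (hz'' ▸ C.hκ : f z'' z'' ≠ 0)
        (T := mr hf z' * (mr hf z' * mr hf y * (mr hf z' * mr hf y))) ?_)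
      rw [← hj, hwsq, ht]
      simp only [fac_mul]
    · refine hw1 ?_
      rw [hwsq, show t * fac j' (mr hf y) = fac j' (mr hf y) * t from fac_comm (Ne.symm hjc') _ _, mul_assoc,
        ← mul_assoc t, show t * fac j' (mr hf y) = fac j' (mr hf y) * t from fac_comm (Ne.symm hjc') _ _,
        mul_assoc, htt, mul_one, ← fac_mul, mr_sq hf hy0, fac_one]
  · have e := dih_succ htt hss m
    rw [← hrm, ← hw] at e
    set g := ((t * s) ^ m)⁻¹ * v with hg
    have e' : g * b * g⁻¹ = t * w := by rw [e, hg, hs]; group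
    have hgX : g ∈ X := X.mul_mem (X.inv_mem (hτX m)) hv
    obtain ⟨hgm, j, z'', hz'', hj⟩ := C.fus hJ hX B IH hgX hz (i := c) (by rw [← hb, e']; exact htwm)
    rw [← hb] at hj
    exact hfin j z'' hz'' (e'.symm.trans hj) fun _ => ⟨g, hgX, hgm, ((hτu m).inv_left.mul_left hvc).eq, hj⟩

/-- Members centralising a pair of mirrors are monomial. -/
theorem pair_cent {a c : J} (hac : a ≠ c) {x y : Fin k → F} (hx : f x x = κ) (hy : f y y = κ)
    {v : GL (J → Fin k) F} (hv : v ∈ X)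
    (hvq : v * (fac a (mr C.hf x) * fac c (mr C.hf y)) = fac a (mr C.hf x) * fac c (mr C.hf y) * v) : Mono v := by
  have hf := C.hf
  have hy0 : f y y ≠ 0 := hy ▸ C.hκ
  refine C.cent_mir hJ hX B IH hx (fun T => fac_comm hac.symm _ _) ?_ hv hvq
  intro z' j z'' hz' hzx hja hz'' s hs hsq hsw ⟨g, hg, hgm, hgq, hgb⟩
  refine C.plane_cent hJ hX B IH hs (i := a) hz' hx hzx ?_
  have hj : fac j (mr hf z'') = fac c (mr hf y) := by
    rcases C.pair_perm hJ hX B IH hac hx hy hg hgm hgq with ⟨e, -⟩ | ⟨e, -⟩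
    · exact absurd (C.toSl.slot_eq (hz'' ▸ C.hκ : f z'' z'' ≠ 0) (hgb.symm.trans e)) hja
    · exact hgb.symm.trans e
  rw [hj] at hsw
  have hplane : fac (J := J) a (mr hf z' * mr hf x) =
      fac a (mr hf z') * fac c (mr hf y) * (fac a (mr hf x) * fac c (mr hf y)) := by
    rw [fac_comm hac (mr hf x), mul_assoc, ← mul_assoc (fac c (mr hf y)), ← fac_mul c, mr_sq hf hy0, fac_one, one_mul,
      fac_mul]
  rw [hplane]
  exact ((show Commute s _ from hsw).mul_right (show Commute s _ from hsq)).eq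

/-- Members centralising a mirror times a member of other slots are monomial. -/
theorem mir_cent {c : J} {z : Fin k → F} (hz : f z z = κ) {w₀ : GL (J → Fin k) F}
    (hw₀ : ∀ T, w₀ * fac c T = fac c T * w₀) {v : GL (J → Fin k) F} (hv : v ∈ X)
    (hvu : v * (fac c (mr C.hf z) * w₀) = fac c (mr C.hf z) * w₀ * v) : Mono v :=
  C.cent_mir hJ hX B IH hz hw₀ (fun _ _ _ hz' _ hjc hz'' _ hs _ hsw _ =>
    C.pair_cent hJ hX B IH (Ne.symm hjc) hz' hz'' hs hsw) hv hvu

end Ctx

end Cfsg.Agent.OrthWreath
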