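/-
Every member of a proper group over the monomial part is monomial.
-/
import Cfsg.Agent.Lib.OrthWreath.Cent

set_option autoImplicit false
set_option linter.unusedSectionVars false

namespace Cfsg.Agent.OrthWreath

open scoped Matrix
open Matrix Cfsg.Agent.Transvec Cfsg.Agent.TensorMax Cfsg.Agent.WreathMax Cfsg.Agent.FormWreath
open Cfsg.Agent.UWreath (mono_mul mono_inv)

variable {F : Type*} [Field F] [Finite F] {k : ℕ} {J : Type} [Fintype J] [DecidableEq J]
variable {f : (Fin k → F) → (Fin k → F) → F} {κ : F}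

local notation "σ₁" => RingEquiv.refl F

namespace Sl

variable (S : Sl f κ)
include S

/-- An involutory isometry has a vector of value κ as eigenvector. -/
theorem invol_good {T : GL (Fin k) F} (hT : ∀ a b, f (mv T a) (mv T b) = f a b) (hTT : ∀ v, mv T (mv T v) = v) :
    ∃ z, f z z = κ ∧ (mv T z = z ∨ mv T z = -z) := by
  have hf := S.hf
  have h2 := S.two
  set P := LinearMap.range (dev T)
  have hPneg : ∀ v ∈ P, mv T v = -v := by
    rintro _ ⟨v, rfl⟩
    rw [dev_apply, mv_sub, hTT, neg_sub]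
  have hortho : ∀ p ∈ P, ∀ w ∈ fixsp T, f p w = 0 := fun p hp w hw => by
    have := hT p w
    rw [hPneg p hp, mem_fixsp.1 hw, hf.neg_left] at this
    refine (mul_eq_zero.1 (?_ : (2 : F) * f p w = 0)).resolve_left h2
    linear_combination -this
  have hsplit : ∀ v, ∃ p ∈ P, ∃ w ∈ fixsp T, v = p + w := fun v =>
    ⟨(-(2 : F)⁻¹) • dev T v, P.smul_mem _ ⟨v, rfl⟩, (2 : F)⁻¹ • (v + mv T v),
      mem_fixsp.2 (by rw [mv_smul, mv_add, hTT, add_comm]), by
      rw [dev_apply]
      match_scalars <;> field_simp <;> ring⟩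
  have hn := (dev T).finrank_range_add_finrank_ker
  rw [Module.finrank_fintype_fun_eq_card, Fintype.card_fin] at hn
  have hfd : Module.finrank F (fixsp T) = Module.finrank F (LinearMap.ker (dev T)) := rfl
  have := S.hk
  by_cases hP : 2 ≤ Module.finrank F P
  · obtain ⟨z, hz, hzv⟩ := S.exists_value (P := P) (fun u hu h => hf.nondeg u fun v => by
      obtain ⟨p, hp, w, hw, rfl⟩ := hsplit v
      rw [hf.add_right, hf.comm', h p hp, hortho u hu w hw, add_zero]) hP κ
    exact ⟨z, hzv, Or.inr (hPneg z hz)⟩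
  · obtain ⟨z, hz, hzv⟩ := S.exists_value (P := fixsp T) (fun u hu h => hf.nondeg u fun v => by
      obtain ⟨p, hp, w, hw, rfl⟩ := hsplit v
      rw [hf.add_right, hf.comm' u p, hortho p hp u hu, hf.comm', h w hw, add_zero])
      (by rw [hfd]; change ¬ 2 ≤ Module.finrank F (LinearMap.range (dev T)) at hP; omega) κ
    exact ⟨z, hzv, Or.inl (mem_fixsp.1 hz)⟩

/-- An isometry whose square is central is an involution. -/
theorem invol_of_central {T : GL (Fin k) F} (hT : ∀ a b, f (mv T a) (mv T b) = f a b) {Y : Fin k → Fin k → F}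
    (hY : Good f κ Y) (hc : ∀ U : GL (Fin k) F, T * T * U = U * (T * T)) : T * T = 1 := by
  have hf := S.hf
  have hκ := S.hκ
  have hk := S.hk
  have hY0 : ∀ b, f (Y b) (Y b) ≠ 0 := fun b => by rw [hY.2]; exact hκ
  have hY00 : ∀ b, Y b ≠ 0 := fun b e => hY0 b (by rw [e, hf.zero_left])
  set M := T * T with hM
  have hMf : ∀ a b, f (mv M a) (mv M b) = f a b := fun a b => by rw [hM, mv_mul, mv_mul, hT, hT]
  have heig : ∀ b, ∃ ε : F, mv M (Y b) = ε • Y b := fun b => by
    have h1 : mv (mr hf (Y b)) (mv M (Y b)) = mv M (Y b) := by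
      rw [← mv_mul, ← hc, mv_mul, mr_self hf (hY0 b)]
    rw [mv_mr hf (hY0 b)] at h1
    refine ⟨f (mv M (Y b)) (Y b) / f (Y b) (Y b), ?_⟩
    refine smul_right_injective _ S.two ?_
    show (2 : F) • _ = (2 : F) • _
    rw [smul_smul, ← mul_div_assoc]
    linear_combination (norm := module) (-1 : F) • h1
  choose ε hε using heig
  set a₀ : Fin k := ⟨0, by omega⟩
  have heq : ∀ b, ε b = ε a₀ := fun b => by
    by_cases hb : b = a₀
    · rw [hb]
    by_contra hne
    obtain ⟨U, hU⟩ := exists_noncomm S (A := M) (hY00 b) (hY.1 b a₀ hb) (hY0 a₀) (hε b) (hε a₀) hne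
    exact hU (hc U)
  obtain ⟨e1, -⟩ := S.mult_sq (A := T) one_ne_zero (fun u v => by rw [hT, one_mul])
  have hMs : ∀ v, mv M v = ε a₀ • v := fun v => by
    have hv : v ∈ Submodule.span F (Set.range Y) := by rw [span_of_orth hf hY.1 hY0]; exact Submodule.mem_top
    induction hv using Submodule.span_induction with
    | mem v hv => obtain ⟨b, rfl⟩ := hv; rw [hε, heq]
    | zero => rw [mv_zero, smul_zero]
    | add u v _ _ hu hv => rw [mv_add, hu, hv, smul_add]
    | smul r u _ hu => rw [mv_smul, hu, smul_comm]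
  have hsq : ε a₀ * ε a₀ = 1 := by
    have := hMf (Y a₀) (Y a₀)
    rw [hMs, hf.smul_left, hf.smul_right', ← mul_assoc] at this
    exact mul_right_cancel₀ (hY0 a₀) (by rw [this, one_mul])
  have hmat : (T : Matrix (Fin k) (Fin k) F) * T = ε a₀ • (1 : Matrix (Fin k) (Fin k) F) := by
    refine Matrix.toLin'.injective (LinearMap.ext fun v => ?_)
    rw [Matrix.toLin'_apply, Matrix.toLin'_apply, ← Matrix.mulVec_mulVec, Matrix.smul_mulVec, Matrix.one_mulVec]
    have := hMs v
    rw [hM, mv_mul] at this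
    exact this
  have hd := congrArg Matrix.det hmat
  rw [Matrix.det_mul, Matrix.det_smul, Matrix.det_one, mul_one, Fintype.card_fin, ← pow_two, ← e1, one_pow] at hd
  obtain ⟨m, hm⟩ := S.odd
  rw [hm, pow_succ, pow_mul, pow_two, hsq, one_pow, one_mul] at hd
  refine ext_mv fun v => ?_
  rw [hMs, ← hd, one_smul, mv_one]

/-- The slot maps of a monomial isometry, normalised. -/
theorem mono_norm {s : GL (J → Fin k) F} (hs : ∀ x y, Bt σ₁ f (mv s x) (mv s y) = Bt σ₁ f x y)
    {π : Equiv.Perm J} {A : J → GL (Fin k) F} (hA : ∀ x, mv s (pten x) = pten fun j => mv (A j) (x (π j))) (d : J) :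
    ∃ A' : GL (Fin k) F, (∀ a b, f (mv A' a) (mv A' b) = f a b) ∧
      ∀ T, s * fac (π d) T = fac d (A' * T * A'⁻¹) * s := by
  classical
  obtain ⟨l, hl, hlA⟩ := S.slot_sim hs hA d
  obtain ⟨-, ν, hν, hlν⟩ := S.mult_sq hl hlA
  obtain ⟨T₁, hT₁⟩ := exists_smul_gl (k := k) ν⁻¹ (inv_ne_zero hν)
  refine ⟨T₁ * A d, fun a b => ?_, fun T => ext_pten fun x => ?_⟩
  · rw [mv_mul, mv_mul, hT₁, hT₁, S.hf.smul_left, S.hf.smul_right', hlA, hlν]
    field_simp
  · have hinv : ∀ v, mv (T₁ * A d)⁻¹ (mv (A d) v) = ν • v := fun v => by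
      rw [mv_eq_iff, inv_inv, mv_mul, hT₁, mv_smul, smul_smul, inv_mul_cancel₀ hν, one_smul]
    rw [mv_mul, mv_fac, hA, mv_mul, hA, mv_fac]
    refine congrArg pten (funext fun j => ?_)
    by_cases hj : j = d
    · subst hj
      rw [Function.update_self, Function.update_self, mv_mul, mv_mul, mv_mul, hinv, mv_smul, mv_smul, hT₁,
        smul_smul, inv_mul_cancel₀ hν, one_smul]
    · rw [Function.update_of_ne hj, Function.update_of_ne fun e => hj (π.injective e)]

end Sl

variable {Q : ((J → Fin k) → F) → F} {X : Subgroup (GL (J → Fin k) F)}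

namespace Ctx

variable (C : Ctx f Q κ X) (hJ : 2 ≤ Fintype.card J) (hX : ¬ Geo.omegaGL Q ≤ X) (B : Base f Q κ) (IH : Ind f κ J)
include C hJ hX B IH

set_option maxHeartbeats 800000 in
/-- A member conjugating a pair of mirrors to a monomial element is monomial. -/
theorem pair_fus {g : GL (J → Fin k) F} (hg : g ∈ X) {a c : J} (hac : a ≠ c) {x y : Fin k → F} (hx : f x x = κ)
    (hy : f y y = κ) (hm : Mono (g * (fac a (mr C.hf x) * fac c (mr C.hf y)) * g⁻¹)) : Mono g := by
  classical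
  have hf := C.hf
  have h2 := C.two
  have hκ := C.hκ
  have hk3 := C.hk
  have hk : 0 < k := by omega
  have hx0 : f x x ≠ 0 := hx ▸ hκ
  have hy0 : f y y ≠ 0 := hy ▸ hκ
  set q := fac a (mr hf x) * fac c (mr hf y) with hq
  have hqX : q ∈ X := X.mul_mem (C.mir a x hx) (C.mir c y hy)
  have hqq : q * q = 1 := by
    rw [hq, mul_assoc, ← mul_assoc (fac c (mr hf y)), ← fac_comm hac, mul_assoc, ← fac_mul c, mr_sq hf hy0, fac_one,
      mul_one, ← fac_mul, mr_sq hf hx0, fac_one]
  set s := g * q * g⁻¹ with hs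
  clear_value s
  have hsX : s ∈ X := by rw [hs]; exact X.mul_mem (X.mul_mem hg hqX) (X.inv_mem hg)
  have hss : s * s = 1 := by
    rw [hs, show g * q * g⁻¹ * (g * q * g⁻¹) = g * (q * q) * g⁻¹ by group, hqq, mul_one, mul_inv_cancel]
  have hback : ∀ {D : GL (J → Fin k) F}, Commute D s → Commute (g⁻¹ * D * g) q := fun {D} h => by
    show g⁻¹ * D * g * q = q * (g⁻¹ * D * g)
    calc g⁻¹ * D * g * q = g⁻¹ * (D * s) * g := by rw [hs]; group
      _ = g⁻¹ * (s * D) * g := by rw [h.eq]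
      _ = q * (g⁻¹ * D * g) := by rw [hs]; group
  obtain ⟨π, A, hA⟩ := hm
  set d := π⁻¹ a with hd
  have hπd : π d = a := by simp [hd]
  obtain ⟨A', hA'f, hA'⟩ := C.toSl.mono_norm (C.pres (C.iso hsX)) hA d
  rw [hπd] at hA'
  obtain ⟨Y, hY, hYx⟩ := B.exists_good_through hx ⟨0, hk⟩
  have hY0 : ∀ b, f (Y b) (Y b) ≠ 0 := fun b => by rw [hY.2]; exact hκ
  by_cases hda : d = a
  · rw [hda] at hA'
    have hcen : ∀ U : GL (Fin k) F, A' * A' * U = U * (A' * A') := fun U => by
      have e : s * (s * fac a U) = fac a (A' * (A' * U * A'⁻¹) * A'⁻¹) * (s * s) := by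
        rw [hA', ← mul_assoc s, hA', mul_assoc]
      rw [← mul_assoc, hss, one_mul, mul_one] at e
      have e2 := fac_inj hk a e
      conv_rhs => rw [e2]
      group
    have hinv := C.toSl.invol_of_central hA'f hY hcen
    obtain ⟨z, hz, hzz⟩ := C.toSl.invol_good hA'f fun v => by rw [← mv_mul, hinv, mv_one]
    have hz0 : f z z ≠ 0 := hz ▸ hκ
    have hcz : A' * mr hf z * A'⁻¹ = mr hf z := by
      rw [mr_conj hf hA'f hz0]
      rcases hzz with e | e
      · rw [e]
      · rw [e, ← neg_one_smul F z, mr_smul hf hz0 (neg_ne_zero.2 one_ne_zero)]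
    have hcm : Commute (fac a (mr hf z)) s := by
      show _ = _
      have := hA' (mr hf z)
      rw [hcz] at this
      exact this.symm
    have hm' := C.pair_cent hJ hX B IH hac hx hy (X.mul_mem (X.mul_mem (X.inv_mem hg) (C.mir a z hz)) hg)
      (hback hcm).eq
    obtain ⟨hgi, -⟩ := C.fus hJ hX B IH (X.inv_mem hg) hz (i := a) (by rw [inv_inv]; exact hm')
    simpa using mono_inv hgi
  -- the slot is moved: a square root of a pair commuting with s
  let K : GL (Fin k) F → Prop := fun U => fac a U * fac d (A' * U * A'⁻¹) ∈ X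
  have hKmul : ∀ {U V}, K U → K V → K (U * V) := fun {U V} hU hV => by
    show fac a (U * V) * fac d (A' * (U * V) * A'⁻¹) ∈ X
    have : fac a (U * V) * fac d (A' * (U * V) * A'⁻¹) =
        fac a U * fac d (A' * U * A'⁻¹) * (fac a V * fac d (A' * V * A'⁻¹)) := by
      rw [mul_assoc (fac a U), ← mul_assoc (fac d _), ← fac_comm (Ne.symm hda), mul_assoc (fac a V), ← fac_mul d,
        ← mul_assoc (fac a U), ← fac_mul a]
      congr 2
      group
    rw [this]
    exact X.mul_mem hU hV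
  have hKmr : ∀ v, f v v ≠ 0 → K (mr hf v) := fun v hv => by
    show fac a (mr hf v) * fac d _ ∈ X
    rw [mr_conj hf hA'f hv]
    exact C.pair a d v (mv A' v) (Ne.symm hda) (hA'f v v).symm hv
  set a₀ : Fin k := ⟨0, hk⟩
  have key : ∀ (n : ℕ) (U : Finset (Fin k)), U.card = 2 * n → ∃ W : GL (Fin k) F, K W ∧
      (∀ u v, f (mv W u) (mv W v) = f u v) ∧ (∀ v, (∀ b ∈ U, f v (Y b) = 0) → mv W v = v) ∧
      ∀ b, mv (W * W) (Y b) = if b ∈ U then -Y b else Y b := by
    intro n
    induction n with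
    | zero =>
      intro U hU
      rw [Nat.mul_zero, Finset.card_eq_zero] at hU
      exact ⟨1, by
        show fac a 1 * fac d (A' * 1 * A'⁻¹) ∈ X
        rw [mul_one, mul_inv_cancel, fac_one, fac_one, mul_one]; exact X.one_mem,
        fun u v => by rw [mv_one, mv_one], fun v _ => mv_one v, fun b => by simp [hU, mv_one]⟩
    | succ n ih =>
      intro U hU
      obtain ⟨p, hp⟩ := Finset.card_pos.1 (by omega : 0 < U.card)
      obtain ⟨r, hr⟩ := Finset.card_pos.1 (by rw [Finset.card_erase_of_mem hp]; omega : 0 < (U.erase p).card)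
      obtain ⟨hrp, hrU⟩ := Finset.mem_erase.1 hr
      obtain ⟨W, hKW, hWf, hWfix, hWsq⟩ := ih ((U.erase p).erase r) (by
        rw [Finset.card_erase_of_mem hr, Finset.card_erase_of_mem hp]; omega)
      set P := Y p with hP
      set R := Y r with hR
      have hPR : f P R = 0 := hY.1 p r (Ne.symm hrp)
      have hRP : f R P = 0 := hY.1 r p hrp
      have hPP : f P P = κ := hY.2 p
      have hRR : f R R = κ := hY.2 r
      have hsum : f (P + R) (P + R) = 2 * κ := by
        simp only [hf.add_left, hf.add_right, hPP, hRR, hPR, hRP]; ring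
      have hsum0 : f (P + R) (P + R) ≠ 0 := by rw [hsum]; exact mul_ne_zero h2 hκ
      have hP0 : f P P ≠ 0 := hPP ▸ hκ
      set V := mr hf P * mr hf (P + R) with hV
      have hVP : mv V P = -R := by
        have e : mv (mr hf (P + R)) P = R := by
          rw [mv_mr hf hsum0, hsum, hf.add_right, hPP, hPR, add_zero, div_self (mul_ne_zero h2 hκ), one_smul,
            add_sub_cancel_left]
        rw [hV, mv_mul, e, mr_perp hf hP0 hRP]
      have hVR : mv V R = P := by
        have e : mv (mr hf (P + R)) R = P := by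
          rw [mv_mr hf hsum0, hsum, hf.add_right, hRR, hRP, zero_add, div_self (mul_ne_zero h2 hκ), one_smul,
            add_sub_cancel_right]
        rw [hV, mv_mul, e, mr_self hf hP0]
      have hVfix : ∀ v, f v P = 0 → f v R = 0 → mv V v = v := fun v h1 h3 => by
        rw [hV, mv_mul, mr_perp hf hsum0 (by rw [hf.add_right, h1, h3, add_zero]), mv_neg, mr_perp hf hP0 h1,
          neg_neg]
      have hperp : ∀ b ∈ (U.erase p).erase r, f P (Y b) = 0 ∧ f R (Y b) = 0 := fun b hb => by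
        obtain ⟨hbr, hb'⟩ := Finset.mem_erase.1 hb
        exact ⟨hY.1 p b (Ne.symm (Finset.ne_of_mem_erase hb')), hY.1 r b (Ne.symm hbr)⟩
      have hWP : mv W P = P := hWfix P fun b hb => (hperp b hb).1
      have hWR : mv W R = R := hWfix R fun b hb => (hperp b hb).2
      have hcomm : W * V = V * W := by
        have h1 : W * V * W⁻¹ = V := by
          rw [hV, show W * (mr hf P * mr hf (P + R)) * W⁻¹ = W * mr hf P * W⁻¹ * (W * mr hf (P + R) * W⁻¹) by group,
            mr_conj hf hWf hP0, mr_conj hf hWf hsum0, mv_add, hWP, hWR]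
        exact mul_inv_eq_iff_eq_mul.1 h1
      refine ⟨W * V, hKmul hKW (hKmul (hKmr P hP0) (hKmr _ hsum0)),
        fun u v => by rw [mv_mul W V u, mv_mul W V v, hWf, hV, mv_mul, mv_mul, mr_isom hf hP0, mr_isom hf hsum0],
        fun v hv => ?_, fun b => ?_⟩
      · rw [mv_mul, hVfix v (hv p hp) (hv r hrU), hWfix v fun b hb => hv b
          (Finset.mem_of_mem_erase (Finset.mem_of_mem_erase hb))]
      · rw [show W * V * (W * V) = W * W * (V * V) by rw [mul_assoc W V, ← mul_assoc V W, ← hcomm]; group, mv_mul]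
        by_cases hbp : b = p
        · subst hbp
          rw [mv_mul V V, ← hP, hVP, mv_neg, hVR, mv_neg, hP, hWsq, if_neg (by simp), if_pos hp]
        by_cases hbr : b = r
        · subst hbr
          rw [mv_mul V V, ← hR, hVR, hVP, mv_neg, hR, hWsq, if_neg (by simp), if_pos hrU]
        rw [mv_mul V V, hVfix (Y b) (hY.1 b p hbp) (hY.1 b r hbr), hVfix (Y b) (hY.1 b p hbp) (hY.1 b r hbr), hWsq]
        by_cases hbU : b ∈ U
        · rw [if_pos (Finset.mem_erase.2 ⟨hbr, Finset.mem_erase.2 ⟨hbp, hbU⟩⟩), if_pos hbU]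
        · rw [if_neg (fun h => hbU (Finset.mem_of_mem_erase (Finset.mem_of_mem_erase h))), if_neg hbU]
  obtain ⟨n, hn⟩ := C.odd
  obtain ⟨W, hKW, hWf, -, hWsq⟩ := key n (Finset.univ.erase a₀) (by
    rw [Finset.card_erase_of_mem (Finset.mem_univ _), Finset.card_univ, Fintype.card_fin]; omega)
  have hWW : W * W = mr hf x := ext_frame hf hY.1 hY0 fun b => by
    rw [hWsq]
    by_cases hb : b = a₀
    · subst hb; rw [if_neg (Finset.notMem_erase _ _), hYx, mr_self hf hx0]
    · rw [if_pos (Finset.mem_erase.2 ⟨hb, Finset.mem_univ b⟩),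
        mr_perp hf hx0 (by rw [← hYx]; exact hY.1 b a₀ hb)]
  set D := fac a W * fac d (A' * W * A'⁻¹) with hD
  have hDX : D ∈ X := hKW
  have hDs : Commute D s := by
    show fac a W * fac d (A' * W * A'⁻¹) * s = s * (fac a W * fac d (A' * W * A'⁻¹))
    have h1 := hA' W
    have h1' : s * fac d (A' * W * A'⁻¹) = fac a W * s := by
      calc s * fac d (A' * W * A'⁻¹) = s * (fac d (A' * W * A'⁻¹) * s) * s := by
            rw [mul_assoc s, mul_assoc (fac d (A' * W * A'⁻¹)) s s, hss, mul_one]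
        _ = s * (s * fac a W) * s := by rw [h1]
        _ = fac a W * s := by rw [← mul_assoc, hss, one_mul]
    rw [← mul_assoc, h1, mul_assoc (fac d _), h1', ← mul_assoc, fac_comm (Ne.symm hda)]
  have huX : g⁻¹ * D * g ∈ X := X.mul_mem (X.mul_mem (X.inv_mem hg) hDX) hg
  have hum := C.pair_cent hJ hX B IH hac hx hy huX (hback hDs).eq
  set u := g⁻¹ * D * g with hu
  have hu2 : u * u * fac a (mr hf x) * (u * u)⁻¹ = fac a (mr hf x) := by
    rw [show u * u * fac a (mr hf x) * (u * u)⁻¹ = u * (u * fac a (mr hf x) * u⁻¹) * u⁻¹ by group]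
    rcases C.pair_perm hJ hX B IH hac hx hy huX hum (hback hDs).eq with ⟨e1, -⟩ | ⟨e1, e2⟩
    · rw [e1, e1]
    · rw [e1, e2]
  have hA'x : f (mv A' x) (mv A' x) = κ := by rw [hA'f, hx]
  have hDD : D * D = fac a (mr hf x) * fac d (mr hf (mv A' x)) := by
    rw [hD, mul_assoc (fac a W), ← mul_assoc (fac d _), ← fac_comm (Ne.symm hda), mul_assoc (fac a W), ← fac_mul d,
      ← mul_assoc (fac a W), ← fac_mul a, hWW]
    congr 2
    rw [show A' * W * A'⁻¹ * (A' * W * A'⁻¹) = A' * (W * W) * A'⁻¹ by group, hWW, mr_conj hf hA'f hx0]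
  set t₀ := g * fac a (mr hf x) * g⁻¹ with ht₀
  have ht₀m : Mono t₀ := by
    refine C.pair_cent hJ hX B IH (Ne.symm hda) hx hA'x (X.mul_mem (X.mul_mem hg (C.mir a x hx)) (X.inv_mem hg)) ?_
    rw [← hDD]
    have h3 : g * (u * u * fac a (mr hf x) * (u * u)⁻¹) * g⁻¹ = t₀ := by rw [hu2]
    have h4 : D * D * t₀ * (D * D)⁻¹ = t₀ := by
      calc D * D * t₀ * (D * D)⁻¹ = g * (u * u * fac a (mr hf x) * (u * u)⁻¹) * g⁻¹ := by rw [ht₀, hu]; group
        _ = t₀ := h3
    exact (mul_inv_eq_iff_eq_mul.1 h4).symm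
  exact (C.fus hJ hX B IH hg hx ht₀m).1

/-- Every member is monomial. -/
theorem all_mono {g : GL (J → Fin k) F} (hg : g ∈ X) : Mono g := by
  classical
  have hf := C.hf
  have hk : 0 < k := by have := C.hk; omega
  obtain ⟨x, hx⟩ := C.toSl.exists_aniso
  have hx0 : f x x ≠ 0 := hx ▸ C.hκ
  obtain ⟨a, c, hac⟩ := Fintype.exists_pair_of_one_lt_card (α := J) (by omega)
  set q := fac a (mr hf x) * fac c (mr hf x) with hq
  set t := fac (J := J) a (mr hf x) with ht
  have htt : t * t = 1 := by rw [ht, ← fac_mul, mr_sq hf hx0, fac_one]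
  have htX : t ∈ X := C.mir a x hx
  have hqm : Mono q := mono_mul ⟨1, monoOf_fac a _⟩ ⟨1, monoOf_fac c _⟩
  have hqX : q ∈ X := X.mul_mem (C.mir a x hx) (C.mir c x hx)
  have hqq : q * q = 1 := by
    rw [hq, mul_assoc, ← mul_assoc (fac c (mr hf x)), ← fac_comm hac, mul_assoc, ← fac_mul c, mr_sq hf hx0, fac_one,
      mul_one, ← fac_mul, mr_sq hf hx0, fac_one]
  set s := g * q * g⁻¹ with hs
  clear_value s
  have hsX : s ∈ X := by rw [hs]; exact X.mul_mem (X.mul_mem hg hqX) (X.inv_mem hg)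
  have hss : s * s = 1 := by
    rw [hs, show g * q * g⁻¹ * (g * q * g⁻¹) = g * (q * q) * g⁻¹ by group, hqq, mul_one, mul_inv_cancel]
  have hτX : ∀ m : ℕ, (t * s) ^ m ∈ X := fun m => X.pow_mem (X.mul_mem htX hsX) m
  refine C.pair_fus hJ hX B IH hg hac hx hx ?_
  rw [← hq, ← hs]
  rcases Nat.even_or_odd (orderOf (t * s)) with ⟨r, hr⟩ | ⟨m, hm⟩
  swap
  · exfalso
    have e := dih_odd htt hss hm
    have e' : g⁻¹ * (t * s) ^ m * t * (g⁻¹ * (t * s) ^ m)⁻¹ = q := by
      rw [show g⁻¹ * (t * s) ^ m * t * (g⁻¹ * (t * s) ^ m)⁻¹ = g⁻¹ * ((t * s) ^ m * t * ((t * s) ^ m)⁻¹) * g by group,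
        ← e, hs]
      group
    obtain ⟨-, j, z, -, hj⟩ := C.fus hJ hX B IH (X.mul_mem (X.inv_mem hg) (hτX m)) hx (i := a) (by
      rw [← ht, e']; exact hqm)
    rw [← ht, e'] at hj
    exact C.toSl.pair_ne hac hx0 hx0 _ hj
  obtain ⟨hwt, hws, hw1⟩ := dih_mid htt hss (show orderOf (t * s) = 2 * r by omega)
  set w := (t * s) ^ r with hw
  have hwm : Mono w := (C.fus hJ hX B IH (hτX r) hx (i := a) (by
    rw [← hw, ← ht, ← hwt, mul_inv_cancel_right]; exact ⟨1, monoOf_fac a _⟩)).1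
  have htwm : Mono (t * w) := mono_mul ⟨1, monoOf_fac a _⟩ hwm
  have htw : t * (t * w) = t * w * t := by
    conv_lhs => rw [hwt]
    rw [mul_assoc]
  have hwe : w = t * (t * w) := by rw [← mul_assoc, htt, one_mul]
  rcases Nat.even_or_odd r with ⟨m, hrm⟩ | ⟨m, hrm⟩
  · have e := dih_even htt hss m
    rw [show 2 * m = r by omega, ← hw] at e
    obtain ⟨-, j, z, hz, hj⟩ := C.fus hJ hX B IH (X.inv_mem (hτX m)) hx (i := a) (by
      rw [inv_inv, ← ht, ← e]; exact htwm)
    rw [inv_inv, ← ht, ← e] at hj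
    by_cases hja : j = a
    · subst hja
      rcases C.toSl.fac_cases hx hz (by rw [← ht, ← hj]; exact htw) with e' | e'
      · exact absurd (by rw [hwe, hj, ← e', ← ht, htt]) hw1
      · refine C.plane_cent hJ hX B IH hsX (i := j) hx hz e' ?_
        rw [fac_mul, ← ht, ← hj, ← hwe]
        exact hws
    · refine C.pair_cent hJ hX B IH (Ne.symm hja) hx hz hsX ?_
      rw [← ht, ← hj, ← hwe]
      exact hws
  · have e := dih_succ htt hss m
    rw [← hrm, ← hw] at e
    set h := ((t * s) ^ m)⁻¹ * g with hh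
    have e' : h * q * h⁻¹ = t * w := by rw [e, hh, hs]; group
    have hhX : h ∈ X := X.mul_mem (X.inv_mem (hτX m)) hg
    have hcq : Commute (h⁻¹ * t * h) q := by
      show _ = _
      calc h⁻¹ * t * h * q = h⁻¹ * (t * (h * q * h⁻¹)) * h := by group
        _ = h⁻¹ * (h * q * h⁻¹ * t) * h := by rw [e', htw]
        _ = q * (h⁻¹ * t * h) := by group
    have hhi := (C.fus hJ hX B IH (X.inv_mem hhX) hx (i := a) (by
      rw [inv_inv, ← ht]
      exact C.pair_cent hJ hX B IH hac hx hx (X.mul_mem (X.mul_mem (X.inv_mem hhX) htX) hhX) hcq.eq)).1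
    have hhm : Mono h := by simpa using mono_inv hhi
    obtain ⟨σ, hσ⟩ := mono_iff.1 hhm
    have himg : ∀ i, ∃ z, f z z = κ ∧ h * fac i (mr hf x) * h⁻¹ = fac (σ⁻¹ i) (mr hf z) := fun i => by
      obtain ⟨D, hD⟩ := MonoOf.conj_fac hσ i
      obtain ⟨-, j, z, hz, hj⟩ := C.fus hJ hX B IH hhX hx (i := i)
        (mono_mul (mono_mul hhm ⟨1, monoOf_fac i _⟩) (mono_inv hhm))
      obtain rfl : j = σ⁻¹ i := C.toSl.slot_eq (hz ▸ C.hκ : f z z ≠ 0) (hj.symm.trans (hD _))
      exact ⟨z, hz, hj⟩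
    obtain ⟨z, hz, hja⟩ := himg a
    obtain ⟨z', hz', hjc⟩ := himg c
    have hjj : σ⁻¹ a ≠ σ⁻¹ c := fun e => hac (σ⁻¹.injective e)
    have hsplit : t * w = fac (σ⁻¹ a) (mr hf z) * fac (σ⁻¹ c) (mr hf z') := by
      rw [← e', ← hja, ← hjc, hq, ht]; group
    have hcase : ∀ (l : J) (p p' : Fin k → F), f p p = κ → f p' p' = κ → l ≠ a →
        t * w = fac a (mr hf p) * fac l (mr hf p') → Mono s := by
      intro l p p' hp hp' hla h1
      have hp'0 : f p' p' ≠ 0 := hp' ▸ C.hκ
      have hcom : fac a (mr hf x) * fac a (mr hf p) = fac a (mr hf p) * fac a (mr hf x) := by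
        have h3 := htw
        rw [h1, ← ht] at *
        rw [mul_assoc (fac a (mr hf p)), fac_comm hla, ← mul_assoc, ← mul_assoc, ← ht] at h3
        exact mul_right_cancel h3
      rcases C.toSl.fac_cases hx hp hcom with e1 | e1
      · have hwl : w = fac l (mr hf p') := by rw [hwe, h1, ← e1, ← ht, ← mul_assoc, htt, one_mul]
        refine (C.fus hJ hX B IH hsX hp' (i := l) ?_).1
        rw [← hwl, hws, mul_inv_cancel_right, hwl]
        exact ⟨1, monoOf_fac l _⟩
      · refine C.mir_cent hJ hX B IH hp' (w₀ := fac a (mr hf x * mr hf p))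
          (fun T => fac_comm hla.symm _ _) hsX ?_
        rw [fac_comm hla (mr hf p') (mr hf x * mr hf p), fac_mul, mul_assoc, ← ht, ← h1, ← hwe]
        exact hws
    by_cases ha : σ⁻¹ a = a
    · exact hcase _ z z' hz hz' (fun e => hjj (ha.trans e.symm)) (by rw [hsplit, ha])
    by_cases hc' : σ⁻¹ c = a
    · exact hcase _ z' z hz' hz ha (by rw [hsplit, fac_comm hjj, hc'])
    refine C.mir_cent hJ hX B IH hx (c := a) (w₀ := fac (σ⁻¹ a) (mr hf z) * fac (σ⁻¹ c) (mr hf z'))
      (fun T => by rw [mul_assoc, fac_comm hc', ← mul_assoc, fac_comm ha, mul_assoc]) hsX ?_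
    rw [← hsplit, ← ht, ← hwe]
    exact hws

end Ctx

end Cfsg.Agent.OrthWreath
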