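/-
The stabiliser of a tensor power of an orthogonal form of odd dimension is maximal.
-/
import Cfsg.Agent.Lib.OrthWreath.Top
import Cfsg.Agent.Lib.FormWreath.OmegaMax
import Cfsg.Agent.Lib.Transvec.OrthStab

set_option autoImplicit false
set_option linter.unusedSectionVars false

namespace Cfsg.Agent.OrthWreath

open scoped Matrix
open Matrix Cfsg.Agent.Transvec Cfsg.Agent.TensorMax Cfsg.Agent.WreathMax Cfsg.Agent.FormWreath
open Cfsg.Agent.UWreath (mono_mul mono_inv)

variable {F : Type*} [Field F] [Finite F] {k : ℕ} {f : (Fin k → F) → (Fin k → F) → F} {κ : F}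

local notation "σ₁" => RingEquiv.refl F

/-- Proper groups over the monomial part are monomial. -/
theorem all_mono_of_proper : ∀ (n : ℕ) (J : Type) [Fintype J] [DecidableEq J], Fintype.card J = n →
    ∀ (Q : ((J → Fin k) → F) → F) (X : Subgroup (GL (J → Fin k) F)),
      Base f Q κ → Ctx f Q κ X → ¬ Geo.omegaGL Q ≤ X → ∀ g ∈ X, Mono g := by
  intro n
  induction n using Nat.strong_induction_on with
  | _ n ih =>
    intro J _ _ hn Q X B C hX g hg
    exact C.all_mono B.hJ hX B (fun J' _ _ h Q' X' B' C' h' => ih _ (hn ▸ h) J' rfl Q' X' B' C' h') hg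

omit [Finite F] in
theorem sym_of_symm (hf : Geo.IsSymmetricForm f) : Sym f where
  add_left := hf.bilinear.add_left
  smul_left := hf.bilinear.smul_left
  symm x y := by rw [RingEquiv.refl_apply, one_mul]; exact hf.symm x y
  inv _ := rfl
  eps := by simp
  nondeg x hx := by
    by_contra h
    obtain ⟨y, hy⟩ := (hf.nondegenerate x h).2
    exact hy (hx y)

/-- An orthogonal family whose values but the last are one. -/
theorem exists_orth_ones (S : Sl f κ) : ∀ (n : ℕ) (P : Submodule F (Fin k → F)),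
    (∀ u ∈ P, (∀ w ∈ P, f w u = 0) → u = 0) → Module.finrank F P = n + 1 →
    ∃ y : Fin (n + 1) → Fin k → F, (∀ a, y a ∈ P) ∧ (∀ a b, a ≠ b → f (y a) (y b) = 0) ∧
      (∀ a, a ≠ 0 → f (y a) (y a) = 1) ∧ f (y 0) (y 0) ≠ 0 := by
  have hf := S.hf
  intro n
  induction n with
  | zero =>
    intro P hP h1
    have hn : Transvec.Orth.Nondeg (qf f) P := fun u hu h => hP u hu fun w hw => by
      rw [← pol_qf hf S.two]; exact h w hw
    obtain ⟨x, hx, hxq⟩ := Transvec.Orth.exists_anisotropic (qf_nondeg hf S.two) hn fun h => by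
      rw [h, finrank_bot] at h1; omega
    refine ⟨fun _ => x, fun _ => hx, fun a b hab => absurd (Fin.ext (by omega)) hab,
      fun a ha => absurd (Fin.ext (by simp)) ha, fun e => hxq (by rw [qf, e, zero_div])⟩
  | succ n ih =>
    intro P hP h1
    obtain ⟨x, hx, hx1⟩ := S.exists_value hP (by omega) 1
    have hxx : f x x ≠ 0 := by rw [hx1]; exact one_ne_zero
    set P' := P ⊓ LinearMap.ker (hf.formL x) with hP'
    have hlt : P' < P := lt_of_le_of_ne inf_le_left fun e => hxx (by
      have : x ∈ P' := by rw [e]; exact hx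
      rw [hP', Submodule.mem_inf, LinearMap.mem_ker, SF.formL_apply] at this
      exact this.2)
    have h2 : Module.finrank F P' = n + 1 := by
      have h3 := finrank_perp_ge hf P x
      have := Submodule.finrank_lt_finrank_of_lt hlt
      rw [← hP'] at h3
      omega
    obtain ⟨y, hyP, hyo, hy1, hy0⟩ := ih P' (perp_nondeg hf hP hx hxx) h2
    have hyx : ∀ a, f (y a) x = 0 := fun a => by
      have := hyP a
      rw [hP', Submodule.mem_inf, LinearMap.mem_ker, SF.formL_apply] at this
      exact this.2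
    refine ⟨Fin.snoc y x, fun a => ?_, fun a b hab => ?_, fun a ha => ?_, ?_⟩
    · induction a using Fin.lastCases with
      | last => rw [Fin.snoc_last]; exact hx
      | cast a => rw [Fin.snoc_castSucc]; exact (Submodule.mem_inf.1 (hyP a)).1
    · induction a using Fin.lastCases with
      | last =>
        induction b using Fin.lastCases with
        | last => exact absurd rfl hab
        | cast b => rw [Fin.snoc_last, Fin.snoc_castSucc, hf.comm', hyx]
      | cast a =>
        induction b using Fin.lastCases with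
        | last => rw [Fin.snoc_last, Fin.snoc_castSucc, hyx]
        | cast b =>
          rw [Fin.snoc_castSucc, Fin.snoc_castSucc]
          exact hyo a b fun e => hab (by rw [e])
    · induction a using Fin.lastCases with
      | last => rw [Fin.snoc_last]; exact hx1
      | cast a => rw [Fin.snoc_castSucc]; exact hy1 a fun e => ha (by rw [e, Fin.castSucc_zero])
    · rw [← Fin.castSucc_zero, Fin.snoc_castSucc]; exact hy0

/-- Some value κ admits a frame. -/
theorem exists_frameVal (S : Sl f κ) : ∃ κ' : F, κ' ≠ 0 ∧ FrameVal f κ' := by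
  obtain ⟨n, rfl⟩ : ∃ n, k = n + 1 := ⟨k - 1, by have := S.hk; omega⟩
  obtain ⟨y, -, hyo, hy1, hy0⟩ := exists_orth_ones S n ⊤
    (fun u _ h => S.hf.nondeg u fun z => by rw [S.hf.comm']; exact h z Submodule.mem_top)
    (by rw [finrank_top, Module.finrank_fintype_fun_eq_card, Fintype.card_fin])
  exact ⟨_, hy0, y, 0, 1, one_ne_zero, hyo, hy1, rfl⟩

/-- The commutator subgroup has a member that is not monomial. -/
theorem exists_not_mono {J : Type} [Fintype J] [DecidableEq J] {Q : ((J → Fin k) → F) → F} (B : Base f Q κ) :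
    ∃ g ∈ Geo.omegaGL Q, ¬ Mono g := by
  classical
  have hf := B.hf
  have hk3 := B.hk
  haveI : Fintype F := Fintype.ofFinite F
  haveI : Nonempty J := Fintype.card_pos_iff.1 (by have := B.hJ; omega)
  obtain ⟨a, b, hab⟩ := Fintype.exists_pair_of_one_lt_card (α := J) (by have := B.hJ; omega)
  obtain ⟨c, hc0, hc⟩ := B.toSl.exists_isotropic
  obtain ⟨d, hd, hcd⟩ := B.toSl.exists_pair hc0 hc
  obtain ⟨x, hxc, -, hx⟩ := B.toSl.exists_W_aniso hc hd hcd
  set u := pten (fun _ : J => c)
  set y := pten (Function.update (fun _ : J => x) a c)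
  have hu : Q u = 0 := by
    refine mul_left_cancel₀ B.two ?_
    rw [mul_zero, ← Transvec.Orth.pol_self B.hQ, B.hpol, Bt_pten hf]
    exact Finset.prod_eq_zero (Finset.mem_univ a) hc
  have huy : Transvec.Orth.pol Q u y = 0 := by
    rw [B.hpol, Bt_pten hf]
    exact Finset.prod_eq_zero (Finset.mem_univ a) (by rw [Function.update_self, hc])
  obtain ⟨g, hg, hgs⟩ := Transvec.Orth.exists_siegel B.hQ hu huy
  have hn : 7 ≤ Fintype.card (J → Fin k) := by have := B.card_ge; omega
  refine ⟨g, Transvec.Orth.siegel_mem_omega B.hQ hn hu huy hgs, fun ⟨σ, hσ⟩ => ?_⟩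
  set z := pten (fun _ : J => d)
  have hzu : Transvec.Orth.pol Q z u = 1 := by
    rw [B.hpol, Bt_pten hf]
    exact Finset.prod_eq_one fun _ _ => by rw [hf.comm', hcd]
  have hne : g ≠ 1 := fun e => by
    have h := hgs z
    rw [e, mv_one, hzu, one_smul] at h
    have h' : y = (Transvec.Orth.pol Q z y + Q y * 1) • u := by linear_combination (norm := module) (-1 : F) • h
    have h1 := congrArg (fun v => Bt σ₁ f v (pten (Function.update (fun _ : J => x) a d))) h'
    simp only [(Bt_sym hf).smul_left] at h1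
    rw [Bt_pten hf, Bt_pten hf,
      Finset.prod_eq_zero (f := fun j => f c (Function.update (fun _ : J => x) a d j)) (Finset.mem_univ b) (by
        rw [Function.update_of_ne hab.symm, hf.comm', hxc]), mul_zero] at h1
    refine Finset.prod_ne_zero_iff.2 (fun j _ => ?_) h1
    by_cases hj : j = a
    · rw [hj, Function.update_self, Function.update_self, hcd]; exact one_ne_zero
    · rw [Function.update_of_ne hj, Function.update_of_ne hj]; exact hx
  have h3 := (mono_rank hk3 hσ hne).1
  have h4 : Module.finrank F (LinearMap.range (WreathMax.dev g)) ≤ 2 := by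
    refine (Submodule.finrank_mono (t := Submodule.span F (Set.range ![u, y])) ?_).trans
      ((finrank_range_le_card (R := F) ![u, y]).trans (by simp))
    rintro _ ⟨v, rfl⟩
    rw [WreathMax.dev_apply, hgs, show v + Transvec.Orth.pol Q v u • y -
      (Transvec.Orth.pol Q v y + Q y * Transvec.Orth.pol Q v u) • u - v =
      Transvec.Orth.pol Q v u • y - (Transvec.Orth.pol Q v y + Q y * Transvec.Orth.pol Q v u) • u by abel]
    exact Submodule.sub_mem _ (Submodule.smul_mem _ _ (Submodule.subset_span ⟨1, rfl⟩))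
      (Submodule.smul_mem _ _ (Submodule.subset_span ⟨0, rfl⟩))
  have h5 : k ^ 2 ≤ k ^ Fintype.card J := Nat.pow_le_pow_right (by omega) B.hJ
  have h6 := h3.trans (Nat.mul_le_mul_left k h4)
  rw [pow_two] at h5
  have h7 : 3 * k ≤ k * k := Nat.mul_le_mul_right k hk3
  omega

/-- The monomial members form a maximal subgroup of the commutator subgroup. -/
theorem odd_maximal_std {t : ℕ} {Q : ((Fin t → Fin k) → F) → F} (B : Base f Q κ) :
    Geo.IsMaximalIn (Geo.omegaGL Q) (Geo.tensorWreathStandard k t F ⊓ Geo.omegaGL Q) := by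
  classical
  refine ⟨lt_of_le_of_ne inf_le_right fun heq => ?_, fun M h1 h2 => ?_⟩
  · obtain ⟨g, hg, hnot⟩ := exists_not_mono B
    rw [← heq] at hg
    exact hnot ((mem_standard_iff _).1 hg.1)
  by_cases hM : Geo.omegaGL Q ≤ M
  · exact Or.inr (le_antisymm h2 hM)
  · refine Or.inl (le_antisymm (fun g hg => ⟨(mem_standard_iff g).2 ?_, h2 hg⟩) h1)
    exact all_mono_of_proper _ (Fin t) rfl Q M B
      (B.ctx h2 fun g hg hm => h1 ⟨(mem_standard_iff g).2 hm, hg⟩) hM g hg

/-- The stabiliser of an orthogonal tensor power decomposition of odd dimension is maximal. -/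
theorem orth_odd_tensor_wreath_maximal {ι : Type} [Fintype ι] [DecidableEq ι] (hι : 13 ≤ Fintype.card ι)
    (hιodd : Odd (Fintype.card ι)) (h2 : (2 : F) ≠ 0) (Q : (ι → F) → F) (hQ : Geo.IsNondegenerateQuadraticForm Q)
    (k' t : ℕ) (hk : 3 ≤ k') (ht : 2 ≤ t) (hex : 5 ≤ Nat.card F ∨ 5 ≤ k') (e : ι ≃ (Fin t → Fin k')) (P : GL ι F)
    (f₁ : (Fin k' → F) → (Fin k' → F) → F) (hf₁ : Geo.IsSymmetricForm f₁)
    (hT : Geo.IsTensorPowerFormStructure id (QuadraticMap.polar Q) f₁ e P) :
    Geo.IsMaximalIn (Geo.omegaGL Q) (Geo.tensorWreathSubgroup k' t e P ⊓ Geo.omegaGL Q) := by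
  classical
  have hkodd : Odd k' := by
    have h := Fintype.card_congr e
    simp only [Fintype.card_fun, Fintype.card_fin] at h
    rw [h, Nat.odd_pow_iff (by omega)] at hιodd
    exact hιodd
  have hs := sym_of_symm hf₁
  have S₁ : Sl f₁ 1 := ⟨hs, h2, hk, hkodd, hex, one_ne_zero⟩
  obtain ⟨κ', hκ', hfr⟩ := exists_frameVal S₁
  obtain ⟨c, hc, hT⟩ := hT
  set Q' : ((Fin t → Fin k') → F) → F := fun x => c⁻¹ * Q (mv P (x ∘ e)) with hQ'def
  have hB := Bt_sym (J := Fin t) hs
  have hpol' : ∀ x y, Transvec.Orth.pol Q' x y = Bt σ₁ f₁ x y := fun x y => by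
    have e1 : Transvec.Orth.pol Q' x y = c⁻¹ * QuadraticMap.polar Q (mv P (x ∘ e)) (mv P (y ∘ e)) := by
      simp only [hQ'def, Transvec.Orth.pol, QuadraticMap.polar, ← mv_add]
      rw [show (x + y) ∘ e = x ∘ e + y ∘ e from rfl]
      ring
    rw [e1, show QuadraticMap.polar Q (mv P (x ∘ e)) (mv P (y ∘ e)) = c * Bt σ₁ f₁ x y from hT x y,
      inv_mul_cancel_left₀ hc]
  have hQ' : Geo.IsNondegenerateQuadraticForm Q' := by
    refine ⟨fun r v => ?_, ⟨fun x y v => ?_, fun r x v => ?_, fun v x y => ?_, fun r v x => ?_⟩, fun v hv => ?_⟩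
    · simp only [hQ'def]
      rw [show (r • v) ∘ e = r • (v ∘ e) from rfl, mv_smul, Transvec.Orth.q_smul hQ]
      ring
    · show Transvec.Orth.pol Q' _ _ = Transvec.Orth.pol Q' _ _ + Transvec.Orth.pol Q' _ _
      rw [hpol', hpol', hpol', hB.add_left]
    · show Transvec.Orth.pol Q' _ _ = r * Transvec.Orth.pol Q' _ _
      rw [hpol', hpol', hB.smul_left]
    · show Transvec.Orth.pol Q' _ _ = Transvec.Orth.pol Q' _ _ + Transvec.Orth.pol Q' _ _
      rw [hpol', hpol', hpol', hB.add_right]
    · show Transvec.Orth.pol Q' _ _ = r * Transvec.Orth.pol Q' _ _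
      rw [hpol', hpol', hB.smul_right']
    · obtain ⟨y, hy⟩ : ∃ y, Bt σ₁ f₁ v y ≠ 0 := by
        by_contra hcon
        push Not at hcon
        exact hv (hB.nondeg v hcon)
      refine ⟨⟨y, show Transvec.Orth.pol Q' y v ≠ 0 from ?_⟩, ⟨y, show Transvec.Orth.pol Q' v y ≠ 0 from ?_⟩⟩
      · rw [Transvec.Orth.pol_comm, hpol']; exact hy
      · rw [hpol']; exact hy
  have B : Base f₁ Q' κ' :=
    { toSl := ⟨hs, h2, hk, hkodd, hex, hκ'⟩, hQ := hQ', hpol := hpol',
      hJ := by rw [Fintype.card_fin]; exact ht, frame := hfr }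
  have h' := TensorMax.isMaximalIn_map (MulAut.conj P)
    (TensorMax.isMaximalIn_map (Geo.glReindex e.symm) (odd_maximal_std B))
  simp only [Subgroup.map_inf _ _ (Geo.glReindex (F := F) e.symm).toMonoidHom (Geo.glReindex e.symm).injective,
    Subgroup.map_inf _ _ (MulAut.conj P).toMonoidHom (MulAut.conj P).injective] at h'
  rw [TensorMax.S.map_omega e P hQ hQ' (inv_ne_zero hc) (fun x => rfl) (by omega)] at h'
  exact h'

end Cfsg.Agent.OrthWreath
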